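import Groth.Agent.VBLib.Slope
import Groth.Agent.ShStabLib.Simple
/-!
Endomorphisms are scalars when all nonzero ones are isomorphisms.
-/

set_option autoImplicit false
set_option backward.isDefEq.respectTransparency false
set_option linter.style.haveILetI false

universe u

open CategoryTheory CategoryTheory.Limits AlgebraicGeometry TopologicalSpace

noncomputable section

namespace Groth.Agent.VBLib

variable (k : Type u) [Field k] [IsAlgClosed k] {X : Scheme.{u}} [X.Over (Spec (CommRingCat.of k))]
  [IsProper (X ↘ Spec (CommRingCat.of k))]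

theorem toSheaf_mulEnd (E : X.Modules) (a : Coh.Γtop X) :
    (SheafOfModules.toSheaf X.ringCatSheaf).map (FactorOne.mulEnd E a) = Coh.smulAb E a := by
  ext U m
  exact ((FactorOne.mulEnd_app E a (Opposite.unop U) m).trans (Coh.smulAb_app E a U m).symm)

theorem exists_scalar {E : X.Modules} (hE : Coh.IsCoh E) (hne : ¬ IsZero E)
    (hiso : ∀ g : E ⟶ E, g ≠ 0 → IsIso g) (φ : E ⟶ E) :
    ∃ c : k, (SheafOfModules.toSheaf X.ringCatSheaf).map φ =
      Coh.smulAb E (Coh.toGlobal (X ↘ Spec (CommRingCat.of k)) c) := by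
  haveI := EulerIneqLib.isNoetherian_proper (X := X) k
  obtain ⟨x, hx, hxc⟩ := (DevLib.isClosed_support hE).exists_closed_singleton
    (Set.nonempty_iff_ne_empty.2 fun h => hne (DevLib.isZero_of_support_empty h))
  haveI := hE.1
  haveI := PullbackMod.finite_stalk_of_isFT (M := E) hE.2 x
  haveI : Nontrivial (E.presheaf.stalk x) := not_subsingleton_iff_nontrivial.1 hx
  obtain ⟨c, hc⟩ := ShStabLib.exists_scalar_not_bijective _ (ShStabLib.residue_toGlobal_surjective k x hxc)
    (PullbackMod.stalkLin φ x)
  refine ⟨c, ?_⟩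
  rw [← toSheaf_mulEnd]
  refine congrArg _ (by_contra fun hne' => hc ?_)
  set g := φ - FactorOne.mulEnd E (Coh.toGlobal (X ↘ Spec (CommRingCat.of k)) c)
  haveI := hiso g (sub_ne_zero.2 hne')
  have e : PullbackMod.stalkLin g x = PullbackMod.stalkLin φ x -
      (X.presheaf.germ ⊤ x trivial).hom (Coh.toGlobal (X ↘ Spec (CommRingCat.of k)) c) • LinearMap.id := by
    refine LinearMap.ext fun z => ?_
    obtain ⟨U, hxU, m, rfl⟩ := TopCat.Presheaf.exists_germ_eq E.presheaf z
    rw [LinearMap.sub_apply, LinearMap.smul_apply, LinearMap.id_apply, PullbackMod.stalkLin_germ,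
      PullbackMod.stalkLin_germ]
    show E.presheaf.germ U x hxU (φ.app U m - (FactorOne.mulEnd E _).app U m) = _
    rw [map_sub, FactorOne.mulEnd_app, HomLib.germ_smul', TopCat.Presheaf.germ_res_apply]
  have hb := (PullbackMod.isIso_iff_stalk g).1 inferInstance x
  rw [e] at hb
  exact hb

end Groth.Agent.VBLib
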