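import Groth.Agent.VBLib.Sub
/-!
Fitting decomposition for endomorphisms of bundles.
-/

set_option autoImplicit false
set_option backward.isDefEq.respectTransparency false
set_option linter.style.haveILetI false

universe u

open CategoryTheory CategoryTheory.Limits AlgebraicGeometry TopologicalSpace
open Groth.Agent.PullbackMod Groth.Agent.DevLib Groth.Agent.QCohLib

noncomputable section

namespace Groth.Agent.VBLib

variable (k : Type u) [Field k] {X : Scheme.{u}} [X.Over (Spec (CommRingCat.of k))]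
  [IsProper (X ↘ Spec (CommRingCat.of k))] [IsIntegral X] [IsNoetherian X] [IsRegCurve X]

attribute [local irreducible] dg grk

include k in
/-- An endomorphism of an indecomposable bundle is nilpotent or invertible. -/
theorem isNilpotent_or_isIso (hdim : topologicalKrullDim X ≤ 1) {E : X.Modules} {r : ℕ}
    (hE : FlatMod.IsFinLocFreeOfRank r E)
    (hind : ∀ (E₁ E₂ : X.Modules), Nonempty (E ≅ E₁ ⊞ E₂) → IsZero E₁ ∨ IsZero E₂) (g : End E) :
    IsNilpotent g ∨ IsIso (g : E ⟶ E) := by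
  classical
  have hEc := isCoh_of_rank hE
  obtain ⟨N, hN⟩ := bddAbove_dg k hdim hEc
  let P : ℕ → ℤ → Prop := fun m d => ∃ (n : ℕ) (I : X.Modules) (p : E ⟶ I) (i : I ⟶ E),
    0 < n ∧ Mono i ∧ Epi p ∧ p ≫ i = (g ^ n : End E) ∧ Coh.IsCoh I ∧ grk I = m ∧ dg k I = d
  have hbd : ∀ m d, P m d → dg k E - N ≤ d := by
    rintro m d ⟨n, I, p, i, -, -, hp, -, hI, -, rfl⟩
    haveI := hp
    obtain ⟨hK, -, h2⟩ := kernel_add k p hEc hI
    have := hN _ (kernel.ι p) inferInstance hK
    omega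
  have hne : ∃ m d, P m d := by
    obtain ⟨I, p, i, hi, hp, hpi, hI, -, -, -⟩ := exists_image k (g : E ⟶ E) hEc hEc
    exact ⟨_, _, 1, I, p, i, Nat.one_pos, hi, hp, by rw [hpi, pow_one], hI, rfl, rfl⟩
  have hmin := Nat.find_spec hne
  obtain ⟨d, ⟨n, I, p, i, hn, hi, hp, hpi, hI, hm, hd⟩, hleast⟩ :=
    Int.exists_least_of_bdd (P := P (Nat.find hne)) ⟨dg k E - N, hbd _⟩ hmin
  haveI := hi
  haveI := hp
  obtain ⟨J, π, ι, hι, hπ, hπι, hJ, hKq, hq1, hq2⟩ := exists_image k (i ≫ p) hI hI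
  haveI := hι
  haveI := hπ
  have hP : P (grk J) (dg k J) := by
    refine ⟨n + n, J, p ≫ π, ι ≫ i, by omega, mono_comp _ _, epi_comp _ _, ?_, hJ, rfl, rfl⟩
    rw [pow_add, End.mul_def, ← hpi, Category.assoc, ← Category.assoc π, hπι]
    simp only [Category.assoc]
  obtain ⟨hC, hC1, -⟩ := coker_add k ι hJ hI
  have hr : grk J = Nat.find hne := le_antisymm (by omega) (Nat.find_min' hne ⟨_, hP⟩)
  haveI : IsIso ι := (dg_le_of_mono k hdim ι hJ hI (by omega)).2 (by
    have := hleast _ (hr ▸ hP)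
    omega)
  haveI : Mono (i ≫ p) := by
    refine Preadditive.mono_of_isZero_kernel _ (isZero_of_mono (kernel.ι (i ≫ p) ≫ i) hKq hE ?_)
    omega
  haveI : Epi (i ≫ p) := hπι ▸ epi_comp _ _
  haveI : IsIso (i ≫ p) := isIso_of_mono_of_epi _
  let T : ShortComplex X.Modules := ShortComplex.mk (kernel.ι p) p (kernel.condition p)
  have hT : T.Exact := ShortComplex.exact_of_f_is_kernel _ (kernelIsKernel p)
  haveI : Mono T.f := inferInstanceAs (Mono (kernel.ι p))
  let sp : T.Splitting := ShortComplex.Splitting.ofExactOfSection T hT (inv (i ≫ p) ≫ i)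
    (show (inv (i ≫ p) ≫ i) ≫ p = 𝟙 I by rw [Category.assoc, IsIso.inv_hom_id]) inferInstance
  rcases hind _ _ ⟨sp.isoBinaryBiproduct⟩ with h | h
  · refine Or.inr ?_
    haveI := Preadditive.mono_of_isZero_kernel p h
    haveI := isIso_of_mono_of_epi p
    haveI : IsIso i := IsIso.of_isIso_comp_right i p
    have hu : IsUnit (g ^ n : End E) := by
      rw [isUnit_iff_isIso, ← hpi]
      infer_instance
    exact (isUnit_iff_isIso _).1 ((isUnit_pow_iff hn.ne').1 hu)
  · refine Or.inl ⟨n, hpi.symm.trans ?_⟩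
    rw [(show IsZero I from h).eq_of_tgt p 0, zero_comp]

end Groth.Agent.VBLib
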