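import Groth.Agent.VBLib.Scalar
import Groth.Agent.VBLib.Fitting
/-!
Constants acting on modules.
-/

set_option autoImplicit false
set_option backward.isDefEq.respectTransparency false
set_option linter.style.haveILetI false

universe u

open CategoryTheory CategoryTheory.Limits AlgebraicGeometry

noncomputable section

namespace Groth.Agent.VBLib

variable (k : Type u) [Field k] {X : Scheme.{u}} [X.Over (Spec (CommRingCat.of k))]

/-- Multiplication by a constant. -/
def cst (E : X.Modules) (c : k) : End E :=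
  FactorOne.mulEnd E (Coh.toGlobal (X ↘ Spec (CommRingCat.of k)) c)

theorem toSheaf_cst (E : X.Modules) (c : k) : (SheafOfModules.toSheaf X.ringCatSheaf).map (cst k E c) =
    Coh.smulAb E (Coh.toGlobal (X ↘ Spec (CommRingCat.of k)) c) := toSheaf_mulEnd E _

theorem cst_eq_iff {E : X.Modules} {φ : E ⟶ E} {c : k} : φ = cst k E c ↔
    (SheafOfModules.toSheaf X.ringCatSheaf).map φ = Coh.smulAb E (Coh.toGlobal (X ↘ Spec (CommRingCat.of k)) c) :=
  ⟨fun h => h ▸ toSheaf_cst k E c, fun h =>
    (SheafOfModules.toSheaf X.ringCatSheaf).map_injective (h.trans (toSheaf_cst k E c).symm)⟩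

theorem cst_one (E : X.Modules) : cst k E 1 = 𝟙 E :=
  ((cst_eq_iff k).2 (by rw [CategoryTheory.Functor.map_id, map_one, Coh.smulAb_one])).symm

theorem cst_zero (E : X.Modules) : cst k E 0 = 0 :=
  ((cst_eq_iff k).2 (by rw [Functor.map_zero, map_zero, Coh.smulAb_zero])).symm

theorem cst_add (E : X.Modules) (a b : k) : cst k E (a + b) = cst k E a + cst k E b :=
  ((cst_eq_iff k).2 (by rw [Functor.map_add, toSheaf_cst, toSheaf_cst, map_add, Coh.smulAb_add])).symm

theorem cst_mul (E : X.Modules) (a b : k) : cst k E (a * b) = (cst k E b : E ⟶ E) ≫ cst k E a :=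
  ((cst_eq_iff k).2 (by rw [Functor.map_comp, toSheaf_cst, toSheaf_cst, map_mul, Coh.smulAb_mul])).symm

theorem cst_natural {E F : X.Modules} (f : E ⟶ F) (c : k) :
    (cst k E c : E ⟶ E) ≫ f = f ≫ (cst k F c : F ⟶ F) := by
  refine Scheme.Modules.hom_ext _ _ fun U => AddCommGrpCat.hom_ext (AddMonoidHom.ext fun m => ?_)
  show f.app U ((FactorOne.mulEnd E _).app U m) = (FactorOne.mulEnd F _).app U (f.app U m)
  rw [FactorOne.mulEnd_app, FactorOne.mulEnd_app]
  exact map_smul (f.val.app (Opposite.op U)).hom _ _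

theorem isIso_cst (E : X.Modules) {c : k} (hc : c ≠ 0) : IsIso (cst k E c : E ⟶ E) :=
  ⟨⟨cst k E c⁻¹, by rw [← cst_mul, inv_mul_cancel₀ hc, cst_one], by rw [← cst_mul, mul_inv_cancel₀ hc, cst_one]⟩⟩

/-- A nilpotent endomorphism plus a nonzero constant is invertible. -/
theorem isIso_nilpotent_add {E : X.Modules} {g : End E} (hg : IsNilpotent g) {c : k} (hc : c ≠ 0) :
    IsIso (g + cst k E c : E ⟶ E) := by
  refine (isUnit_iff_isIso _).1 ?_
  rw [add_comm]
  exact hg.isUnit_add_left_of_commute ((isUnit_iff_isIso _).2 (isIso_cst k E hc)) (cst_natural k (g : E ⟶ E) c)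

end Groth.Agent.VBLib
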