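import Groth.Agent.VBLib.Deg
/-!
Maps between semistable and stable bundles.
-/

set_option autoImplicit false
set_option backward.isDefEq.respectTransparency false
set_option linter.style.haveILetI false

universe u

open CategoryTheory CategoryTheory.Limits AlgebraicGeometry TopologicalSpace
open Groth.Agent.PullbackMod Groth.Agent.DevLib Groth.Agent.QCohLib

noncomputable section

namespace Groth.Agent.VBLib

variable (k : Type u) [Field k] {X : Scheme.{u}} [X.Over (Spec (CommRingCat.of k))]
  [IsProper (X ↘ Spec (CommRingCat.of k))] [IsIntegral X] [IsNoetherian X] [IsRegCurve X]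

variable {E F : X.Modules} {n m : ℕ}

/-- Slopes smaller than `d / r` on proper submodules. -/
def StableAt (E : X.Modules) (d : ℤ) (n : ℕ) : Prop :=
  ∀ (G : X.Modules) (i : G ⟶ E), Mono i → Coh.IsCoh G → 0 < grk G → grk G < n → dg k G * n < d * grk G

theorem stableAt_of (hE : FlatMod.IsFinLocFreeOfRank n E)
    (h : ∀ (G : X.Modules) (r' : ℕ) (i : G ⟶ E), Mono i → 0 < r' → r' < n → FlatMod.IsFinLocFreeOfRank r' G →
      Curv2.deg k X G r' * (n : ℤ) < Curv2.deg k X E n * r') : StableAt k E (dg k E) n :=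
  fun G i hi hG hpos hlt => by
    have hr := rank_of_mono i hG hE
    rw [dg_eq k hr, dg_eq k hE]
    exact h G (grk G) i hi hpos hlt hr

/-- A nonzero map from a semistable module: the target has a submodule of at least that slope. -/
theorem hom_eq_zero (hE : FlatMod.IsFinLocFreeOfRank n E) (hF : FlatMod.IsFinLocFreeOfRank m F)
    (hss : SlopeLE k E (dg k E) n) (hlt : SlopeLT k F (dg k E) n) (f : E ⟶ F) : f = 0 := by
  by_contra hf
  obtain ⟨I, p, i, hi, hp, hpi, hI, hI0, h, -⟩ := exists_image_slope k hE hF hf hss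
  exact absurd (hlt I i hi hI hI0) (not_lt.2 h)

omit [IsProper (X ↘ Spec (CommRingCat.of k))] [AlgebraicGeometry.IsNoetherian X] [IsRegCurve X] in
/-- Semistable of smaller slope: all submodules have smaller slope. -/
theorem slopeLT_of_lt (hm : 0 < m) (hss : SlopeLE k F (dg k F) m) {d : ℤ} {r : ℕ} (hr : 0 < r)
    (h : dg k F * r < d * m) : SlopeLT k F d r := by
  intro G i hi hG hpos
  have h1 := hss G i hi hG hpos
  have hm' : (0 : ℤ) < m := by exact_mod_cast hm
  have hg : (0 : ℤ) < grk G := by exact_mod_cast hpos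
  have hr' : (0 : ℤ) < r := by exact_mod_cast hr
  nlinarith [mul_lt_mul_of_pos_right h hg, mul_le_mul_of_nonneg_left h1 hr'.le]

/-- A nonzero map from a stable module to a semistable one of the same slope is injective. -/
theorem mono_of_stable (hE : FlatMod.IsFinLocFreeOfRank n E) (hF : FlatMod.IsFinLocFreeOfRank m F)
    (hst : StableAt k E (dg k E) n) (hFss : SlopeLE k F (dg k F) m) (hμ : dg k E * m = dg k F * n)
    {f : E ⟶ F} (hf : f ≠ 0) : Mono f := by
  have hEc := isCoh_of_rank hE
  have hFc := isCoh_of_rank hF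
  obtain ⟨I, p, i, hi, hp, hpi, hI, hK, h1, h2⟩ := exists_image k f hEc hFc
  have hn : grk E = n := grk_of_rank hE
  have hI0 : 0 < grk I := Nat.pos_of_ne_zero fun h0 => hf (by
    rw [← hpi, (isZero_of_mono i hI hF h0).eq_of_tgt p 0, zero_comp])
  rcases Nat.eq_zero_or_pos (grk (kernel f)) with h0 | h0
  · exact Preadditive.mono_of_isZero_kernel f (isZero_of_mono (kernel.ι f) hK hE h0)
  exfalso
  have ha := hst _ (kernel.ι f) inferInstance hK h0 (by omega)
  have hb := hFss I i hi hI hI0
  have hr : (n : ℤ) = grk (kernel f) + grk I := by exact_mod_cast hn.symm.trans h1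
  rw [h2] at ha hμ
  have hn0 : (0 : ℤ) ≤ n := Int.natCast_nonneg _
  have hI' : (0 : ℤ) < grk I := by exact_mod_cast hI0
  have hm : (0 : ℤ) ≤ m := Int.natCast_nonneg _
  rcases Nat.eq_zero_or_pos m with hm0 | hm0
  · subst hm0
    have := grk_of_rank hF
    obtain ⟨hc, e, -⟩ := coker_add k i hI hFc
    omega
  have hm' : (0 : ℤ) < m := by exact_mod_cast hm0
  have p1 := mul_lt_mul_of_pos_right ha hm'
  have p2 := mul_le_mul_of_nonneg_left hb hn0
  have p3 := congrArg (· * (grk I : ℤ)) hμ
  have p4 := congrArg (fun t : ℤ => (dg k (kernel f) + dg k I) * (m : ℤ) * t) hr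
  simp only [mul_add] at p4
  linarith

/-- A nonzero map between stable modules of the same slope is an isomorphism. -/
theorem isIso_of_stable (hdim : topologicalKrullDim X ≤ 1) (hn0 : 0 < n) (hE : FlatMod.IsFinLocFreeOfRank n E)
    (hF : FlatMod.IsFinLocFreeOfRank m F) (hst : StableAt k E (dg k E) n) (hFst : StableAt k F (dg k F) m)
    (hFss : SlopeLE k F (dg k F) m) (hμ : dg k E * m = dg k F * n) {f : E ⟶ F} (hf : f ≠ 0) : IsIso f := by
  haveI := mono_of_stable k hE hF hst hFss hμ hf
  have hEc := isCoh_of_rank hE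
  have hFc := isCoh_of_rank hF
  obtain ⟨hc, h1, -⟩ := coker_add k f hEc hFc
  rw [grk_of_rank hE, grk_of_rank hF] at h1
  rcases lt_or_ge n m with hlt | hge
  · exact absurd (hFst E f inferInstance hEc (by rw [grk_of_rank hE]; exact hn0) (by rw [grk_of_rank hE]; exact hlt))
      (not_lt.2 (by rw [grk_of_rank hE]; exact hμ.ge))
  · obtain rfl : n = m := by omega
    refine (dg_le_of_mono k hdim f hEc hFc (by rw [grk_of_rank hE, grk_of_rank hF])).2 ?_
    have hn' : (0 : ℤ) < n := by exact_mod_cast hn0
    exact le_of_eq ((mul_right_cancel₀ hn'.ne' hμ).symm)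

/-- Stable modules are semistable. -/
theorem slopeLE_of_stableAt (hdim : topologicalKrullDim X ≤ 1) (hE : FlatMod.IsFinLocFreeOfRank n E)
    (hst : StableAt k E (dg k E) n) : SlopeLE k E (dg k E) n := by
  intro G i hi hG hpos
  have hEc := isCoh_of_rank hE
  obtain ⟨hc, h1, -⟩ := coker_add k i hG hEc
  rw [grk_of_rank hE] at h1
  rcases lt_or_ge (grk G) n with hlt | hge
  · exact (hst G i hi hG hpos hlt).le
  · have hg : grk G = n := by omega
    rw [hg]
    exact mul_le_mul_of_nonneg_right (dg_le_of_mono k hdim i hG hEc (hg.trans (grk_of_rank hE).symm)).1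
      (Int.natCast_nonneg _)

/-- A nonzero map from a semistable module to a stable one of the same slope and rank is injective. -/
theorem mono_of_stable_target (hE : FlatMod.IsFinLocFreeOfRank n E) (hF : FlatMod.IsFinLocFreeOfRank n F)
    (hss : SlopeLE k E (dg k E) n) (hFst : StableAt k F (dg k F) n) (hμ : dg k E * n = dg k F * n)
    {f : E ⟶ F} (hf : f ≠ 0) : Mono f := by
  have hEc := isCoh_of_rank hE
  have hFc := isCoh_of_rank hF
  obtain ⟨I, p, i, hi, hp, hpi, hI, hI0, h, hle⟩ := exists_image_slope k hE hF hf hss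
  have hn : (0 : ℤ) < n := by exact_mod_cast hI0.trans_le hle
  have hμ' : dg k E = dg k F := mul_right_cancel₀ hn.ne' hμ
  rcases lt_or_ge (grk I) n with hlt | hge
  · exact absurd (hFst I i hi hI hI0 hlt) (not_lt.2 (hμ' ▸ h))
  · haveI := hp
    have hK := (QCohLib.isCoh_kernel_cokernel p hEc hI).1
    have hS : (ShortComplex.mk (kernel.ι p) p (kernel.condition p)).ShortExact :=
      ShortComplex.ShortExact.mk' (ShortComplex.exact_of_f_is_kernel _ (kernelIsKernel p)) inferInstance hp
    have h1 : grk E = grk (kernel p) + grk I := grk_add hS hK hI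
    rw [grk_of_rank hE] at h1
    haveI := Preadditive.mono_of_isZero_kernel p (isZero_of_mono (kernel.ι p) hK hE (by omega))
    rw [← hpi]
    infer_instance

include k in
theorem nonzero_of_rank (hn0 : 0 < n) (hE : FlatMod.IsFinLocFreeOfRank n E) : ¬ IsZero E := fun h => by
  have := (dg_isZero k h).1
  rw [grk_of_rank hE] at this
  omega

end Groth.Agent.VBLib
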