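import Groth.Agent.VBLib.Twist
import Groth.Agent.VBLib.Slope
import Groth.Agent.CurveLib.GlobalFun
import Groth.Agent.CurveLib.Sections
import Groth.Agent.CurveLib.DegTensor
import Groth.Agent.IntLib.Push
import Groth.Agent.IntLib.Divisor
/-!
The ideal of a point on a curve, and sections of semistable bundles.
-/

set_option autoImplicit false
set_option backward.isDefEq.respectTransparency false
set_option linter.style.haveILetI false

universe u

open CategoryTheory CategoryTheory.Limits AlgebraicGeometry TopologicalSpace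
open Groth.Agent.PullbackMod Groth.Agent.DevLib Groth.Agent.QCohLib

noncomputable section

namespace Groth.Agent.VBLib

theorem isInvertible_of_rank {X : Scheme.{u}} {P : X.Modules} (hP : FlatMod.IsFinLocFreeOfRank 1 P) :
    PicF.IsInvertible P := fun x => by
  obtain ⟨U, hx, ⟨e⟩⟩ := hP x
  exact ⟨U, hx, ⟨e ≪≫ coproductUniqueIso fun _ : Fin 1 => Coh.structureModule (↑U : Scheme.{u})⟩⟩

variable (k : Type u) [Field k] {X : Scheme.{u}} [X.Over (Spec (CommRingCat.of k))]
  [IsProper (X ↘ Spec (CommRingCat.of k))]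

theorem finrank_H0_mid_le {S : ShortComplex X.Modules} (hS : S.ShortExact) (h₁ : Coh.IsCoh S.X₁)
    (h₂ : Coh.IsCoh S.X₂) (h₃ : Coh.IsCoh S.X₃) :
    Module.finrank k (Coh.HH X S.X₂ 0) ≤
      Module.finrank k (Coh.HH X S.X₁ 0) + Module.finrank k (Coh.HH X S.X₃ 0) := by
  haveI := EulerIneqLib.finite_HH (k := k) h₁ 0
  haveI := EulerIneqLib.finite_HH (k := k) h₂ 0
  haveI := EulerIneqLib.finite_HH (k := k) h₃ 0
  have h := LinearMap.finrank_range_add_finrank_ker (CurveLib.hMap (k := k) S.g 0)
  rw [show LinearMap.ker (CurveLib.hMap (k := k) S.g 0) = LinearMap.range (CurveLib.hMap (k := k) S.f 0) from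
      (CurveLib.range_hMap_f (k := k) hS 0).symm,
    LinearMap.finrank_range_of_inj (CurveLib.hMap_f_zero_injective (k := k) hS)] at h
  have := Submodule.finrank_le (LinearMap.range (CurveLib.hMap (k := k) S.g 0))
  omega

variable [IsIntegral X] [IsNoetherian X] [IsRegCurve X]

omit [AlgebraicGeometry.IsNoetherian X] [IsRegCurve X] in
theorem dg_structureModule [IsLocallyNoetherian X] :
    grk (Coh.structureModule X) = 1 ∧ dg k (Coh.structureModule X) = 0 := by
  have h := CurveLib.isFinLocFreeOfRank_one (ParaFLib.isInvertible_structureModule (X := X))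
  exact ⟨grk_of_rank h, (dg_eq k h).trans CurveLib.deg_structureModule⟩

include k in
/-- The ideal of a closed point is invertible of degree `-1`. -/
theorem point_ideal [IsAlgClosed k] (hdim : topologicalKrullDim X = 1) {x : X}
    (hxc : IsClosed ({x} : Set X)) :
    PicF.IsInvertible (ClSub.idealMod (Scheme.IdealSheafData.vanishingIdeal (⟨{x}, hxc⟩ : Closeds X))) ∧
      Curv2.deg k X (ClSub.idealMod (Scheme.IdealSheafData.vanishingIdeal (⟨{x}, hxc⟩ : Closeds X))) 1 = -1 ∧
      ∀ y, y ≠ x → Subsingleton ((cokernel (ClSub.idealModι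
        (Scheme.IdealSheafData.vanishingIdeal (⟨{x}, hxc⟩ : Closeds X)))).presheaf.stalk y) := by
  let J := Scheme.IdealSheafData.vanishingIdeal (⟨{x}, hxc⟩ : Closeds X)
  let Z := J.subscheme
  let i : Z ⟶ X := J.subschemeι
  haveI hZ : IsIntegral Z := CurveLib.isIntegral_vanishingIdeal hxc isIrreducible_singleton
  letI : Z.Over (Spec (CommRingCat.of k)) := ⟨i ≫ (X ↘ Spec (CommRingCat.of k))⟩
  haveI : IsProper (Z ↘ Spec (CommRingCat.of k)) :=
    inferInstanceAs (IsProper (i ≫ (X ↘ Spec (CommRingCat.of k))))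
  haveI : IsLocallyNoetherian Z := LocallyOfFiniteType.isLocallyNoetherian i
  haveI : Coh.IsQCoh (Coh.structureModule Z) := (isCoh_structureModule Z).1
  have hQ : Coh.IsCoh (ClSub.quotMod J) := IntLib.isCoh_quotMod J
  have hgen : genericPoint X ∉ CohB1.support (ClSub.quotMod J) := fun h => by
    have h1 := IntLib.support_quotMod_subset J h
    rw [Scheme.IdealSheafData.coe_support_vanishingIdeal] at h1
    change genericPoint X ∈ ({x} : Set X) at h1
    have h2 : (Set.univ : Set X) ⊆ {x} := by
      rw [← (genericPoint_spec X).def, h1]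
      exact hxc.closure_eq.le
    haveI : Subsingleton X := ⟨fun a b => (h2 (Set.mem_univ a)).trans (h2 (Set.mem_univ b)).symm⟩
    have : topologicalKrullDim X ≤ 0 := topologicalKrullDim_zero_of_discreteTopology X
    rw [hdim] at this
    exact absurd this (by norm_num)
  have hQ0 : grk (ClSub.quotMod J) = 0 := (grk_eq_zero_iff hQ).2 hgen
  have hQ1 : dg k (ClSub.quotMod J) = 1 := by
    rw [(dg_eq_finrank k hdim.le hQ hQ0).1]
    have h := IntLib.finrank_push k i rfl (Coh.structureModule Z) 0
    rw [CurveLib.finrank_H0_structure] at h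
    exact_mod_cast h
  haveI := Groth.Agent.SerreAff.epi_unitToPush J.subschemeι
  let q : Coh.structureModule X ⟶ ClSub.quotMod J := ClSub.toSubscheme J
  haveI : Epi q := inferInstanceAs (Epi (ClSub.toSubscheme J))
  obtain ⟨hK, hr, hd⟩ := kernel_add k q (isCoh_structureModule X) hQ
  obtain ⟨h1, h2⟩ := dg_structureModule k (X := X)
  have hKf : FlatMod.IsFinLocFreeOfRank 1 (kernel q) := by
    have h := rank_of_mono (kernel.ι q) hK (CurveLib.isFinLocFreeOfRank_one ParaFLib.isInvertible_structureModule)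
    rwa [show grk (kernel q) = 1 by omega] at h
  refine ⟨isInvertible_of_rank hKf, ?_, fun y hy => ?_⟩
  · refine (dg_eq k hKf).symm.trans ?_
    omega
  · let e : cokernel (kernel.ι q) ≅ ClSub.quotMod J := IsColimit.coconePointUniqueUpToIso
      (cokernelIsCokernel _) (Abelian.epiIsCokernelOfKernel _ (kernelIsKernel q))
    haveI : Subsingleton ((ClSub.quotMod J).presheaf.stalk y) := by
      by_contra h
      have h1 := IntLib.support_quotMod_subset J (show y ∈ CohB1.support (ClSub.quotMod J) from h)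
      rw [Scheme.IdealSheafData.coe_support_vanishingIdeal] at h1
      change y ∈ ({x} : Set X) at h1
      exact hy h1
    exact ((isIso_iff_stalk e.hom).1 inferInstance y).1.subsingleton

include k in
/-- The ideal of a closed point: an invertible submodule of `O` of degree `-1`. -/
theorem exists_point_sub_at [IsAlgClosed k] (hdim : topologicalKrullDim X = 1) {x : X}
    (hxc : IsClosed ({x} : Set X)) :
    ∃ (P : X.Modules) (i : P ⟶ Coh.structureModule X), Mono i ∧ PicF.IsInvertible P ∧
      Curv2.deg k X P 1 = -1 ∧ ∀ y, y ≠ x → Subsingleton ((cokernel i).presheaf.stalk y) := by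
  obtain ⟨h1, h2, h3⟩ := point_ideal k hdim hxc
  exact ⟨_, ClSub.idealModι (Scheme.IdealSheafData.vanishingIdeal (⟨{x}, hxc⟩ : Closeds X)),
    inferInstanceAs (Mono (kernel.ι _)), h1, h2, h3⟩

include k in
/-- Some point ideal. -/
theorem exists_point_sub [IsAlgClosed k] (hdim : topologicalKrullDim X = 1) :
    ∃ (P : X.Modules) (i : P ⟶ Coh.structureModule X), Mono i ∧ PicF.IsInvertible P ∧
      Curv2.deg k X P 1 = -1 := by
  obtain ⟨x, -, hxc⟩ := (isClosed_univ (X := X)).exists_closed_singleton Set.univ_nonempty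
  obtain ⟨P, i, hi, hP, hd, -⟩ := exists_point_sub_at k hdim hxc
  exact ⟨P, i, hi, hP, hd⟩

/-- A semistable bundle of negative degree has no sections. -/
theorem subsingleton_H0_of_neg (hdim : topologicalKrullDim X ≤ 1) {G : X.Modules} {r : ℕ} (hr : 0 < r)
    (hG : FlatMod.IsFinLocFreeOfRank r G) (hss : SlopeLE k G (dg k G) r) (hneg : dg k G < 0) :
    Subsingleton (Coh.HH X G 0) := by
  by_contra hne
  rw [not_subsingleton_iff_nontrivial] at hne
  obtain ⟨s, hs⟩ := CurveLib.exists_hom_ne_zero G
  obtain ⟨h1, h2⟩ := dg_structureModule k (X := X)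
  refine hs (hom_eq_zero k (CurveLib.isFinLocFreeOfRank_one ParaFLib.isInvertible_structureModule) hG ?_ ?_ s)
  · intro T j hj hT hpos
    haveI := hj
    obtain ⟨hc, h3, -⟩ := coker_add k j hT (isCoh_structureModule X)
    have h4 : grk T = 1 := by omega
    have h5 := (dg_le_of_mono k hdim j hT (isCoh_structureModule X) (by omega)).1
    rw [h4, h2]
    push_cast
    omega
  · rw [h2]
    exact slopeLT_of_lt k hr hss Nat.one_pos (by push_cast; omega)

/-- Twisting preserves semistability. -/
theorem slopeLE_twist (hdim : topologicalKrullDim X ≤ 1) {G L : X.Modules} {r : ℕ}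
    (hG : FlatMod.IsFinLocFreeOfRank r G) (hL : PicF.IsInvertible L) (hss : SlopeLE k G (dg k G) r) :
    SlopeLE k (CohB1.tensorMod G L) (dg k G + r * Curv2.deg k X L 1) r := by
  intro I i hi hI hpos
  haveI := hi
  obtain ⟨G', j, e, hj, hG', -⟩ := exists_untwist hL i hI
  haveI := hj
  have hr' := rank_of_mono j hG' hG
  have h1 : grk I = grk G' := (grk_iso e).symm.trans (grk_twist hL G')
  have hd : dg k I = dg k G' + grk G' * Curv2.deg k X L 1 := by
    rw [← dg_iso k e, dg, grk_twist hL, dg_eq k hr']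
    exact CurveLib.deg_tensor_invertible (k := k) hdim hr' hL
  have h2 := hss G' j hj hG' (h1 ▸ hpos)
  rw [hd, h1]
  linarith

/-- `h⁰ ≤ r m` for a semistable bundle of slope less than `m`. -/
theorem finrank_H0_le [IsAlgClosed k] (hdim : topologicalKrullDim X = 1) {r : ℕ} (hr : 0 < r) :
    ∀ (m : ℕ) (G : X.Modules), FlatMod.IsFinLocFreeOfRank r G → SlopeLE k G (dg k G) r → dg k G < m * r →
      Module.finrank k (Coh.HH X G 0) ≤ r * m := by
  intro m
  induction m with
  | zero =>
    intro G hG hss h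
    haveI := subsingleton_H0_of_neg k hdim.le hr hG hss (by simpa using h)
    simp [Module.finrank_zero_of_subsingleton]
  | succ m ih =>
    intro G hG hss h
    obtain ⟨P, i, hi, hP, hdP⟩ := exists_point_sub k (X := X) hdim
    haveI := hi
    let T : ShortComplex X.Modules := (cokerSeq i).map (CurveLib.tensR G)
    have hS : T.ShortExact :=
      CurveLib.shortExact_tensR (cokerSeq_shortExact i) (CurveLib.freeAt_of_isFinLocFreeOfRank hG)
    let e₁ : T.X₁ ≅ CohB1.tensorMod G P := CurveLib.tmodComm P G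
    let e₂ : T.X₂ ≅ G := CurveLib.tmodUnit G
    have hGP : Coh.IsCoh (CohB1.tensorMod G P) :=
      CurveLib.isCoh_tmod (isCoh_of_rank hG) (CurveLib.isCoh_of_isInvertible hP)
    have hT1 : Coh.IsCoh T.X₁ := ShStabLib.isCoh_of_iso e₁.symm hGP
    have hT2 : Coh.IsCoh T.X₂ := ShStabLib.isCoh_of_iso e₂.symm (isCoh_of_rank hG)
    haveI := hS.mono_f
    haveI := hS.epi_g
    let eC : cokernel T.f ≅ T.X₃ := IsColimit.coconePointUniqueUpToIso (cokernelIsCokernel T.f) hS.gIsCokernel
    have hT3 : Coh.IsCoh T.X₃ := ShStabLib.isCoh_of_iso eC (isCoh_kernel_cokernel T.f hT1 hT2).2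
    have hGPr : FlatMod.IsFinLocFreeOfRank r (CohB1.tensorMod G P) := by
      haveI := hS.mono_f
      have h := rank_of_mono (e₁.inv ≫ T.f ≫ e₂.hom) hGP hG
      rwa [grk_twist hP, grk_of_rank hG] at h
    have hd : dg k (CohB1.tensorMod G P) = dg k G - r := by
      rw [dg_eq k hGPr, dg_eq k hG]
      refine (CurveLib.deg_tensor_invertible (k := k) hdim.le hG hP).trans ?_
      rw [hdP]
      ring
    have hss' : SlopeLE k (CohB1.tensorMod G P) (dg k (CohB1.tensorMod G P)) r := by
      have h' := slopeLE_twist k hdim.le hG hP hss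
      rwa [show dg k G + r * Curv2.deg k X P 1 = dg k (CohB1.tensorMod G P) by rw [hd, hdP]; ring] at h'
    have hb := ih _ hGPr hss' (by push_cast at h; linarith)
    have ha := dg_add k hS hT1 hT2 hT3
    have hg := grk_add hS hT1 hT3
    rw [dg_iso k e₁, dg_iso k e₂, hd] at ha
    rw [grk_iso e₁, grk_iso e₂, grk_of_rank hG, grk_of_rank hGPr] at hg
    have h3 := (dg_eq_finrank k hdim.le hT3 (by omega)).1
    have h4 := finrank_H0_mid_le k hS hT1 hT2 hT3
    rw [CurveLib.hMap_bijective_finrank (k := k) e₁ 0, CurveLib.hMap_bijective_finrank (k := k) e₂ 0] at h4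
    have h5 : Module.finrank k (Coh.HH X T.X₃ 0) = r := by omega
    rw [Nat.mul_succ]
    omega

end Groth.Agent.VBLib
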