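import Groth.Agent.CurveLib.GlobalFun
import Groth.Agent.CurveLib.Rank
import Groth.Agent.DevLib.Power
import Groth.Agent.TorRankLib.Basic
import Groth.Agent.ASp.LiftDim
import Groth.Agent.PullbackMod.LimFree
/-!
Coherent modules on integral schemes whose local rings are principal ideal rings.
-/

set_option autoImplicit false
set_option backward.isDefEq.respectTransparency false
set_option linter.style.haveILetI false

universe u

open CategoryTheory CategoryTheory.Limits AlgebraicGeometry TopologicalSpace IsLocalRing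
open Groth.Agent.PullbackMod Groth.Agent.DevLib Groth.Agent.QCohLib

noncomputable section

namespace Groth.Agent.VBLib

/-- All local rings are principal ideal rings. -/
class IsRegCurve (X : Scheme.{u}) : Prop where
  pir : ∀ x : X, IsPrincipalIdealRing (X.presheaf.stalk x)

theorem isPrincipalIdealRing_of_regular (R : Type u) [CommRing R] [IsRegularLocalRing R] (h : ringKrullDim R ≤ 1) :
    IsPrincipalIdealRing R := by
  haveI := RegLocal.isDomain R
  have h1 : ((maximalIdeal R).spanFinrank : WithBot ℕ∞) ≤ 1 :=
    (IsRegularLocalRing.spanFinrank_maximalIdeal (R := R)).le.trans h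
  have h1' : (maximalIdeal R).spanFinrank ≤ 1 := by exact_mod_cast h1
  have hp : (maximalIdeal R).IsPrincipal := by
    rcases Nat.le_one_iff_eq_zero_or_eq_one.1 h1' with h0 | h0
    · rw [(Submodule.spanFinrank_eq_zero_iff_eq_bot (IsNoetherian.noetherian _)).1 h0]
      exact bot_isPrincipal
    · exact ((Submodule.spanFinrank_eq_one_iff _).1 h0).1
  exact ((tfae_of_isNoetherianRing_of_isLocalRing_of_isDomain R).out 0 4).2 hp

theorem isRegCurve_of_smooth (k : Type u) [Field k] {X : Scheme.{u}} [X.Over (Spec (CommRingCat.of k))]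
    [IsProper (X ↘ Spec (CommRingCat.of k))] [Smooth (X ↘ Spec (CommRingCat.of k))]
    (hdim : topologicalKrullDim X ≤ 1) : IsRegCurve X := by
  refine ⟨fun x => ?_⟩
  haveI := CurveLib.isRegularLocalRing_stalk_of_smooth (k := k) x
  refine isPrincipalIdealRing_of_regular _ ?_
  rw [ringKrullDim_stalk_eq_coheight]
  rw [ASp.topologicalKrullDim_eq_krullDim] at hdim
  exact (Order.coheight_le_krullDim x).trans hdim

theorem isIntegral_of_geomConnected (k : Type u) [Field k] {X : Scheme.{u}} [X.Over (Spec (CommRingCat.of k))]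
    [IsProper (X ↘ Spec (CommRingCat.of k))] [Smooth (X ↘ Spec (CommRingCat.of k))]
    [GeometricallyConnected (X ↘ Spec (CommRingCat.of k))] : IsIntegral X := by
  haveI : ConnectedSpace X := GeometricallyConnected.connectedSpace_of_subsingleton (X ↘ Spec (CommRingCat.of k))
  exact CurveLib.isIntegral_of_smooth k

variable {X : Scheme.{u}} [IsIntegral X]

/-- The rank at the generic point. -/
def grk (M : X.Modules) : ℕ :=
  Module.finrank (X.presheaf.stalk (genericPoint X)) (M.presheaf.stalk (genericPoint X))

theorem free_generic (M : X.Modules) (hM : Module.Finite (X.presheaf.stalk (genericPoint X)) (M.presheaf.stalk (genericPoint X))) :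
    Module.Free (X.presheaf.stalk (genericPoint X)) (M.presheaf.stalk (genericPoint X)) := by
  haveI : IsPrincipalIdealRing (X.presheaf.stalk (genericPoint X)) :=
    inferInstanceAs (IsPrincipalIdealRing X.functionField)
  haveI : Module.IsTorsionFree (X.presheaf.stalk (genericPoint X)) (M.presheaf.stalk (genericPoint X)) :=
    ⟨fun a ha _ _ h => (Ne.isUnit (show (a : X.functionField) ≠ 0 from ha.ne_zero) : IsUnit (a : X.functionField)).smul_left_cancel.1 h⟩
  exact Module.free_of_finite_type_torsion_free'

variable [IsLocallyNoetherian X]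

theorem finite_generic {M : X.Modules} (hM : Coh.IsCoh M) :
    Module.Finite (X.presheaf.stalk (genericPoint X)) (M.presheaf.stalk (genericPoint X)) := by
  haveI := hM.1
  exact finite_stalk_of_isFT hM.2 _

omit [IsLocallyNoetherian X] in
theorem grk_iso {M N : X.Modules} (e : M ≅ N) : grk M = grk N :=
  (LinearEquiv.ofBijective (stalkLin e.hom (genericPoint X))
    ((isIso_iff_stalk e.hom).1 inferInstance _)).finrank_eq

omit [IsLocallyNoetherian X] in
theorem grk_of_rank {n : ℕ} {M : X.Modules} (hM : FlatMod.IsFinLocFreeOfRank n M) : grk M = n := by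
  obtain ⟨e⟩ := CurveLib.freeAt_of_isFinLocFreeOfRank hM (genericPoint X)
  rw [grk, e.finrank_eq, Module.finrank_fin_fun]

theorem grk_add {S : ShortComplex X.Modules} (hS : S.ShortExact) (h₁ : Coh.IsCoh S.X₁)
    (h₃ : Coh.IsCoh S.X₃) : grk S.X₂ = grk S.X₁ + grk S.X₃ := by
  let x := genericPoint X
  haveI := finite_generic h₁
  haveI := finite_generic h₃
  haveI := free_generic S.X₁ (finite_generic h₁)
  haveI := free_generic S.X₃ (finite_generic h₃)
  obtain ⟨l, hl⟩ := Module.projective_lifting_property (stalkLin S.g x) LinearMap.id (DevLib.stalk_surjective hS x)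
  let e := ((DevLib.stalk_exact hS x).splitSurjectiveEquiv (DevLib.stalk_injective hS x) ⟨l, hl⟩).1
  exact e.finrank_eq.trans (Module.finrank_prod)

theorem grk_eq_zero_iff {M : X.Modules} (hM : Coh.IsCoh M) :
    grk M = 0 ↔ genericPoint X ∉ CohB1.support M := by
  haveI := finite_generic hM
  haveI := free_generic M (finite_generic hM)
  rw [grk, Module.finrank_eq_zero_iff_of_free]
  exact not_not.symm

omit [IsLocallyNoetherian X] in
theorem isTF_of_mono {M N : X.Modules} (f : M ⟶ N) [Mono f] (hN : IsTF (genericPoint X) N) :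
    IsTF (genericPoint X) M := fun V s hs => by
  refine eq_zero_of_forall_germ s fun y hy => (mono_iff_stalk f).1 inferInstance y ?_
  have h0 : f.app V s = 0 := hN V _ fun hx => by rw [← stalkLin_germ, hs hx, map_zero]
  rw [stalkLin_germ, h0, map_zero, map_zero]

omit [IsLocallyNoetherian X] in
theorem stalk_torsionFree {M : X.Modules} (hM : IsTF (genericPoint X) M) (x : X) :
    Module.IsTorsionFree (X.presheaf.stalk x) (M.presheaf.stalk x) := by
  constructor
  intro a ha
  have key : ∀ z : M.presheaf.stalk x, a • z = 0 → z = 0 := fun z hz => by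
    obtain ⟨V, hxV, s, rfl⟩ := TopCat.Presheaf.exists_germ_eq M.presheaf z
    obtain ⟨W, hxW, r, rfl⟩ := TopCat.Presheaf.exists_germ_eq X.presheaf a
    let i : V ⊓ W ⟶ V := homOfLE inf_le_left
    let j : V ⊓ W ⟶ W := homOfLE inf_le_right
    have hx : x ∈ V ⊓ W := ⟨hxV, hxW⟩
    rw [← TopCat.Presheaf.germ_res_apply M.presheaf i x hx s,
      ← TopCat.Presheaf.germ_res_apply X.presheaf j x hx r, ← TorRankLib.germ_smul'] at hz
    obtain ⟨W', hxW', i₁, i₂, e⟩ := TopCat.Presheaf.germ_eq M.presheaf x hx hx _ 0 (hz.trans (map_zero _).symm)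
    rw [map_zero] at e
    have hη : genericPoint X ∈ V ⊓ W := TorRankLib.generic_mem hx
    have hη' : genericPoint X ∈ W' := TorRankLib.generic_mem hxW'
    have e' := congrArg (M.presheaf.germ W' _ hη') e
    rw [TopCat.Presheaf.germ_res_apply, map_zero, TorRankLib.germ_smul',
      TopCat.Presheaf.germ_res_apply, TopCat.Presheaf.germ_res_apply] at e'
    have hr : X.presheaf.germ W (genericPoint X) (TorRankLib.generic_mem hxW) r ≠ 0 := fun h0 => by
      have h1 : r = 0 := germ_injective_of_isIntegral X _ (TorRankLib.generic_mem hxW) (h0.trans (map_zero _).symm)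
      exact ha.ne_zero (by rw [h1, map_zero])
    have hs0 : M.presheaf.germ V (genericPoint X) (TorRankLib.generic_mem hxV) s = 0 :=
      ((Ne.isUnit (show (X.presheaf.germ W (genericPoint X) (TorRankLib.generic_mem hxW) r : X.functionField) ≠ 0 from hr) :
        IsUnit (X.presheaf.germ W (genericPoint X) (TorRankLib.generic_mem hxW) r : X.functionField))).smul_eq_zero.1 e'
    rw [hM V s fun _ => hs0, map_zero]
  intro z w hzw
  exact sub_eq_zero.1 (key _ (by rw [smul_sub]; exact sub_eq_zero.2 hzw))

variable [IsRegCurve X]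

theorem rank_of_isTF {M : X.Modules} (hc : Coh.IsCoh M) (hM : IsTF (genericPoint X) M) :
    FlatMod.IsFinLocFreeOfRank (grk M) M := by
  haveI := hc.1
  have hfp : CohB1.IsFP M := QCohLib.isFP_of_isCoh M hc
  have hfree : ∀ x, ∃ n, FreeAt n M x := fun x => by
    haveI := IsRegCurve.pir (X := X) x
    haveI := finite_stalk_of_isFT hc.2 x
    haveI := stalk_torsionFree hM x
    haveI : Module.Free (X.presheaf.stalk x) (M.presheaf.stalk x) := Module.free_of_finite_type_torsion_free'
    exact ⟨_, ⟨(Module.finBasis (X.presheaf.stalk x) (M.presheaf.stalk x)).equivFun⟩⟩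
  rw [isFinLocFreeOfRank_iff_freeAt M hfp]
  intro x
  obtain ⟨n, hn⟩ := hfree x
  obtain ⟨U, hxU, ⟨i⟩⟩ := exists_nhd_freeAt M hfp hn
  have hgen := freeAt_of_restrict_iso M i (TorRankLib.generic_mem hxU)
  obtain ⟨e⟩ := id hgen
  have hgn : grk M = n := by rw [grk, e.finrank_eq, Module.finrank_fin_fun]
  rw [hgn]
  exact hn

omit [IsLocallyNoetherian X] [IsRegCurve X] in
theorem isTF_of_rank {n : ℕ} {M : X.Modules} [Coh.IsQCoh M] (hM : FlatMod.IsFinLocFreeOfRank n M) :
    IsTF (genericPoint X) M := fun V s hs => by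
  by_cases hV : genericPoint X ∈ V
  · refine TorRankLib.germ_eq_zero_of_generic M (fun x => ?_) hV s (hs hV)
    obtain ⟨e⟩ := CurveLib.freeAt_of_isFinLocFreeOfRank hM x
    exact e.injective.moduleIsTorsionFree _ (fun c z => map_smul e c z)
  · refine DevLib.eq_zero_of_forall_germ s fun y hy => absurd (TorRankLib.generic_mem hy) hV

end Groth.Agent.VBLib
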