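import Groth.Agent.VBLib.Deg
import Groth.Agent.CurveLib.Euler
/-!
Submodules, quotients and degree bounds on regular proper curves.
-/

set_option autoImplicit false
set_option backward.isDefEq.respectTransparency false
set_option linter.style.haveILetI false

universe u

open CategoryTheory CategoryTheory.Limits AlgebraicGeometry TopologicalSpace
open Groth.Agent.PullbackMod Groth.Agent.DevLib Groth.Agent.QCohLib

noncomputable section

namespace Groth.Agent.VBLib

variable (k : Type u) [Field k] {X : Scheme.{u}} [X.Over (Spec (CommRingCat.of k))]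
  [IsProper (X ↘ Spec (CommRingCat.of k))] [IsIntegral X] [IsNoetherian X]

attribute [local irreducible] dg grk

variable {E Q : X.Modules}

/-- Invariants of the kernel of an epimorphism. -/
theorem kernel_add (p : E ⟶ Q) [Epi p] (hE : Coh.IsCoh E) (hQ : Coh.IsCoh Q) :
    Coh.IsCoh (kernel p) ∧ grk E = grk (kernel p) + grk Q ∧ dg k E = dg k (kernel p) + dg k Q := by
  have hK := (isCoh_kernel_cokernel p hE hQ).1
  have hS : (ShortComplex.mk (kernel.ι p) p (kernel.condition p)).ShortExact :=
    ShortComplex.ShortExact.mk' (ShortComplex.exact_of_f_is_kernel _ (kernelIsKernel p)) inferInstance inferInstance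
  exact ⟨hK, grk_add hS hK hQ, dg_add k hS hK hE hQ⟩

variable (hdim : topologicalKrullDim X ≤ 1)

include hdim in
/-- The torsion-free quotient of a coherent module, with its invariants. -/
theorem exists_freeQuot [IsRegCurve X] {C : X.Modules} (hC : Coh.IsCoh C) :
    ∃ (F : X.Modules) (p : C ⟶ F), Epi p ∧ Coh.IsCoh F ∧ FlatMod.IsFinLocFreeOfRank (grk F) F ∧
      grk F = grk C ∧ dg k F ≤ dg k C := by
  obtain ⟨S, hS, h1, h2, h3, htf, -, -, hn1, ⟨e⟩, -⟩ := exists_tfQuot (ξ := genericPoint X) hC
    fun y _ => (genericPoint_spec X).specializes trivial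
  have hr := grk_add hS h1 h3
  have h0 : grk S.X₁ = 0 := (grk_eq_zero_iff h1).2 hn1
  have hd := dg_add k hS h1 h2 h3
  have hpos := dg_nonneg k hdim h1 h0
  rw [grk_iso e] at hr
  rw [dg_iso k e] at hd
  haveI := hS.epi_g
  exact ⟨S.X₃, e.inv ≫ S.g, inferInstance, h3, rank_of_isTF h3 htf, by omega, by omega⟩

include hdim in
theorem euler_le_finrank (M : X.Modules) :
    Curv2.euler k X M ≤ Module.finrank k (Coh.HH X M 0) := by
  rw [CurveLib.euler_eq_sub (k := k) hdim]
  have := Int.natCast_nonneg (Module.finrank k (Coh.HH X M 1))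
  omega

omit [IsIntegral X] in
theorem finrank_H0_le_of_mono {G : X.Modules} (i : G ⟶ E) [Mono i] (hE : Coh.IsCoh E) :
    Module.finrank k (Coh.HH X G 0) ≤ Module.finrank k (Coh.HH X E 0) := by
  haveI := EulerIneqLib.finite_HH (k := k) hE 0
  exact LinearMap.finrank_le_finrank_of_injective
    (CurveLib.hMap_f_zero_injective (k := k) (cokerSeq_shortExact i))

include hdim in
/-- Degrees of submodules are bounded by the sections of the ambient module. -/
theorem dg_le_sections {G : X.Modules} (i : G ⟶ E) [Mono i] (hE : Coh.IsCoh E) :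
    dg k G ≤ Module.finrank k (Coh.HH X E 0) - grk G * Curv2.euler k X (Coh.structureModule X) := by
  have h1 := euler_le_finrank k hdim G
  have h2 : (Module.finrank k (Coh.HH X G 0) : ℤ) ≤ Module.finrank k (Coh.HH X E 0) := by
    exact_mod_cast finrank_H0_le_of_mono k i hE
  rw [dg, Curv2.deg]
  omega

include hdim in
theorem bddAbove_dg (hE : Coh.IsCoh E) :
    ∃ N : ℤ, ∀ (G : X.Modules) (i : G ⟶ E), Mono i → Coh.IsCoh G → dg k G ≤ N := by
  refine ⟨Module.finrank k (Coh.HH X E 0) + grk E * |Curv2.euler k X (Coh.structureModule X)|, fun G i hi hG => ?_⟩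
  haveI := hi
  obtain ⟨hc, h1, -⟩ := coker_add k i hG hE
  refine (dg_le_sections k hdim i hE).trans ?_
  have h2 : (grk G : ℤ) ≤ grk E := by exact_mod_cast (by omega : grk G ≤ grk E)
  have h3 : -((grk G : ℤ) * Curv2.euler k X (Coh.structureModule X)) ≤ grk G * |Curv2.euler k X (Coh.structureModule X)| := by
    rw [← mul_neg]
    exact mul_le_mul_of_nonneg_left (neg_le_abs _) (Int.natCast_nonneg _)
  have h4 := mul_le_mul_of_nonneg_right h2 (abs_nonneg (Curv2.euler k X (Coh.structureModule X)))
  omega

end Groth.Agent.VBLib
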