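import Groth.Agent.VBLib.Slope
import Groth.Agent.VBLib.Sub
import Groth.Agent.CurveLib.Deg
/-!
Slopes in extensions; invertible submodules of extensions.
-/

set_option autoImplicit false
set_option backward.isDefEq.respectTransparency false
set_option linter.style.haveILetI false

universe u

open CategoryTheory CategoryTheory.Limits AlgebraicGeometry TopologicalSpace
open Groth.Agent.PullbackMod Groth.Agent.DevLib Groth.Agent.QCohLib

noncomputable section

namespace Groth.Agent.VBLib

variable (k : Type u) [Field k] {X : Scheme.{u}} [X.Over (Spec (CommRingCat.of k))]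
  [IsProper (X ↘ Spec (CommRingCat.of k))] [IsIntegral X] [IsNoetherian X] [IsRegCurve X]

attribute [local irreducible] dg grk

theorem slopeLE_all {E : X.Modules} {n : ℕ} (hE : FlatMod.IsFinLocFreeOfRank n E) {d r : ℤ}
    (h : SlopeLE k E d r) {G : X.Modules} (i : G ⟶ E) [Mono i] (hG : Coh.IsCoh G) : dg k G * r ≤ d * grk G := by
  rcases Nat.eq_zero_or_pos (grk G) with h0 | h0
  · rw [h0, (dg_isZero k (isZero_of_mono i hG hE h0)).2]
    simp
  · exact h G i inferInstance hG h0

/-- The slope of a submodule of an extension, through the submodules of the two ends. -/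
theorem exists_ends (T : ShortComplex X.Modules) (hT : T.ShortExact) (h₁ : Coh.IsCoh T.X₁) (h₃ : Coh.IsCoh T.X₃)
    {G : X.Modules} (i : G ⟶ T.X₂) [Mono i] (hG : Coh.IsCoh G) :
    ∃ (A B : X.Modules) (a : A ⟶ T.X₁) (b : B ⟶ T.X₃), Mono a ∧ Mono b ∧ Coh.IsCoh A ∧ Coh.IsCoh B ∧
      grk G = grk A + grk B ∧ dg k G = dg k A + dg k B := by
  obtain ⟨I, p, b, hb, hp, hpb, hI, hK, h1, h2⟩ := exists_image k (i ≫ T.g) hG h₃
  haveI := hT.mono_f
  let a : kernel (i ≫ T.g) ⟶ T.X₁ := hT.fIsKernel.lift (KernelFork.ofι (kernel.ι (i ≫ T.g) ≫ i)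
    (by rw [Category.assoc]; exact kernel.condition _))
  have ha : a ≫ T.f = kernel.ι (i ≫ T.g) ≫ i := hT.fIsKernel.fac _ WalkingParallelPair.zero
  haveI : Mono a := by
    haveI : Mono (a ≫ T.f) := ha ▸ mono_comp _ _
    exact mono_of_mono a T.f
  exact ⟨_, I, a, b, inferInstance, hb, hK, hI, h1, h2⟩

omit [IsProper (X ↘ Spec (CommRingCat.of k))] [AlgebraicGeometry.IsNoetherian X] [IsRegCurve X] [X.Over (Spec (CommRingCat.of k))] in
include k in
theorem factor_of_comp_zero {N L E : X.Modules} (hN : PicF.IsInvertible N) (hL : PicF.IsInvertible L)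
    (j : N ⟶ E) [Mono j] (f : L ⟶ E) [Mono f] (hq : PicF.IsInvertible (cokernel j)) (φ : N ⟶ L) (hφ : φ ≫ f = j) :
    ∃ e : N ≅ L, e.hom = φ := by
  have hj : j ≠ 0 := fun h => by
    have h1 : (𝟙 N : N ⟶ N) = 0 := by rw [← cancel_mono j, h, comp_zero, comp_zero]
    obtain ⟨U, hU⟩ := ParaFLib.exists_stalk_gen hN (genericPoint X)
    have h2 := LinearMap.congr_fun (congrArg (fun g => stalkLin g (genericPoint X)) h1) U
    rw [stalkLin_id, DevLib.stalkLin_zero] at h2
    exact one_ne_zero (hU.1 (show (1 : X.presheaf.stalk (genericPoint X)) • U = (0 : X.presheaf.stalk (genericPoint X)) • U by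
      rw [one_smul, zero_smul]; exact h2))
  have hψ : f ≫ cokernel.π j = 0 := by
    by_contra h
    haveI := CurveLib.mono_of_ne_zero hL hq h
    refine hj ?_
    have h0 : φ ≫ f ≫ cokernel.π j = 0 := by rw [← Category.assoc, hφ, cokernel.condition]
    rw [← hφ, (cancel_mono (f ≫ cokernel.π j)).1 (h0.trans zero_comp.symm), zero_comp]
  let χ : L ⟶ N := Abelian.monoLift j f hψ
  have hχ : χ ≫ j = f := Abelian.monoLift_comp j f hψ
  exact ⟨⟨φ, χ, by rw [← cancel_mono j, Category.assoc, hχ, hφ, Category.id_comp],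
    by rw [← cancel_mono f, Category.assoc, hφ, hχ, Category.id_comp]⟩, rfl⟩

end Groth.Agent.VBLib
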