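import Groth.Agent.VBLib.Deg
/-!
Extensions of torsion-free modules.
-/

set_option autoImplicit false
set_option backward.isDefEq.respectTransparency false
set_option linter.style.haveILetI false

universe u

open CategoryTheory CategoryTheory.Limits AlgebraicGeometry TopologicalSpace
open Groth.Agent.PullbackMod Groth.Agent.DevLib

noncomputable section

namespace Groth.Agent.VBLib

variable {X : Scheme.{u}} [IsIntegral X]

theorem isTF_mid {S : ShortComplex X.Modules} (hS : S.ShortExact)
    (h₁ : IsTF (genericPoint X) S.X₁) (h₃ : IsTF (genericPoint X) S.X₃) : IsTF (genericPoint X) S.X₂ := by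
  intro V s hs
  haveI := hS.mono_f
  refine eq_zero_of_forall_germ s fun y hy => ?_
  have hg : S.g.app V s = 0 := h₃ V _ fun hx => by rw [← stalkLin_germ, hs hx, map_zero]
  obtain ⟨z, hz⟩ := (stalk_exact hS y (S.X₂.presheaf.germ V y hy s)).1 (by rw [stalkLin_germ, hg, map_zero])
  obtain ⟨W, hW, t, rfl⟩ := TopCat.Presheaf.exists_germ_eq S.X₁.presheaf z
  rw [stalkLin_germ] at hz
  obtain ⟨W', hW', i, j, e⟩ := TopCat.Presheaf.germ_eq S.X₂.presheaf y hW hy _ _ hz
  have hξ : genericPoint X ∈ W' := TorRankLib.generic_mem hW'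
  have e' := congrArg (S.X₂.presheaf.germ W' (genericPoint X) hξ) e
  rw [TopCat.Presheaf.germ_res_apply, TopCat.Presheaf.germ_res_apply, hs (TorRankLib.generic_mem hy),
    ← stalkLin_germ] at e'
  have ht : t = 0 := h₁ W t fun hx => (mono_iff_stalk S.f).1 inferInstance _ (e'.trans (map_zero _).symm)
  rw [← hz, ht, map_zero, map_zero]

theorem rank_mid [IsLocallyNoetherian X] [IsRegCurve X] {S : ShortComplex X.Modules} (hS : S.ShortExact)
    {a b : ℕ} (h₁ : FlatMod.IsFinLocFreeOfRank a S.X₁) (h₃ : FlatMod.IsFinLocFreeOfRank b S.X₃)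
    (h₂ : Coh.IsCoh S.X₂) : FlatMod.IsFinLocFreeOfRank (a + b) S.X₂ := by
  haveI := (isCoh_of_rank h₁).1
  haveI := (isCoh_of_rank h₃).1
  have h := rank_of_isTF h₂ (isTF_mid hS (isTF_of_rank h₁) (isTF_of_rank h₃))
  rwa [grk_add hS (isCoh_of_rank h₁) (isCoh_of_rank h₃), grk_of_rank h₁, grk_of_rank h₃] at h

end Groth.Agent.VBLib
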