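import Groth.Agent.VBLib.Generic
import Groth.Agent.VBLib.Cst
import Groth.Agent.VBLib.ExtTF
import Groth.Agent.CurveLib.MaxSections
import Groth.Agent.CurveLib.CurveVanish
/-!
Rank two bundles on curves of genus one.
-/

set_option autoImplicit false
set_option backward.isDefEq.respectTransparency false
set_option linter.style.haveILetI false

universe u

open CategoryTheory CategoryTheory.Limits AlgebraicGeometry TopologicalSpace
open Groth.Agent.PullbackMod Groth.Agent.DevLib Groth.Agent.QCohLib

noncomputable section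

namespace Groth.Agent.VBLib

variable (k : Type u) [Field k] [IsAlgClosed k] {X : Scheme.{u}} [X.Over (Spec (CommRingCat.of k))]
  [IsProper (X ↘ Spec (CommRingCat.of k))] [IsIntegral X]
  (hdim : topologicalKrullDim X = 1) (hg : Curv2.genus k X = 1)

include hdim hg in
theorem euler_structure_genus_one : Curv2.euler k X (Coh.structureModule X) = 0 := by
  rw [CurveLib.euler_eq_sub (k := k) hdim.le, CurveLib.finrank_H0_structure,
    show Module.finrank k (Coh.HH X (Coh.structureModule X) 1) = 1 from hg]
  rfl

include hdim hg in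
/-- `deg = h⁰ - h¹` in genus one. -/
theorem deg_genus_one (L : X.Modules) (n : ℕ) : Curv2.deg k X L n =
    (Module.finrank k (Coh.HH X L 0) : ℤ) - Module.finrank k (Coh.HH X L 1) := by
  rw [Curv2.deg, euler_structure_genus_one k hdim hg, CurveLib.euler_eq_sub (k := k) hdim.le]
  simp

include hdim hg in
/-- Degree zero with nonzero `H¹`: trivial. -/
theorem nonempty_iso_structure {L : X.Modules} (hL : PicF.IsInvertible L) (hd : Curv2.deg k X L 1 = 0)
    (h1 : ¬ Subsingleton (Coh.HH X L 1)) : Nonempty (L ≅ Coh.structureModule X) := by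
  haveI := EulerIneqLib.isNoetherian_proper (X := X) k
  haveI := EulerIneqLib.finite_HH (k := k) (CurveLib.isCoh_of_isInvertible hL) 1
  have h2 : Module.finrank k (Coh.HH X L 1) ≠ 0 := fun h => h1 ((Module.finrank_zero_iff (R := k)).1 h)
  have h3 := deg_genus_one k hdim hg L 1
  haveI : Nontrivial (Coh.HH X L 0) := Module.nontrivial_of_finrank_pos (R := k) (by omega)
  obtain ⟨s, hs⟩ := CurveLib.exists_hom_ne_zero L
  exact CurveLib.nonempty_iso_structureModule (k := k) hdim.le hL s hs hd.le

variable [IsNoetherian X] [IsRegCurve X]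

include hdim hg in
/-- A rank two bundle of degree two has a section vanishing at some point. -/
theorem exists_sub_deg_one {E : X.Modules} (hE : FlatMod.IsFinLocFreeOfRank 2 E)
    (hd : Curv2.deg k X E 2 = 2) :
    ∃ (G : X.Modules) (j : G ⟶ E), Mono j ∧ PicF.IsInvertible G ∧ Curv2.deg k X G 1 = 1 := by
  have hEc := isCoh_of_rank hE
  let F : X.Modules := DCohLib.tmod (Coh.structureModule X) E
  let eF : F ≅ E := CurveLib.tmodUnit E
  have hFc : Coh.IsCoh F := ShStabLib.isCoh_of_iso eF.symm hEc
  have hFh : 2 ≤ Module.finrank k (Coh.HH X F 0) := by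
    have h := deg_genus_one k hdim hg E 2
    rw [CurveLib.hMap_bijective_finrank (k := k) eF 0]
    omega
  suffices hex : ∃ (P : X.Modules), PicF.IsInvertible P ∧ Curv2.deg k X P 1 = -1 ∧
      Nontrivial (Coh.HH X (CohB1.tensorMod E P) 0) by
    obtain ⟨P, hP, hdP, hnt⟩ := hex
    haveI := hnt
    obtain ⟨s, hs⟩ := CurveLib.exists_hom_ne_zero (CohB1.tensorMod E P)
    have hEP : Coh.IsCoh (CohB1.tensorMod E P) := CurveLib.isCoh_tmod hEc (CurveLib.isCoh_of_isInvertible hP)
    obtain ⟨I, a, b, hb, ha, hab, hI, hK, h1, h2⟩ := exists_image k s (isCoh_structureModule X) hEP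
    haveI := hb
    haveI := ha
    obtain ⟨G, j, e, hj, hG, -⟩ := exists_untwist hP b hI
    haveI := hj
    obtain ⟨o1, o2⟩ := dg_structureModule k (X := X)
    have hGr := rank_of_mono j hG hE
    have hg0 : grk I = grk G := (grk_iso e).symm.trans (grk_twist hP G)
    have hG0 : grk G ≠ 0 := fun hz => hs (by
      rw [← hab, ((CurveLib.tensR P).map_isZero (isZero_of_mono j hG hE hz)).of_iso e.symm |>.eq_of_tgt a 0,
        zero_comp])
    have hK0 : grk (kernel s) = 0 := by omega
    have hz := isZero_of_mono (kernel.ι s) hK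
      (CurveLib.isFinLocFreeOfRank_one ParaFLib.isInvertible_structureModule) hK0
    rw [show grk G = 1 by omega] at hGr
    refine ⟨G, j, hj, isInvertible_of_rank hGr, ?_⟩
    have hd2 : dg k I = dg k G + Curv2.deg k X P 1 := by
      rw [← dg_iso k e, dg, grk_twist hP, dg_eq k hGr, show grk G = 1 by omega]
      refine (CurveLib.deg_tensor_invertible (k := k) hdim.le hGr hP).trans ?_
      simp
    rw [(dg_isZero k hz).2, o2, hd2, hdP, dg_eq k hGr] at h2
    omega
  by_contra hno
  push Not at hno
  haveI := EulerIneqLib.finite_HH (k := k) hFc 0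
  -- at every closed point the sections generate
  have key : ∀ x : X, IsClosed ({x} : Set X) → Module.finrank k (Coh.HH X F 0) = 2 ∧
      ∀ (A : Submodule (X.presheaf.stalk x) (F.presheaf.stalk x)),
        (∀ c : Coh.HH X F 0, F.presheaf.germ ⊤ x trivial (CurveLib.secOf F c) ∈ A) → A = ⊤ := by
    intro x hxc
    obtain ⟨P, i, hi, hP, hdP, hsupp⟩ := exists_point_sub_at k hdim hxc
    haveI := hi
    have h0 : Subsingleton (Coh.HH X (CohB1.tensorMod E P) 0) := hno P hP hdP
    let T : ShortComplex X.Modules := (cokerSeq i).map (CurveLib.tensR E)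
    have hS : T.ShortExact :=
      CurveLib.shortExact_tensR (cokerSeq_shortExact i) (CurveLib.freeAt_of_isFinLocFreeOfRank hE)
    haveI := hS.mono_f
    haveI := hS.epi_g
    let e₁ : T.X₁ ≅ CohB1.tensorMod E P := CurveLib.tmodComm P E
    have hEP : Coh.IsCoh (CohB1.tensorMod E P) := CurveLib.isCoh_tmod hEc (CurveLib.isCoh_of_isInvertible hP)
    have hT1 : Coh.IsCoh T.X₁ := ShStabLib.isCoh_of_iso e₁.symm hEP
    have hEPr : FlatMod.IsFinLocFreeOfRank 2 (CohB1.tensorMod E P) := by
      have h := rank_of_mono (e₁.inv ≫ T.f ≫ eF.hom) hEP hE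
      rwa [grk_twist hP, grk_of_rank hE] at h
    let eC : cokernel T.f ≅ T.X₃ := IsColimit.coconePointUniqueUpToIso (cokernelIsCokernel T.f) hS.gIsCokernel
    have hT3 : Coh.IsCoh T.X₃ := ShStabLib.isCoh_of_iso eC (isCoh_kernel_cokernel T.f hT1 hFc).2
    have ha := dg_add k hS hT1 hFc hT3
    have hg' := grk_add hS hT1 hT3
    have hd1 : dg k T.X₁ = 0 := by
      rw [dg_iso k e₁, dg_eq k hEPr]
      refine (CurveLib.deg_tensor_invertible (k := k) hdim.le hE hP).trans ?_
      rw [hd, hdP]
      rfl
    change dg k F = _ at ha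
    change grk F = _ at hg'
    rw [dg_iso k eF, dg_eq k hE, hd, hd1, zero_add] at ha
    rw [grk_iso eF, grk_iso e₁, grk_of_rank hE, grk_of_rank hEPr] at hg'
    obtain ⟨h31, hd3⟩ := dg_eq_finrank k hdim.le hT3 (by omega)
    haveI := EulerIneqLib.finite_HH (k := k) hT3 0
    have h4 := finrank_H0_mid_le k hS hT1 hFc hT3
    haveI := h0
    rw [CurveLib.hMap_bijective_finrank (k := k) e₁ 0,
      Module.finrank_zero_of_subsingleton (M := Coh.HH X (CohB1.tensorMod E P) 0)] at h4
    change Module.finrank k (Coh.HH X F 0) ≤ _ at h4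
    have hF2 : Module.finrank k (Coh.HH X F 0) = 2 := by omega
    refine ⟨hF2, fun A hA => ?_⟩
    have hinj : Function.Injective (CurveLib.hMap (k := k) T.g 0) := by
      rw [← LinearMap.ker_eq_bot, show LinearMap.ker (CurveLib.hMap (k := k) T.g 0) =
        LinearMap.range (CurveLib.hMap (k := k) T.f 0) from (CurveLib.range_hMap_f (k := k) hS 0).symm,
        LinearMap.range_eq_bot]
      refine LinearMap.ext fun z => ?_
      haveI : Subsingleton (Coh.HH X T.X₁ 0) :=
        (CurveLib.hMap_bijective_iso (k := k) e₁ 0).1.subsingleton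
      rw [Subsingleton.elim z 0, map_zero]
      rfl
    haveI : FiniteDimensional k (Coh.HH X T.X₂ 0) := EulerIneqLib.finite_HH (k := k) hFc 0
    have hsurj := (LinearMap.injective_iff_surjective_of_finrank_eq_finrank (show
      Module.finrank k (Coh.HH X T.X₂ 0) = Module.finrank k (Coh.HH X T.X₃ 0) by
        change Module.finrank k (Coh.HH X F 0) = _; omega)).1 hinj
    -- the point ideal lies in the maximal ideal
    have hne : ¬ Function.Surjective (stalkLin i x) := by
      intro hsur
      have hz : IsZero (cokernel i) := isZero_of_support_empty (Set.eq_empty_of_forall_notMem fun y hy => hy (by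
        by_cases hyx : y = x
        · subst hyx
          refine subsingleton_of_forall_eq 0 fun z => ?_
          obtain ⟨w, rfl⟩ := DevLib.coker_surjective i y z
          obtain ⟨v, rfl⟩ := hsur w
          exact (DevLib.coker_exact i y _).2 ⟨v, rfl⟩
        · exact hsupp y hyx))
      obtain ⟨-, hr, hdd⟩ := coker_add k i (CurveLib.isCoh_of_isInvertible hP) (isCoh_structureModule X)
      rw [(dg_structureModule k (X := X)).2, dg_eq k (CurveLib.isFinLocFreeOfRank_one hP), hdP,
        (dg_isZero k hz).2] at hdd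
      omega
    obtain ⟨eO⟩ := CurveLib.freeAt_one_of_isInvertible (ParaFLib.isInvertible_structureModule (X := X)) x
    have hm : ∀ p, ∃ a ∈ IsLocalRing.maximalIdeal (X.presheaf.stalk x),
        stalkLin i x p = a • eO.symm (fun _ => 1) := by
      intro p
      refine ⟨eO (stalkLin i x p) 0, ?_, eO.injective (funext fun q => ?_)⟩
      · by_contra hu
        rw [IsLocalRing.mem_maximalIdeal, mem_nonunits_iff, not_not] at hu
        obtain ⟨b, hb⟩ := hu.exists_left_inv
        refine hne fun y => ⟨(eO y 0 * b) • p, eO.injective (funext fun q => ?_)⟩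
        rw [map_smul, map_smul, Pi.smul_apply, smul_eq_mul, Fin.fin_one_eq_zero q, mul_assoc, hb, mul_one]
      · rw [map_smul, LinearEquiv.apply_symm_apply, Pi.smul_apply, smul_eq_mul, mul_one, Fin.fin_one_eq_zero q]
    haveI := hFc.1
    haveI := finite_stalk_of_isFT (M := F) hFc.2 x
    refine top_le_iff.1 (Submodule.le_of_le_smul_of_le_jacobson_bot Module.Finite.fg_top
      (IsLocalRing.maximalIdeal_le_jacobson _) fun z _ => ?_)
    obtain ⟨τ, hτ, -⟩ := CurveLib.exists_global_germ' (DevLib.isClosed_support hT3) hd3 T.X₃ subset_rfl x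
      (stalkLin T.g x z)
    obtain ⟨c, hc⟩ := hsurj ((CurveLib.secOf T.X₃).symm τ)
    have hdiff : stalkLin T.g x (z - F.presheaf.germ ⊤ x trivial (CurveLib.secOf F c)) = 0 := by
      have h1 : stalkLin T.g x (F.presheaf.germ ⊤ x trivial (CurveLib.secOf F c)) = stalkLin T.g x z := by
        refine (Eq.trans (stalkLin_germ (U := ⊤) (hx := trivial) T.g ..) ?_)
        rw [show T.g.app ⊤ (CurveLib.secOf F c) = τ from
          (CurveLib.secOf_hMap (k := k) T.g c).symm.trans (by rw [hc, AddEquiv.apply_symm_apply])]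
        exact hτ
      rw [map_sub, h1, sub_self]
    obtain ⟨w, hw⟩ := (stalk_exact hS x _).1 hdiff
    rw [Submodule.mem_sup]
    refine ⟨_, hA c, z - F.presheaf.germ ⊤ x trivial (CurveLib.secOf F c), ?_, add_sub_cancel _ _⟩
    rw [← hw]
    clear hw hdiff
    obtain ⟨w, rfl⟩ := (DCohLib.stalkTensor x P E).surjective w
    induction w using TensorProduct.induction_on with
    | zero => simp
    | add u v hu hv => rw [map_add, map_add]; exact Submodule.add_mem _ hu hv
    | tmul p v =>
      obtain ⟨a, ha, hpa⟩ := hm p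
      have h1 : stalkLin T.f x (DCohLib.stalkTensor x P E (p ⊗ₜ v)) =
          DCohLib.stalkTensor x (Coh.structureModule X) E (stalkLin i x p ⊗ₜ v) :=
        DCohLib.stalkTensor_natural_left x i (p ⊗ₜ v)
      rw [h1, hpa, ← TensorProduct.smul_tmul', map_smul]
      exact Submodule.smul_mem_smul ha Submodule.mem_top
  obtain ⟨x₀, -, hx₀⟩ := (isClosed_univ (X := X)).exists_closed_singleton Set.univ_nonempty
  obtain ⟨h2, -⟩ := key x₀ hx₀
  let bs := Module.finBasisOfFinrankEq k (Coh.HH X F 0) h2
  let σ : Fin 2 → (Coh.structureModule X ⟶ F) := fun q => DCohLib.secHom F (CurveLib.secOf F (bs q))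
  let φ : Coh.structureModule X ⊞ Coh.structureModule X ⟶ F := biprod.desc (σ 0) (σ 1)
  let O2 : X.Modules := Coh.structureModule X ⊞ Coh.structureModule X
  let S2 : ShortComplex X.Modules :=
    ShortComplex.mk (biprod.inl : Coh.structureModule X ⟶ O2) biprod.snd biprod.inl_snd
  have hS2 : S2.ShortExact :=
    (ShortComplex.Splitting.ofHasBinaryBiproduct (Coh.structureModule X) (Coh.structureModule X)).shortExact
  have hO := isCoh_structureModule X
  have hO2 : Coh.IsCoh O2 := isCoh_X₂ hS2 hO hO
  obtain ⟨o1, o2⟩ := dg_structureModule k (X := X)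
  have hd2 := dg_add k hS2 hO hO2 hO
  have hr2 := grk_add hS2 hO hO
  change dg k O2 = dg k (Coh.structureModule X) + dg k (Coh.structureModule X) at hd2
  change grk O2 = grk (Coh.structureModule X) + grk (Coh.structureModule X) at hr2
  have hepi : Epi φ := by
    have hz : IsZero (cokernel φ) := by
      refine isZero_of_support_empty (Set.eq_empty_of_forall_notMem fun y hy => ?_)
      have hC := DevLib.isClosed_support (isCoh_kernel_cokernel φ hO2 hFc).2
      obtain ⟨x, hx, hxc⟩ := hC.exists_closed_singleton ⟨y, hy⟩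
      obtain ⟨-, hA⟩ := key x hxc
      refine hx (subsingleton_of_forall_eq 0 fun q => ?_)
      obtain ⟨z, rfl⟩ := (epi_iff_stalk (cokernel.π φ)).1 inferInstance x q
      have hzr : z ∈ LinearMap.range (stalkLin φ x) := by
        rw [hA (LinearMap.range (stalkLin φ x)) fun c => ?_]
        · trivial
        · rw [← bs.sum_repr c, map_sum, map_sum]
          refine Submodule.sum_mem _ fun q _ => ?_
          rw [CurveLib.secOf_smul, TorRankLib.germ_smul']
          refine Submodule.smul_mem _ _ ?_
          have hq : ∃ ι : Coh.structureModule X ⟶ O2, ι ≫ φ = σ q := by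
            fin_cases q
            · exact ⟨biprod.inl, biprod.inl_desc _ _⟩
            · exact ⟨biprod.inr, biprod.inr_desc _ _⟩
          obtain ⟨ι, hι⟩ := hq
          refine ⟨stalkLin ι x ((Coh.structureModule X).presheaf.germ ⊤ x trivial (1 : Γ(X, ⊤))), ?_⟩
          rw [← LinearMap.comp_apply, ← stalkLin_comp, hι, stalkLin_germ]
          exact congrArg _ (AmpleLib.sec_secHom (CurveLib.secOf F (bs q)))
      obtain ⟨v, rfl⟩ := hzr
      rw [← LinearMap.comp_apply, ← stalkLin_comp, cokernel.condition, DevLib.stalkLin_zero]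
      rfl
    exact Preadditive.epi_of_isZero_cokernel φ hz
  obtain ⟨hK, hk1, hk2⟩ := kernel_add k φ hO2 hFc
  rw [grk_iso eF, grk_of_rank hE] at hk1
  change grk O2 = _ at hk1
  have hzK := isZero_of_mono (kernel.ι φ) hK
    (rank_mid hS2 (CurveLib.isFinLocFreeOfRank_one ParaFLib.isInvertible_structureModule)
      (CurveLib.isFinLocFreeOfRank_one ParaFLib.isInvertible_structureModule) hO2) (by omega)
  rw [dg_iso k eF, dg_eq k hE, (dg_isZero k hzK).2] at hk2
  change dg k O2 = _ at hk2
  omega

end Groth.Agent.VBLib
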