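import Groth.Agent.VBLib.Ext
/-!
Preimages, saturation and maximal destabilising submodules.
-/

set_option autoImplicit false
set_option backward.isDefEq.respectTransparency false
set_option linter.style.haveILetI false

universe u

open CategoryTheory CategoryTheory.Limits AlgebraicGeometry TopologicalSpace
open Groth.Agent.PullbackMod Groth.Agent.DevLib Groth.Agent.QCohLib

noncomputable section

namespace Groth.Agent.VBLib

variable (k : Type u) [Field k] {X : Scheme.{u}} [X.Over (Spec (CommRingCat.of k))]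
  [IsProper (X ↘ Spec (CommRingCat.of k))] [IsIntegral X] [IsNoetherian X]

attribute [local irreducible] dg grk

/-- The preimage of a submodule of a cokernel. -/
theorem exists_preimage {A E : X.Modules} (i : A ⟶ E) [Mono i] (hA : Coh.IsCoh A) (hE : Coh.IsCoh E)
    {Q : X.Modules} (j : Q ⟶ cokernel i) [Mono j] (hQ : Coh.IsCoh Q) :
    ∃ (P : X.Modules) (a : P ⟶ E), Mono a ∧ Coh.IsCoh P ∧ grk P = grk A + grk Q ∧ dg k P = dg k A + dg k Q := by
  obtain ⟨hC, hC1, hC2⟩ := coker_add k i hA hE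
  obtain ⟨hD, hD1, hD2⟩ := coker_add k j hQ hC
  obtain ⟨hP, hP1, hP2⟩ := kernel_add k (cokernel.π i ≫ cokernel.π j) hE hD
  exact ⟨_, kernel.ι (cokernel.π i ≫ cokernel.π j), inferInstance, hP, by omega, by omega⟩

variable [IsRegCurve X] (hdim : topologicalKrullDim X ≤ 1)

include hdim in
/-- A submodule of maximal degree in its rank has locally free quotient. -/
theorem rank_coker_of_max {A E : X.Modules} (i : A ⟶ E) [Mono i] (hA : Coh.IsCoh A) (hE : Coh.IsCoh E)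
    (hmax : ∀ (P : X.Modules) (a : P ⟶ E), Mono a → Coh.IsCoh P → grk P = grk A → dg k P ≤ dg k A) :
    FlatMod.IsFinLocFreeOfRank (grk (cokernel i)) (cokernel i) := by
  obtain ⟨hC, hC1, hC2⟩ := coker_add k i hA hE
  obtain ⟨F, p, hp, hFc, hF, hFr, hFd⟩ := exists_freeQuot k hdim hC
  obtain ⟨hK, hK1, hK2⟩ := kernel_add k p hC hFc
  obtain ⟨P, a, ha, hP, hP1, hP2⟩ := exists_preimage k i hA hE (kernel.ι p) hK
  have h := hmax P a ha hP (by omega)
  have hz := isZero_of_dg_eq_zero k hdim hK (by omega) (by omega)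
  haveI := Preadditive.mono_of_isZero_kernel p hz
  haveI := isIso_of_mono_of_epi p
  rw [grk_iso (asIso p)]
  intro x
  obtain ⟨U, hx, ⟨e⟩⟩ := hF x
  exact ⟨U, hx, ⟨(Scheme.Modules.restrictFunctor U.ι).mapIso (asIso p) ≪≫ e⟩⟩

include hdim in
/-- A submodule of maximal slope and, among those, of maximal rank. -/
theorem exists_maxSlope {E : X.Modules} (hE : Coh.IsCoh E) (hpos : 0 < grk E) :
    ∃ (E₁ : X.Modules) (i : E₁ ⟶ E), Mono i ∧ Coh.IsCoh E₁ ∧ 0 < grk E₁ ∧
      ∀ (G : X.Modules) (j : G ⟶ E), Mono j → Coh.IsCoh G → 0 < grk G →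
        dg k G * grk E₁ ≤ dg k E₁ * grk G ∧ (dg k G * grk E₁ = dg k E₁ * grk G → grk G ≤ grk E₁) := by
  classical
  obtain ⟨N, hN⟩ := bddAbove_dg k hdim hE
  let P : ℕ → ℤ → Prop := fun g d => ∃ (G : X.Modules) (j : G ⟶ E), Mono j ∧ Coh.IsCoh G ∧ 0 < grk G ∧ grk G = g ∧ dg k G = d
  let S := (Finset.range (grk E + 1)).filter fun g => ∃ d, P g d
  have hmax : ∀ g ∈ S, ∃ d, P g d ∧ ∀ d', P g d' → d' ≤ d := fun g hg =>
    Int.exists_greatest_of_bdd ⟨N, fun d ⟨G, j, hj, hG, _, _, hd⟩ => hd ▸ hN G j hj hG⟩ (Finset.mem_filter.1 hg).2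
  choose! D hD hDmax using hmax
  have hmem : grk E ∈ S := Finset.mem_filter.2 ⟨Finset.self_mem_range_succ _,
    dg k E, E, 𝟙 E, inferInstance, hE, hpos, rfl, rfl⟩
  obtain ⟨g₀, hg₀, hmax'⟩ := S.exists_max_image (fun g => toLex ((D g : ℚ) / g, g)) ⟨_, hmem⟩
  obtain ⟨E₁, i, hi, hE₁, h0, h1, h2⟩ := hD g₀ hg₀
  refine ⟨E₁, i, hi, hE₁, h0, fun G j hj hG hG0 => ?_⟩
  haveI := hj
  have hgS : grk G ∈ S := by
    obtain ⟨hc, hc1, -⟩ := coker_add k j hG hE
    exact Finset.mem_filter.2 ⟨Finset.mem_range.2 (by omega), dg k G, G, j, hj, hG, hG0, rfl, rfl⟩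
  have hle : dg k G ≤ D (grk G) := hDmax _ hgS _ ⟨G, j, hj, hG, hG0, rfl, rfl⟩
  have hG0' : (0 : ℚ) < grk G := by exact_mod_cast hG0
  have hE0' : (0 : ℚ) < grk E₁ := by exact_mod_cast h0
  have hlex := hmax' _ hgS
  rw [← h2, ← h1, Prod.Lex.toLex_le_toLex] at hlex
  have hle' : (dg k G : ℚ) / grk G ≤ (D (grk G) : ℚ) / grk G :=
    div_le_div_of_nonneg_right (by exact_mod_cast hle) hG0'.le
  constructor
  · have h3 : (dg k G : ℚ) / grk G ≤ (dg k E₁ : ℚ) / grk E₁ := by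
      rcases hlex with h | ⟨h, -⟩
      · exact hle'.trans h.le
      · exact hle'.trans h.le
    rw [div_le_div_iff₀ hG0' hE0'] at h3
    exact_mod_cast h3
  · intro he
    have h3 : (dg k G : ℚ) / grk G = (dg k E₁ : ℚ) / grk E₁ := by
      rw [div_eq_div_iff hG0'.ne' hE0'.ne']
      exact_mod_cast he
    rcases hlex with h | ⟨-, h⟩
    · exact absurd h (not_lt.2 (h3 ▸ hle'))
    · exact h

end Groth.Agent.VBLib
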