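import Groth.Agent.VBLib.HomPair
import Groth.Agent.VBLib.Max
import Groth.Agent.VBLib.Slope
import Groth.Agent.VBLib.GenusOne
import Groth.Agent.VBLib.Ext
import Groth.Agent.DegDevLib.Det
import Mathlib.RingTheory.Int.Basic

/-!
# Stable and semistable bundles on a curve of genus one
-/

set_option autoImplicit false
set_option backward.isDefEq.respectTransparency false
set_option linter.style.haveILetI false
set_option maxHeartbeats 1000000

universe u

open CategoryTheory CategoryTheory.Limits AlgebraicGeometry TopologicalSpace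
open Groth.Agent.PullbackMod Groth.Agent.DevLib Groth.Agent.QCohLib Groth.Agent.DCohLib
open Groth.Agent.VBLib.DualDeg Groth.Agent.VBLib.HomPair

noncomputable section

namespace Groth.Agent.VBLib.Atiyah

variable (k : Type u) [Field k] {X : Scheme.{u}} [X.Over (Spec (CommRingCat.of k))]
  [IsProper (X ↘ Spec (CommRingCat.of k))] [IsIntegral X] [IsNoetherian X] [IsRegCurve X]

attribute [local irreducible] dg grk

include k in
/-- An extension of bundles with neighbouring slopes which does not split is stable. -/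
theorem stableAt_ext (hdim : topologicalKrullDim X ≤ 1) {r₁ r₂ : ℕ} {T : ShortComplex X.Modules}
    (hT : T.ShortExact) (hA : FlatMod.IsFinLocFreeOfRank r₁ T.X₁) (hB : FlatMod.IsFinLocFreeOfRank r₂ T.X₃)
    (hE : FlatMod.IsFinLocFreeOfRank (r₁ + r₂) T.X₂) (hr₁ : 0 < r₁) (hr₂ : 0 < r₂)
    (hAst : StableAt k T.X₁ (dg k T.X₁) r₁) (hBst : StableAt k T.X₃ (dg k T.X₃) r₂)
    (hdet : dg k T.X₃ * r₁ - dg k T.X₁ * r₂ = 1) (hns : ¬ IsSplitEpi T.g) :
    StableAt k T.X₂ (dg k T.X₂) (r₁ + r₂) := by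
  have hAc := isCoh_of_rank hA
  have hBc := isCoh_of_rank hB
  have hd := dg_add k hT hAc (isCoh_of_rank hE) hBc
  intro G i hi hG hpos hlt
  haveI := hi
  obtain ⟨I, p, b, hb, hp, hpb, hI, hK, h1, h2⟩ := exists_image k (i ≫ T.g) hG hBc
  haveI := hb
  haveI := hp
  haveI := hT.mono_f
  let a : kernel (i ≫ T.g) ⟶ T.X₁ := hT.fIsKernel.lift (KernelFork.ofι (kernel.ι (i ≫ T.g) ≫ i)
    (by rw [Category.assoc]; exact kernel.condition _))
  have ha : a ≫ T.f = kernel.ι (i ≫ T.g) ≫ i := hT.fIsKernel.fac _ WalkingParallelPair.zero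
  haveI : Mono a := by
    haveI : Mono (a ≫ T.f) := ha ▸ mono_comp _ _
    exact mono_of_mono a T.f
  have hale : grk (kernel (i ≫ T.g)) ≤ r₁ := by
    obtain ⟨-, h, -⟩ := coker_add k a hK hAc
    rw [grk_of_rank hA] at h
    omega
  have hble : grk I ≤ r₂ := by
    obtain ⟨-, h, -⟩ := coker_add k b hI hBc
    rw [grk_of_rank hB] at h
    omega
  have hA1 : dg k (kernel (i ≫ T.g)) * r₁ ≤ dg k T.X₁ * grk (kernel (i ≫ T.g)) := slopeLE_all k hA (slopeLE_of_stableAt k hdim hA hAst) a hK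
  have hB1 : dg k I * r₂ ≤ dg k T.X₃ * grk I := slopeLE_all k hB (slopeLE_of_stableAt k hdim hB hBst) b hI
  rw [hd, h2, h1]
  push_cast
  have hgb : (grk I : ℤ) ≤ r₂ := by exact_mod_cast hble
  have hga : (grk (kernel (i ≫ T.g)) : ℤ) ≤ r₁ := by exact_mod_cast hale
  have h1' : (1 : ℤ) ≤ r₁ := by exact_mod_cast hr₁
  have h2' : (1 : ℤ) ≤ r₂ := by exact_mod_cast hr₂
  have hRR : (0 : ℤ) < (r₁ : ℤ) * r₂ := by positivity
  have hR : (0 : ℤ) ≤ (r₁ : ℤ) + r₂ := by positivity
  refine lt_of_mul_lt_mul_left (a := (r₁ : ℤ) * r₂) ?_ hRR.le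
  have qa := mul_le_mul_of_nonneg_left hA1 (mul_nonneg hR (Int.natCast_nonneg r₂))
  have qb := mul_le_mul_of_nonneg_left hB1 (mul_nonneg hR (Int.natCast_nonneg r₁))
  have qd₁ := congrArg (· * ((grk (kernel (i ≫ T.g)) : ℤ) * r₂)) hdet
  have qd₂ := congrArg (· * ((grk I : ℤ) * r₁)) hdet
  rcases Nat.eq_zero_or_pos (grk I) with hb0 | hb0
  · have : 0 < grk (kernel (i ≫ T.g)) := by omega
    have hpos' : (0 : ℤ) < (grk (kernel (i ≫ T.g)) : ℤ) * r₂ := by positivity
    rw [hb0] at qb qd₂ ⊢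
    push_cast at qb qd₂ ⊢
    linarith
  by_cases hfull : grk I = r₂ ∧ dg k T.X₃ ≤ dg k I
  · obtain ⟨hb2, hd3⟩ := hfull
    haveI := (dg_le_of_mono k hdim b hI hBc (by rw [hb2, grk_of_rank hB])).2 hd3
    have ha0 : grk (kernel (i ≫ T.g)) ≠ 0 := fun hz => hns (by
      have hGr := rank_of_mono i hG hE
      haveI := Preadditive.mono_of_isZero_kernel (i ≫ T.g) (isZero_of_mono (kernel.ι (i ≫ T.g)) hK hGr hz)
      haveI : Epi (i ≫ T.g) := hpb ▸ epi_comp _ _
      haveI : IsIso (i ≫ T.g) := isIso_of_mono_of_epi _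
      exact ⟨⟨⟨inv (i ≫ T.g) ≫ i, by rw [Category.assoc, IsIso.inv_hom_id]⟩⟩⟩)
    have hlt1 : grk (kernel (i ≫ T.g)) < r₁ := by omega
    have hs := hAst (kernel (i ≫ T.g)) a inferInstance hK (Nat.pos_of_ne_zero ha0) hlt1
    have qa' := mul_le_mul_of_nonneg_left (Int.le_sub_one_of_lt hs) (mul_nonneg hR (Int.natCast_nonneg r₂))
    rw [hb2] at qb qd₂ ⊢
    have : (0 : ℤ) < (grk (kernel (i ≫ T.g)) : ℤ) * r₂ := by
      have := Nat.pos_of_ne_zero ha0
      positivity
    nlinarith [mul_pos (show (0 : ℤ) < r₂ by omega) (show (0 : ℤ) < r₂ by omega)]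
  · have hstrict : dg k I * r₂ ≤ dg k T.X₃ * grk I - 1 := by
      rcases lt_or_eq_of_le hble with hb2 | hb2
      · exact Int.le_sub_one_of_lt (hBst I b inferInstance hI hb0 hb2)
      · have : dg k I < dg k T.X₃ := lt_of_not_ge fun h => hfull ⟨hb2, h⟩
        rw [hb2]
        nlinarith
    have qb' := mul_le_mul_of_nonneg_left hstrict (mul_nonneg hR (Int.natCast_nonneg r₁))
    have q3 := mul_le_mul_of_nonneg_right hgb (Int.natCast_nonneg r₁)
    have : (0 : ℤ) ≤ (grk (kernel (i ≫ T.g)) : ℤ) * r₂ := by positivity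
    nlinarith [mul_pos (show (0 : ℤ) < r₁ by omega) (show (0 : ℤ) < r₁ by omega)]

include k in
/-- A sum of semistable bundles of the same slope is semistable. -/
theorem slopeLE_biprod {a b : ℕ} {A B : X.Modules} (hA : FlatMod.IsFinLocFreeOfRank a A)
    (hB : FlatMod.IsFinLocFreeOfRank b B) {d r : ℤ} (h₁ : SlopeLE k A d r) (h₂ : SlopeLE k B d r) :
    SlopeLE k (A ⊞ B) d r := by
  intro G i hi hG _
  haveI := hi
  have hS : (ShortComplex.mk (biprod.inl : A ⟶ A ⊞ B) biprod.snd (by simp)).ShortExact :=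
    (ShortComplex.Splitting.ofHasBinaryBiproduct A B).shortExact
  obtain ⟨A', B', u, v, hu, hv, hA', hB', e1, e2⟩ :=
    exists_ends k _ hS (isCoh_of_rank hA) (isCoh_of_rank hB) i hG
  haveI := hu
  haveI := hv
  have q1 := slopeLE_all k hA h₁ u hA'
  have q2 := slopeLE_all k hB h₂ v hB'
  rw [e2, e1]
  push_cast
  linarith

variable [IsAlgClosed k] (hdim : topologicalKrullDim X = 1) (hg : Curv2.genus k X = 1)

include hdim hg in
/-- Stable bundles exist for coprime rank and degree. -/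
theorem exists_stable : ∀ (r : ℕ), 0 < r → ∀ d : ℤ, IsCoprime d (r : ℤ) →
    ∃ E : X.Modules, FlatMod.IsFinLocFreeOfRank r E ∧ dg k E = d ∧ StableAt k E (dg k E) r := by
  intro r
  induction r using Nat.strong_induction_on with
  | _ r ih =>
    intro hr d hcop
    rcases Nat.lt_or_ge r 2 with h1 | h2
    · obtain rfl : r = 1 := by omega
      obtain ⟨N, hN, hdN⟩ := RankTwo.exists_deg k hdim d
      have hNr := CurveLib.isFinLocFreeOfRank_one hN
      refine ⟨N, hNr, (dg_eq k hNr).trans hdN, fun G i _ _ hpos hlt => ?_⟩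
      omega
    obtain ⟨u, v, huv⟩ := hcop
    let q := u / (r : ℤ)
    let m := u % (r : ℤ)
    have hrne : (r : ℤ) ≠ 0 := by omega
    have hm0 : 0 ≤ m := Int.emod_nonneg u hrne
    have hmr : m < r := Int.emod_lt_of_pos u (by omega)
    have hu : u = (r : ℤ) * q + m := (Int.mul_ediv_add_emod u r).symm
    have key : d * m - (-v - d * q) * r = 1 := by rw [hu] at huv; linarith
    have hmne : m ≠ 0 := fun h0 => by
      rw [h0] at key
      have hdvd : (r : ℤ) ∣ 1 := ⟨v + d * q, by linarith⟩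
      have := Int.le_of_dvd one_pos hdvd
      omega
    obtain ⟨r₁, hr₁⟩ : ∃ r₁ : ℕ, (r₁ : ℤ) = m := ⟨m.toNat, Int.toNat_of_nonneg hm0⟩
    obtain ⟨r₂, hr₂⟩ : ∃ r₂ : ℕ, r₁ + r₂ = r := ⟨r - r₁, by omega⟩
    set d₁ := -v - d * q with hd₁
    rw [← hr₁] at key
    have hr2' : (r₁ : ℤ) + r₂ = r := by exact_mod_cast hr₂
    have hc₁ : IsCoprime d₁ (r₁ : ℤ) := ⟨-(r : ℤ), d, by linarith⟩
    have key2 : (d - d₁) * r₁ - d₁ * r₂ = 1 := by rw [← hr2'] at key; linarith
    have hc₂ : IsCoprime (d - d₁) (r₂ : ℤ) := ⟨(r₁ : ℤ), -d₁, by linarith⟩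
    obtain ⟨A, hA, hdA, hAst⟩ := ih r₁ (by omega) (by omega) d₁ hc₁
    obtain ⟨B, hB, hdB, hBst⟩ := ih r₂ (by omega) (by omega) (d - d₁) hc₂
    have hW := rank_tensor hA (rank_dd hB)
    have hns : ¬ Subsingleton (Coh.HH X (tmod A (dd B)) 1) := fun h => by
      haveI := h
      have h' := deg_genus_one k hdim hg (tmod A (dd B)) (r₁ * r₂)
      rw [Module.finrank_zero_of_subsingleton (M := Coh.HH X (tmod A (dd B)) 1), deg_tensor k hdim hA (rank_dd hB),
        deg_dd k hdim hB, ← dg_eq k hA, ← dg_eq k hB, hdA, hdB] at h'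
      push_cast at h'
      have := Int.natCast_nonneg (Module.finrank k (Coh.HH X (tmod A (dd B)) 0))
      linarith
    obtain ⟨E, f, g, w, hS, hEr, hsp⟩ := exists_nonsplit k hdim hA hB hns
    have hst := stableAt_ext k hdim.le hS hA hB hEr (by omega) (by omega) hAst hBst
      (by show dg k B * _ - dg k A * _ = 1; rw [hdA, hdB]; exact key2) hsp
    have hdE := dg_add k hS (isCoh_of_rank hA) (isCoh_of_rank hEr) (isCoh_of_rank hB)
    change dg k E = dg k A + dg k B at hdE
    rw [hdA, hdB] at hdE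
    rw [hr₂] at hEr hst
    exact ⟨E, hEr, by omega, hst⟩

include hdim hg in
/-- Semistable bundles exist for every rank and degree. -/
theorem exists_semistable {r : ℕ} (hr : 0 < r) (d : ℤ) :
    ∃ E : X.Modules, FlatMod.IsFinLocFreeOfRank r E ∧ dg k E = d ∧ SlopeLE k E d r := by
  let g₀ := Int.gcd d r
  have hg₀ : 0 < g₀ := Int.gcd_pos_of_ne_zero_right _ (by omega)
  obtain ⟨d', hd'⟩ : (g₀ : ℤ) ∣ d := Int.gcd_dvd_left _ _
  obtain ⟨r', hr'⟩ : g₀ ∣ r := Int.natCast_dvd_natCast.1 (Int.gcd_dvd_right _ _)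
  have hr'0 : 0 < r' := Nat.pos_of_ne_zero fun h => by rw [h, mul_zero] at hr'; omega
  have hcop : IsCoprime d' (r' : ℤ) := by
    rw [Int.isCoprime_iff_gcd_eq_one]
    have h : g₀ = g₀ * Int.gcd d' r' := by
      conv_lhs => rw [show g₀ = Int.gcd d r from rfl, hd', hr', Nat.cast_mul, Int.gcd_mul_left]
      simp
    exact Nat.eq_of_mul_eq_mul_left hg₀ (h.symm.trans (mul_one _).symm)
  obtain ⟨S, hS, hdS, hSst⟩ := exists_stable k hdim hg r' hr'0 d' hcop
  have hSss : SlopeLE k S d' r' := hdS ▸ slopeLE_of_stableAt k hdim.le hS hSst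
  suffices ∀ m : ℕ, 0 < m → ∃ E : X.Modules, FlatMod.IsFinLocFreeOfRank (m * r') E ∧ dg k E = m * d' ∧
      SlopeLE k E d' r' by
    obtain ⟨E, hE, hdE, hss⟩ := this g₀ hg₀
    rw [← hr'] at hE
    refine ⟨E, hE, by rw [hdE, hd'], fun G i hi hG hpos => ?_⟩
    have h := mul_le_mul_of_nonneg_left (hss G i hi hG hpos) (Int.natCast_nonneg g₀)
    rw [hd', hr']
    push_cast
    linarith
  intro m hm
  induction m, hm using Nat.le_induction with
  | base => exact ⟨S, by simpa using hS, by simp [hdS], hSss⟩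
  | succ m _ ih =>
    obtain ⟨E, hE, hdE, hss⟩ := ih
    have hT : (ShortComplex.mk (biprod.inl : E ⟶ E ⊞ S) biprod.snd (by simp)).ShortExact :=
      (ShortComplex.Splitting.ofHasBinaryBiproduct E S).shortExact
    have hc : Coh.IsCoh (E ⊞ S) := DevLib.isCoh_biprod (isCoh_of_rank hE) (isCoh_of_rank hS)
    have hr2 : FlatMod.IsFinLocFreeOfRank (m * r' + r') (E ⊞ S) := rank_mid hT hE hS hc
    refine ⟨E ⊞ S, by rw [Nat.succ_mul]; exact hr2, ?_, slopeLE_biprod k hE hS hss hSss⟩
    have h := dg_add k hT (isCoh_of_rank hE) hc (isCoh_of_rank hS)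
    change dg k (E ⊞ S) = dg k E + dg k S at h
    rw [h, hdE, hdS]
    push_cast
    ring

include hdim hg in
/-- Indecomposable bundles on a curve of genus one are semistable. -/
theorem slopeLE_of_indecomposable {r : ℕ} (hr : 0 < r) {E : X.Modules} (hE : FlatMod.IsFinLocFreeOfRank r E)
    (hind : ∀ (E₁ E₂ : X.Modules), Nonempty (E ≅ E₁ ⊞ E₂) → IsZero E₁ ∨ IsZero E₂) :
    SlopeLE k E (dg k E) r := by
  by_contra hns
  have hEc := isCoh_of_rank hE
  obtain ⟨G, i, hi, hG, hGpos, hmax⟩ := exists_maxSlope k hdim.le hEc (by rw [grk_of_rank hE]; exact hr)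
  haveI := hi
  have hbig : dg k E * grk G < dg k G * r := by
    by_contra hle
    push Not at hle
    refine hns fun H j hj hH hpos => ?_
    have h := (hmax H j hj hH hpos).1
    have h0 : (0 : ℤ) < grk G := by exact_mod_cast hGpos
    refine le_of_mul_le_mul_right ?_ h0
    have q1 := mul_le_mul_of_nonneg_left h (Int.natCast_nonneg r)
    have q2 := mul_le_mul_of_nonneg_left hle (Int.natCast_nonneg (grk H))
    linarith
  obtain ⟨hCc, hCr, hCd⟩ := coker_add k i hG hEc
  obtain ⟨Q, q, hq, hQc, hQf, hQr, hQd⟩ := exists_freeQuot k hdim.le hCc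
  haveI := hq
  let π : E ⟶ Q := cokernel.π i ≫ q
  haveI : Epi π := epi_comp _ _
  obtain ⟨hKc, hKr, hKd⟩ := kernel_add k π hEc hQc
  rw [grk_of_rank hE] at hCr hKr
  have hQpos : 0 < grk Q := by
    by_contra h0
    have hd1 := (dg_le_of_mono k hdim.le i hG hEc (by rw [grk_of_rank hE]; omega)).1
    rw [show grk G = r by omega] at hbig
    nlinarith
  have hKG : grk (kernel π) = grk G := by omega
  have hKf := rank_of_mono (kernel.ι π) hKc hE
  have hK := hmax (kernel π) (kernel.ι π) inferInstance hKc (by omega)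
  have hKdg : dg k (kernel π) = dg k G := by
    have h := hK.1
    rw [hKG] at h
    have h0 : (0 : ℤ) < grk G := by exact_mod_cast hGpos
    have := le_of_mul_le_mul_right h h0
    omega
  -- subsheaves of the quotient have smaller slope
  have hQs : ∀ (H : X.Modules) (j : H ⟶ Q), Mono j → Coh.IsCoh H → 0 < grk H →
      dg k H * grk G < dg k G * grk H := by
    intro H j hj hH hpos
    haveI := hj
    obtain ⟨hDc, hDr, hDd⟩ := coker_add k j hH hQc
    haveI : Epi (π ≫ cokernel.π j) := epi_comp _ _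
    obtain ⟨hPc, hPr, hPd⟩ := kernel_add k (π ≫ cokernel.π j) hEc hDc
    rw [grk_of_rank hE] at hPr
    have h := hmax (kernel (π ≫ cokernel.π j)) (kernel.ι _) inferInstance hPc (by omega)
    have e1 : dg k (kernel (π ≫ cokernel.π j)) = dg k G + dg k H := by omega
    have e2 : grk (kernel (π ≫ cokernel.π j)) = grk G + grk H := by omega
    rw [e1, e2] at h
    push_cast at h
    refine lt_of_le_of_ne (by linarith [h.1]) fun he => ?_
    have := h.2 (by linarith)
    omega
  have hsub : Subsingleton (Coh.HH X (tmod (kernel π) (dd Q)) 1) := by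
    by_contra hne
    obtain ⟨φ, hφ⟩ := Dual.exists_hom_ne_zero k hdim (rank_tensor hKf (rank_dd hQf)) hne
    have hΩ := CurveFF.omega_invertible k (X := X) hdim
    haveI := Dual.nontrivial_H1_om k hdim
    obtain ⟨η⟩ := nonempty_iso_structure k hdim hg hΩ (by rw [CurveFF.omega_deg k hdim, hg]; norm_num)
      (not_subsingleton _)
    obtain ⟨ψ, hψ⟩ := exists_map_of_dual_map hQf (φ := φ ≫ η.hom)
      (fun h0 => hφ (by rwa [← cancel_mono η.hom, zero_comp]))
    have hKss : SlopeLE k (kernel π) (dg k (kernel π)) (grk (kernel π)) := by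
      intro H j hj hH hpos
      haveI := hj
      have h := (hmax H (j ≫ kernel.ι π) (mono_comp _ _) hH hpos).1
      rwa [hKdg, hKG]
    obtain ⟨I, p, b, hb, -, -, hI, hI0, hle, -⟩ := exists_image_slope k hKf hQf hψ hKss
    have h := hQs I b hb hI hI0
    rw [hKdg, hKG] at hle
    linarith
  let S : ShortComplex X.Modules := ShortComplex.mk (kernel.ι π) π (kernel.condition π)
  have hS : S.ShortExact :=
    ShortComplex.ShortExact.mk' (ShortComplex.exact_of_f_is_kernel _ (kernelIsKernel π)) inferInstance inferInstance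
  haveI := isSplitEpi_of_subsingleton k hS hKf hQf hsub
  haveI : Mono S.f := hS.mono_f
  let sp : S.Splitting := ShortComplex.Splitting.ofExactOfSection S hS.exact (section_ S.g) (IsSplitEpi.id S.g) inferInstance
  rcases hind _ _ ⟨sp.isoBinaryBiproduct⟩ with hz | hz
  · exact nonzero_of_rank k (show 0 < grk (kernel π) by omega) hKf hz
  · exact nonzero_of_rank k hQpos hQf hz

omit [IsAlgClosed k] in
include k in
/-- Twisting preserves stability. -/
theorem stableAt_twist (hdim : topologicalKrullDim X ≤ 1) {r : ℕ} {E M : X.Modules}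
    (hE : FlatMod.IsFinLocFreeOfRank r E) (hM : PicF.IsInvertible M) (hd : Curv2.deg k X M 1 = 0)
    (hst : StableAt k E (dg k E) r) :
    dg k (CohB1.tensorMod E M) = dg k E ∧ StableAt k (CohB1.tensorMod E M) (dg k (CohB1.tensorMod E M)) r := by
  have hW := isFinLocFreeOfRank_twist hE hM
  have h := CurveLib.deg_tensor_invertible (k := k) hdim hE hM
  change Curv2.deg k X (CohB1.tensorMod E M) r = _ at h
  rw [hd, mul_zero, add_zero] at h
  have hdd : dg k (CohB1.tensorMod E M) = dg k E := by rw [dg_eq k hW, h, dg_eq k hE]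
  refine ⟨hdd, fun G i hi hG hpos hlt => ?_⟩
  haveI := hi
  have hGr := rank_of_mono i hG hW
  obtain ⟨G', j, hj, hG', hdG⟩ := Dual.exists_untwist_deg k hdim hE hM i hGr
  have := hst G' j hj (isCoh_of_rank hG') (by rw [grk_of_rank hG']; exact hpos) (by rw [grk_of_rank hG']; exact hlt)
  rw [grk_of_rank hG', dg_eq k hG'] at this
  rw [hdd, dg_eq k hGr, hdG, hd, mul_zero, add_zero]
  exact this

open H0SS in
include hdim hg in
/-- A bundle of degree `n` and rank `n` with no sections after a twist down by a point has at most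
`n` sections. -/
theorem finrank_H0_le_of_twist {n : ℕ} {W : X.Modules} (hW : FlatMod.IsFinLocFreeOfRank n W)
    (hdW : Curv2.deg k X W n = n) {P : X.Modules} (ι : P ⟶ Coh.structureModule X) [Mono ι]
    (hP : PicF.IsInvertible P) (hdP : Curv2.deg k X P 1 = -1)
    [Subsingleton (Coh.HH X (CohB1.tensorMod W P) 0)] :
    Module.finrank k (Coh.HH X W 0) ≤ n := by
  have hWc := isCoh_of_rank hW
  haveI := EulerIneqLib.finite_HH (k := k) hWc 0
  let T : ShortComplex X.Modules := (cokerSeq ι).map (tensL W)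
  have hT : T.ShortExact := shortExact_tensL (cokerSeq_shortExact ι) hW
  haveI := hT.mono_f
  haveI := hT.epi_g
  have eU : T.X₂ ≅ W := (unitR (X := X)).app W
  have hT1 : Coh.IsCoh T.X₁ := isCoh_of_rank (isFinLocFreeOfRank_twist hW hP)
  have hT2 : Coh.IsCoh T.X₂ := ShStabLib.isCoh_of_iso eU.symm hWc
  have hT3 : Coh.IsCoh T.X₃ :=
    ShStabLib.isCoh_of_iso (IsColimit.coconePointUniqueUpToIso (cokernelIsCokernel T.f) hT.gIsCokernel)
      (isCoh_kernel_cokernel T.f hT1 hT2).2
  have hga := grk_add hT hT1 hT3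
  have hda := dg_add k hT hT1 hT2 hT3
  have e1r : grk T.X₁ = n := grk_of_rank (isFinLocFreeOfRank_twist hW hP)
  have e2r : grk T.X₂ = n := (grk_iso eU).trans (grk_of_rank hW)
  have e1d : dg k T.X₁ = (0 : ℤ) := by
    refine (dg_eq k (isFinLocFreeOfRank_twist hW hP)).trans ?_
    refine (CurveLib.deg_tensor_invertible (k := k) hdim.le hW hP).trans ?_
    rw [hdW, hdP]; ring
  have e2d : dg k T.X₂ = (n : ℤ) := (dg_iso k eU).trans ((dg_eq k hW).trans hdW)
  have hmid := finrank_H0_mid_le k hT hT1 hT2 hT3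
  haveI : Subsingleton (Coh.HH X T.X₁ 0) := ‹Subsingleton (Coh.HH X (CohB1.tensorMod W P) 0)›
  rw [Module.finrank_zero_of_subsingleton (M := Coh.HH X T.X₁ 0)] at hmid
  have h3 := (dg_eq_finrank k hdim.le hT3 (by omega)).1
  have e := (LinearEquiv.ofBijective _ (CurveLib.hMap_bijective_iso (k := k) eU 0)).finrank_eq
  omega

open H0SS in
include k in
/-- The evaluation map of a globally generated bundle is an epimorphism. -/
theorem exists_epi_freeMod {W : X.Modules} (hgg : Curv2.IsGloballyGenerated W)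
    [Module.Finite k (Coh.HH X W 0)] :
    ∃ Φ : FlatMod.freeMod X (Module.finrank k (Coh.HH X W 0)) ⟶ W, Epi Φ := by
  classical
  let bas := Module.finBasis k (Coh.HH X W 0)
  let O := Coh.structureModule X
  let Φ : FlatMod.freeMod X (Module.finrank k (Coh.HH X W 0)) ⟶ W := Sigma.desc fun i => sH (bas i)
  have hfac : ∀ w : Coh.HH X W 0, ∃ l : O ⟶ FlatMod.freeMod X (Module.finrank k (Coh.HH X W 0)), l ≫ Φ = sH w := by
    intro w
    have hw : w ∈ Submodule.span k (Set.range bas) := by rw [bas.span_eq]; trivial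
    induction hw using Submodule.span_induction with
    | mem v hv =>
      obtain ⟨i, rfl⟩ := hv
      exact ⟨Sigma.ι (fun _ : Fin _ => Coh.structureModule X) i, Sigma.ι_desc _ _⟩
    | zero => exact ⟨0, by rw [zero_comp, sH_zero]⟩
    | add a b _ _ ha hb =>
      obtain ⟨la, hla⟩ := ha
      obtain ⟨lb, hlb⟩ := hb
      exact ⟨la + lb, by rw [Preadditive.add_comp, hla, hlb, sH_add]⟩
    | smul c a _ ha =>
      obtain ⟨la, hla⟩ := ha
      refine ⟨(cst k O c : O ⟶ O) ≫ la, ?_⟩
      rw [Category.assoc, hla, cst_natural]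
      exact (Secant.secHom_smul k W c a).symm
  refine ⟨Φ, ?_⟩
  obtain ⟨J, p, hp⟩ := hgg
  haveI := hp
  refine ⟨fun {Z} u v huv => ?_⟩
  rw [← cancel_epi p]
  refine Sigma.hom_ext _ _ fun j => ?_
  obtain ⟨l, hl⟩ := hfac ((CurveLib.secOf W).symm (AmpleLib.sec (Sigma.ι (fun _ : J => O) j ≫ p)))
  rw [sH, AddEquiv.apply_symm_apply, AmpleLib.secHom_sec] at hl
  rw [← Category.assoc, ← Category.assoc]
  refine (congrArg (· ≫ u) hl).symm.trans (Eq.trans ?_ (congrArg (· ≫ v) hl))
  rw [Category.assoc, Category.assoc, huv]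

open H0SS in
include hdim hg in
/-- Some twist of degree zero of a bundle of degree zero has a section. -/
theorem exists_twist_section {n : ℕ} (hn : 0 < n) {G : X.Modules} (hG : FlatMod.IsFinLocFreeOfRank n G)
    (hd : Curv2.deg k X G n = 0) :
    ∃ M : X.Modules, PicF.IsInvertible M ∧ Curv2.deg k X M 1 = 0 ∧
      Nontrivial (Coh.HH X (CohB1.tensorMod G M) 0) := by
  classical
  by_contra hall
  push Not at hall
  obtain ⟨P', hP', hdP'⟩ := RankTwo.exists_deg k hdim 1
  let W := CohB1.tensorMod G P'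
  have hW := isFinLocFreeOfRank_twist hG hP'
  have hWc := isCoh_of_rank hW
  have hdW : Curv2.deg k X W n = n := by
    have h := CurveLib.deg_tensor_invertible (k := k) hdim.le hG hP'
    rw [hdP', hd] at h
    exact h.trans (by ring)
  have hzero : ∀ P : X.Modules, PicF.IsInvertible P → Curv2.deg k X P 1 = -1 →
      Subsingleton (Coh.HH X (CohB1.tensorMod W P) 0) ∧ Subsingleton (Coh.HH X (CohB1.tensorMod W P) 1) := by
    intro P hP hdP
    let M := CohB1.tensorMod P' P
    have hM : PicF.IsInvertible M := AmpleLib.isInvertible_tensor hP' hP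
    have hdM : Curv2.deg k X M 1 = 0 := by
      rw [CurveLib.deg_tensor_add (k := k) hdim.le hP' hP, hdP', hdP]; norm_num
    have h0 := hall M hM hdM
    haveI h0' : Subsingleton (Coh.HH X (CohB1.tensorMod W P) 0) :=
      @Function.Injective.subsingleton _ _ _
        (CurveLib.hMap_bijective_iso (k := k) ((ModTensor.tensorAssoc X.sheaf P' P).app G) 0).1 h0
    refine ⟨h0', ?_⟩
    have h := deg_genus_one k hdim hg (tmod (CohB1.tensorMod G P') P) n
    have hdWP := CurveLib.deg_tensor_invertible (k := k) hdim.le hW hP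
    have hdW' : Curv2.deg k X (CohB1.tensorMod G P') n = n := hdW
    haveI : Subsingleton (Coh.HH X (tmod (CohB1.tensorMod G P') P) 0) := h0'
    rw [hdWP, hdW', hdP, Module.finrank_zero_of_subsingleton (M := Coh.HH X (tmod (CohB1.tensorMod G P') P) 0)] at h
    haveI : Module.Finite k (Coh.HH X (tmod (CohB1.tensorMod G P') P) 1) :=
      EulerIneqLib.finite_HH (k := k) (isCoh_of_rank (isFinLocFreeOfRank_twist hW hP)) 1
    have h1 : Module.finrank k (Coh.HH X (tmod (CohB1.tensorMod G P') P) 1) = 0 := by omega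
    have h2 : Subsingleton (Coh.HH X (tmod (CohB1.tensorMod G P') P) 1) := (Module.finrank_zero_iff (R := k)).1 h1
    exact h2
  have hgg : Curv2.IsGloballyGenerated W :=
    Dual.isGloballyGenerated_of_H1 k hdim hW fun P hP hdP => (hzero P hP hdP).2
  obtain ⟨P, ι, hι, hP, hdP⟩ := exists_point_sub k (X := X) hdim
  haveI := hι
  haveI := EulerIneqLib.finite_HH (k := k) hWc 0
  haveI := (hzero P hP hdP).1
  have hle : Module.finrank k (Coh.HH X W 0) ≤ n := finrank_H0_le_of_twist k hdim hg hW hdW ι hP hdP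
  obtain ⟨Φ, hΦ⟩ := exists_epi_freeMod k hgg
  haveI := hΦ
  have hfree : FlatMod.IsFinLocFreeOfRank (Module.finrank k (Coh.HH X W 0))
      (FlatMod.freeMod X (Module.finrank k (Coh.HH X W 0))) := fun _ => ⟨⊤, trivial, ⟨DCohLib.restrictFreeMod _ _⟩⟩
  obtain ⟨hKc, hKr, hKd⟩ := kernel_add k Φ (isCoh_of_rank hfree) hWc
  rw [grk_of_rank hfree, grk_of_rank hW] at hKr
  have hz := (dg_isZero k (isZero_of_mono (kernel.ι Φ) hKc hfree (by omega))).2
  rw [hz, dg_eq k hfree, dg_eq k hW, hdW, Curv2.deg, DegDevLib.euler_freeMod] at hKd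
  omega

include hdim hg in
/-- Stable bundles have coprime rank and degree. -/
theorem gcd_eq_one_of_stable {r : ℕ} (hr : 0 < r) {F : X.Modules} (hF : FlatMod.IsFinLocFreeOfRank r F)
    (hst : StableAt k F (dg k F) r) : Int.gcd (dg k F) r = 1 := by
  let g₀ := Int.gcd (dg k F) r
  have hg₀ : 0 < g₀ := Int.gcd_pos_of_ne_zero_right _ (by omega)
  obtain ⟨d', hd'⟩ : (g₀ : ℤ) ∣ dg k F := Int.gcd_dvd_left _ _
  obtain ⟨r', hr'⟩ : g₀ ∣ r := Int.natCast_dvd_natCast.1 (Int.gcd_dvd_right _ _)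
  have hr'0 : 0 < r' := Nat.pos_of_ne_zero fun h => by rw [h, mul_zero] at hr'; omega
  have hcop : IsCoprime d' (r' : ℤ) := by
    rw [Int.isCoprime_iff_gcd_eq_one]
    have h : g₀ = g₀ * Int.gcd d' r' := by
      conv_lhs => rw [show g₀ = Int.gcd (dg k F) r from rfl, hd', hr', Nat.cast_mul, Int.gcd_mul_left]
      simp
    exact Nat.eq_of_mul_eq_mul_left hg₀ (h.symm.trans (mul_one _).symm)
  obtain ⟨S, hS, hdS, hSst⟩ := exists_stable k hdim hg r' hr'0 d' hcop
  have hG := rank_tensor hF (rank_dd hS)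
  have hdG : Curv2.deg k X (tmod F (dd S)) (r * r') = 0 := by
    rw [deg_tensor k hdim hF (rank_dd hS), deg_dd k hdim hS, ← dg_eq k hS, ← dg_eq k hF, hdS, hd', hr']
    push_cast
    ring
  obtain ⟨M, hM, hdM, hnt⟩ := exists_twist_section k hdim hg (Nat.mul_pos hr hr'0) hG hdG
  haveI := hnt
  let F' := CohB1.tensorMod F M
  let e : CohB1.tensorMod (tmod F (dd S)) M ≅ tmod F' (dd S) :=
    (ModTensor.tensorAssoc X.sheaf (dd S) M).app F ≪≫ AmpleLib.tIso (Iso.refl F) (CurveLib.tmodComm (dd S) M) ≪≫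
      ((ModTensor.tensorAssoc X.sheaf M (dd S)).app F).symm
  obtain ⟨s, hs⟩ := CurveLib.exists_hom_ne_zero (CohB1.tensorMod (tmod F (dd S)) M)
  have hf : toHom S (s ≫ e.hom) ≠ 0 := fun h0 => hs (by
    have := (toHom_bijective hS F').1 (h0.trans (toHom_zero S F').symm)
    rwa [← cancel_mono e.hom, zero_comp])
  obtain ⟨hdF', hF'st⟩ := stableAt_twist k hdim.le hF hM hdM hst
  have hF' := isFinLocFreeOfRank_twist hF hM
  haveI := isIso_of_stable k hdim.le hr'0 hS hF' hSst hF'st (slopeLE_of_stableAt k hdim.le hF' hF'st)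
    (by rw [hdS, hdF', hd', hr']; push_cast; ring) hf
  have h := grk_iso (asIso (toHom S (s ≫ e.hom)))
  rw [grk_of_rank hS, grk_of_rank hF'] at h
  show g₀ = 1
  exact Nat.eq_of_mul_eq_mul_right hr'0 (by rw [one_mul, ← hr']; exact h.symm)

end Groth.Agent.VBLib.Atiyah
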