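import Groth.Agent.VBLib.Ext
import Groth.Agent.AmpleEmb.Inverse
import Groth.Agent.HilbLib.Basic
import Groth.Agent.ShStabLib.Noeth
import Groth.Agent.DCohLib.Assoc

/-!
Twisting by an invertible module is an equivalence.
-/

set_option autoImplicit false
set_option backward.isDefEq.respectTransparency false
set_option linter.style.haveILetI false

universe u

open CategoryTheory CategoryTheory.Limits AlgebraicGeometry
open Groth.Agent.CurveLib Groth.Agent.DCohLib

noncomputable section

namespace Groth.Agent.VBLib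

variable {X : Scheme.{u}}

/-- `(M ⊗ A) ⊗ B ≅ M` naturally, for `A ⊗ B ≅ O`. -/
def untwist {A B : X.Modules} (e : CohB1.tensorMod A B ≅ Coh.structureModule X) :
    tensR A ⋙ tensR B ≅ 𝟭 X.Modules :=
  (ModTensor.tensorAssoc X.sheaf A B : tensR A ⋙ tensR B ≅ tensR (CohB1.tensorMod A B)) ≪≫
    (DCoh.tensorBi (X := X)).flip.mapIso e ≪≫ ModTensor.tensorUnitRight X.sheaf

theorem isEquivalence_tensR {A B : X.Modules} (e : CohB1.tensorMod A B ≅ Coh.structureModule X) :
    (tensR A).IsEquivalence :=
  (CategoryTheory.Equivalence.mk (tensR A) (tensR B) (untwist e).symm (untwist (AmpleLib.comm B A ≪≫ e))).isEquivalence_functor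

/-- A submodule of `E ⊗ L` is the twist of a submodule of `E`. -/
theorem exists_untwist [IsLocallyNoetherian X] {L E I : X.Modules} (hL : PicF.IsInvertible L)
    (i : I ⟶ CohB1.tensorMod E L) [Mono i] (hI : Coh.IsCoh I) :
    ∃ (G : X.Modules) (j : G ⟶ E) (e : CohB1.tensorMod G L ≅ I), Mono j ∧ Coh.IsCoh G ∧
      (tensR L).map j = e.hom ≫ i := by
  obtain ⟨N, hN, ⟨η⟩⟩ := AmpleEmb.exists_isInverseOf hL
  haveI := isEquivalence_tensR η
  let G := (tensR L).objPreimage I
  let e : CohB1.tensorMod G L ≅ I := (tensR L).objObjPreimageIso I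
  let j : G ⟶ E := (tensR L).preimage (e.hom ≫ i)
  have hj : (tensR L).map j = e.hom ≫ i := (tensR L).map_preimage _
  haveI : Mono ((tensR L).map j) := hj ▸ mono_comp _ _
  refine ⟨G, j, e, (tensR L).mono_of_mono_map inferInstance, ?_, hj⟩
  have e' : CohB1.tensorMod I N ≅ G := AmpleLib.tIso e.symm (Iso.refl N) ≪≫ (untwist η).app G
  exact ShStabLib.isCoh_of_iso e' (CurveLib.isCoh_tmod hI (CurveLib.isCoh_of_isInvertible hN))

theorem grk_twist [IsIntegral X] {L : X.Modules} (hL : PicF.IsInvertible L) (M : X.Modules) :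
    grk (CohB1.tensorMod M L) = grk M := by
  obtain ⟨e⟩ := HilbLib.nonempty_stalk_equiv hL M (genericPoint X)
  exact e.finrank_eq

end Groth.Agent.VBLib
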