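import Groth.Agent.VBLib.HomPair
import Groth.Agent.VBLib.Twist
import Groth.Agent.DualInvLib.Basic
import Groth.Agent.RefOne.Stalk

/-!
# Duals of sums and of tensor products
-/

set_option autoImplicit false
set_option backward.isDefEq.respectTransparency false
set_option linter.style.haveILetI false
set_option maxHeartbeats 1000000

universe u

open CategoryTheory CategoryTheory.Limits AlgebraicGeometry TopologicalSpace
open Groth.Agent.PullbackMod Groth.Agent.DevLib Groth.Agent.QCohLib Groth.Agent.DCohLib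
open Groth.Agent.VBLib.DualDeg Groth.Agent.VBLib.HomPair

noncomputable section

namespace Groth.Agent.VBLib.DualOps

variable {X : Scheme.{u}}

local instance hasHF (M : X.Modules) : ModSite.HasSheafHom (O := X.sheaf) M :=
  ModTensor.hasSheafHom (O := X.sheaf) M

theorem tr_symm {A B : X.Modules} (f : A ⟶ B) :
    ((ModSite.sheafHomAdj (O := X.sheaf) A).homEquiv (dd B) (Coh.structureModule X)).symm (tr f) =
      ((DCoh.tensorBi (X := X)).obj (dd B)).map f ≫ StalkHomLib.ev B (Coh.structureModule X) :=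
  Equiv.symm_apply_apply _ _

theorem tr_id (A : X.Modules) : tr (𝟙 A) = 𝟙 (dd A) := by
  refine ((ModSite.sheafHomAdj (O := X.sheaf) A).homEquiv (dd A) (Coh.structureModule X)).symm.injective ?_
  rw [tr_symm, CategoryTheory.Functor.map_id, Category.id_comp, Adjunction.homEquiv_counit,
    CategoryTheory.Functor.map_id, Category.id_comp]
  rfl

theorem tr_comp {A B C : X.Modules} (f : A ⟶ B) (g : B ⟶ C) : tr (f ≫ g) = tr g ≫ tr f := by
  refine ((ModSite.sheafHomAdj (O := X.sheaf) A).homEquiv (dd C) (Coh.structureModule X)).symm.injective ?_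
  rw [tr_symm, Adjunction.homEquiv_naturality_left_symm, tr_symm, CategoryTheory.Functor.map_comp, Category.assoc]
  have h1 : ((DCoh.tensorBi (X := X)).obj (dd C)).map g ≫ StalkHomLib.ev C (Coh.structureModule X) =
      ((DCoh.tensorBi (X := X)).map (tr g)).app B ≫ StalkHomLib.ev B (Coh.structureModule X) := by
    refine (tr_symm g).symm.trans ?_
    rw [Adjunction.homEquiv_counit]
    rfl
  rw [h1, ← Category.assoc, ((DCoh.tensorBi (X := X)).map (tr g)).naturality f, Category.assoc]
  rfl

theorem tr_add {A B : X.Modules} (f g : A ⟶ B) : tr (f + g) = tr f + tr g := by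
  haveI : ((DCoh.tensorBi (X := X)).flip.obj A).Additive := ModTensor.additive_tensorBi_flip X.sheaf A
  haveI : ((DCoh.tensorBi (X := X)).obj (dd B)).Additive := additive_tensL (dd B)
  refine ((ModSite.sheafHomAdj (O := X.sheaf) A).homEquiv (dd B) (Coh.structureModule X)).symm.injective ?_
  rw [tr_symm, Functor.map_add, Preadditive.add_comp, ← tr_symm f, ← tr_symm g]
  simp only [Adjunction.homEquiv_counit, Functor.map_add, Preadditive.add_comp]

theorem tr_zero (A B : X.Modules) : tr (0 : A ⟶ B) = 0 := by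
  have h := tr_add (0 : A ⟶ B) 0
  rwa [add_zero, left_eq_add] at h

/-- Duals of isomorphic modules. -/
def ddIso {A B : X.Modules} (e : A ≅ B) : dd B ≅ dd A where
  hom := tr e.hom
  inv := tr e.inv
  hom_inv_id := by rw [← tr_comp, e.inv_hom_id, tr_id]
  inv_hom_id := by rw [← tr_comp, e.hom_inv_id, tr_id]

/-- The dual of a finite sum. -/
theorem nonempty_dd_sigma {n : ℕ} (A : Fin n → X.Modules) : Nonempty (dd (∐ A) ≅ ∐ fun i => dd (A i)) := by
  let π : ∀ i, ∐ A ⟶ A i := fun i => Sigma.desc fun l => if h : l = i then eqToHom (congrArg A h) else 0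
  have hδ : ∀ i, Sigma.ι A i ≫ π i = 𝟙 _ := fun i => by
    rw [Sigma.ι_desc, dif_pos rfl, eqToHom_refl]
  have hz : ∀ i j, i ≠ j → Sigma.ι A i ≫ π j = 0 := fun i j hij => by
    rw [Sigma.ι_desc, dif_neg hij]
  have hsum : ∑ i, π i ≫ Sigma.ι A i = 𝟙 (∐ A) := by
    refine Sigma.hom_ext _ _ fun l => ?_
    rw [Category.comp_id, Preadditive.comp_sum, Finset.sum_eq_single l]
    · rw [← Category.assoc, hδ, Category.id_comp]
    · intro b _ hb
      rw [← Category.assoc, hz l b (Ne.symm hb), zero_comp]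
    · simp
  refine ⟨⟨∑ i, tr (Sigma.ι A i) ≫ Sigma.ι (fun i => dd (A i)) i, Sigma.desc fun i => tr (π i), ?_, ?_⟩⟩
  · rw [Preadditive.sum_comp]
    have hs : ∀ (s : Finset (Fin n)), ∑ i ∈ s, (tr (Sigma.ι A i) ≫ Sigma.ι (fun i => dd (A i)) i) ≫
        Sigma.desc (fun i => tr (π i)) = tr (∑ i ∈ s, π i ≫ Sigma.ι A i) := by
      intro s
      induction s using Finset.induction with
      | empty => simp [tr_zero]
      | insert a s ha ih =>
        rw [Finset.sum_insert ha, Finset.sum_insert ha, tr_add, ih, tr_comp, Category.assoc, Sigma.ι_desc]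
    rw [hs, hsum, tr_id]
  · refine Sigma.hom_ext _ _ fun j => ?_
    rw [Sigma.ι_desc_assoc, Category.comp_id, Preadditive.comp_sum, Finset.sum_eq_single j]
    · rw [← Category.assoc, ← tr_comp, hδ, tr_id, Category.id_comp]
    · intro b _ hb
      rw [← Category.assoc, ← tr_comp, hz b j hb, tr_zero, zero_comp]
    · simp

/-- Hom out of a tensor product. -/
def hFTensor (A B : X.Modules) : StalkHomLib.hF B ⋙ StalkHomLib.hF A ≅ StalkHomLib.hF (tmod A B) :=
  Adjunction.rightAdjointUniq
    (((ModSite.sheafHomAdj (O := X.sheaf) A).comp (ModSite.sheafHomAdj (O := X.sheaf) B)).ofNatIsoLeft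
      (ModTensor.tensorAssoc X.sheaf A B : CurveLib.tensR A ⋙ CurveLib.tensR B ≅ CurveLib.tensR (tmod A B)))
    (ModSite.sheafHomAdj (O := X.sheaf) (tmod A B))

/-- The dual of a tensor product. -/
theorem nonempty_dd_tensor {A B : X.Modules} (hA : FlatMod.IsFinLocFree A) :
    Nonempty (dd (tmod A B) ≅ tmod (dd B) (dd A)) := by
  haveI := LocFreeHomLib.isIso_alpha A hA (dd B)
  exact ⟨((hFTensor A B).app (Coh.structureModule X)).symm ≪≫ (asIso (LocFreeHomLib.alpha A (dd B))).symm⟩

/-- The dual of the structure sheaf. -/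
theorem nonempty_dd_structureModule : Nonempty (dd (Coh.structureModule X) ≅ Coh.structureModule X) :=
  ⟨(Adjunction.rightAdjointUniq (ModSite.sheafHomAdj (O := X.sheaf) (Coh.structureModule X))
    (Adjunction.id.ofNatIsoLeft (ModTensor.tensorUnitRight X.sheaf).symm)).app (Coh.structureModule X)⟩

/-- The dual of a tensor power. -/
theorem nonempty_dd_tensorPow [IsLocallyNoetherian X] {r : ℕ} {E : X.Modules}
    (hE : FlatMod.IsFinLocFreeOfRank r E) :
    ∀ n, Nonempty (dd (CohB1.tensorPow E n) ≅ CohB1.tensorPow (dd E) n)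
  | 0 => nonempty_dd_structureModule
  | n + 1 => by
    obtain ⟨a⟩ := nonempty_dd_tensorPow hE n
    have hn : FlatMod.IsFinLocFree (CohB1.tensorPow E n) := by
      have h : ∀ m, ∃ q, FlatMod.IsFinLocFreeOfRank q (CohB1.tensorPow E m) := by
        intro m
        induction m with
        | zero => exact ⟨1, CurveLib.isFinLocFreeOfRank_one ParaFLib.isInvertible_structureModule⟩
        | succ m ih =>
          obtain ⟨q, hq⟩ := ih
          exact ⟨_, rank_tensor hq hE⟩
      obtain ⟨q, hq⟩ := h n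
      exact flf_of_rank hq
    obtain ⟨b⟩ := nonempty_dd_tensor (B := E) hn
    exact ⟨b ≪≫ AmpleLib.comm _ _ ≪≫ AmpleLib.tIso a (Iso.refl (dd E))⟩

/-- The evaluation of the dual, as a map into the sheaf of stalkwise functionals, is an isomorphism. -/
theorem nonempty_dd_iso_dual [IsLocallyNoetherian X] {E : X.Modules} (hE : FlatMod.IsFinLocFree E) :
    Nonempty (dd E ≅ RefHull.dual E) := by
  let θ : tmod E (dd E) ⟶ Coh.structureModule X :=
    (CurveLib.tmodComm E (dd E)).hom ≫ StalkHomLib.ev E (Coh.structureModule X)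
  have hc : Coh.IsCoh E := CurveLib.isCoh_of_isFinLocFree hE
  haveI : IsIso (DualInvLib.toDual θ) := by
    refine (isIso_iff_stalk _).2 fun x => ?_
    have hb := LocFreeHomLib.theta_bijective_flf E hE (Coh.structureModule X) x
    have he := RefOne.evalStalk_bijective hc (DevLib.isCoh_structureModule X).1 x
    have hcomp : ∀ μ, RefHull.evalStalk E (Coh.structureModule X) x (stalkLin (DualInvLib.toDual θ) x μ) =
        StalkHomLib.theta E (Coh.structureModule X) x μ := fun μ => by
      refine (DualInvLib.eval_toDual θ x μ).trans (LinearMap.ext fun l => ?_)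
      rw [DualInvLib.funAt_apply]
      refine (LinearMap.congr_fun (stalkLin_comp _ _ x) _).trans ?_
      exact congrArg (stalkLin (StalkHomLib.ev E (Coh.structureModule X)) x) (tmodComm_stalk E (dd E) x l μ)
    refine ⟨fun a b h => hb.1 ((hcomp a).symm.trans ((congrArg _ h).trans (hcomp b))), fun t => ?_⟩
    obtain ⟨μ, hμ⟩ := hb.2 (RefHull.evalStalk E (Coh.structureModule X) x t)
    exact ⟨μ, he.1 ((hcomp μ).trans hμ)⟩
  exact ⟨asIso (DualInvLib.toDual θ)⟩

/-- The dual of a Weil polynomial in `E`. -/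
theorem nonempty_dd_eval [IsLocallyNoetherian X] {r : ℕ} {E : X.Modules}
    (hE : FlatMod.IsFinLocFreeOfRank r E) {n : ℕ} (c : Fin n → ℕ) :
    Nonempty (dd (∐ fun i : Fin n => ∐ fun _ : Fin (c i) => CohB1.tensorPow E ↑i) ≅
      ∐ fun i : Fin n => ∐ fun _ : Fin (c i) => CohB1.tensorPow (dd E) ↑i) := by
  obtain ⟨a⟩ := nonempty_dd_sigma fun i : Fin n => ∐ fun _ : Fin (c i) => CohB1.tensorPow E ↑i
  exact ⟨a ≪≫ Sigma.mapIso fun i =>
    (nonempty_dd_sigma fun _ : Fin (c i) => CohB1.tensorPow E ↑i).some ≪≫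
      Sigma.mapIso fun _ => (nonempty_dd_tensorPow hE ↑i).some⟩

end Groth.Agent.VBLib.DualOps
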