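import Groth.Agent.VBLib.GenusOne
import Groth.Agent.S12632
import Groth.Agent.S11823
/-!
Indecomposable rank two bundles of even degree in genus one.
-/

set_option autoImplicit false
set_option backward.isDefEq.respectTransparency false
set_option linter.style.haveILetI false

universe u

open CategoryTheory CategoryTheory.Limits AlgebraicGeometry TopologicalSpace
open Groth.Agent.PullbackMod Groth.Agent.DevLib Groth.Agent.QCohLib

noncomputable section

namespace Groth.Agent.VBLib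

theorem isFinLocFreeOfRank_twist {Y : Scheme.{u}} [IsLocallyNoetherian Y] [IsIntegral Y] {n : ℕ} {E N : Y.Modules}
    (hE : FlatMod.IsFinLocFreeOfRank n E) (hN : PicF.IsInvertible N) :
    FlatMod.IsFinLocFreeOfRank n (CohB1.tensorMod E N) := by
  have hc : Coh.IsCoh (CohB1.tensorMod E N) :=
    CurveLib.isCoh_tmod (isCoh_of_rank hE) (CurveLib.isCoh_of_isInvertible hN)
  haveI := hc.1
  rw [isFinLocFreeOfRank_iff_freeAt _ (QCohLib.isFP_of_isCoh _ hc)]
  intro x
  obtain ⟨e₁⟩ := CurveLib.freeAt_of_isFinLocFreeOfRank hE x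
  obtain ⟨e₂⟩ := CurveLib.freeAt_one_of_isInvertible hN x
  let e₃ := e₂.trans (LinearEquiv.funUnique (Fin 1) (Y.presheaf.stalk x) (Y.presheaf.stalk x))
  exact ⟨(DCohLib.stalkTensor x E N).symm.trans ((TensorProduct.congr e₁ e₃).trans (TensorProduct.rid _ _))⟩

variable (k : Type u) [Field k] [IsAlgClosed k] [CharZero k] {X : Scheme.{u}}
  [X.Over (Spec (CommRingCat.of k))] [IsProper (X ↘ Spec (CommRingCat.of k))] [IsIntegral X]
  [Smooth (X ↘ Spec (CommRingCat.of k))]
  (hdim : topologicalKrullDim X = 1) (hg : Curv2.genus k X = 1)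

include hdim hg in
theorem subsingleton_H1_of_pos {N : X.Modules} (hN : PicF.IsInvertible N) (hd : 0 < Curv2.deg k X N 1) :
    Subsingleton (Coh.HH X N 1) := by
  haveI := EulerIneqLib.isNoetherian_proper (X := X) k
  by_contra hne
  have h1 : Module.finrank k (Coh.HH X N 0) ≤ 1 := by
    by_contra h
    exact hne (S11823.result k X hdim N hN (by omega))
  haveI : Module.Finite k (Coh.HH X N 1) :=
    EulerIneqLib.finite_HH (k := k) (CurveLib.isCoh_of_isInvertible hN) 1
  have h2 : Module.finrank k (Coh.HH X N 1) ≠ 0 := fun h => hne ((Module.finrank_zero_iff (R := k)).1 h)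
  have h3 := deg_genus_one k hdim hg N 1
  omega

include hdim hg in
/-- A line subbundle of an indecomposable bundle: the saturation, of no more than half the degree,
with equality only if the quotient is isomorphic to it. -/
theorem exists_saturation {E : X.Modules} (hE : FlatMod.IsFinLocFreeOfRank 2 E)
    (hind : ∀ (E₁ E₂ : X.Modules), Nonempty (E ≅ E₁ ⊞ E₂) → IsZero E₁ ∨ IsZero E₂)
    {F : X.Modules} (i : F ⟶ E) [Mono i] (hF : FlatMod.IsFinLocFreeOfRank 1 F) :
    ∃ S : ShortComplex X.Modules, S.ShortExact ∧ PicF.IsInvertible S.X₁ ∧ PicF.IsInvertible S.X₃ ∧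
      S.X₂ = E ∧ Curv2.deg k X F 1 ≤ Curv2.deg k X S.X₁ 1 ∧
      Curv2.deg k X S.X₁ 1 + Curv2.deg k X S.X₃ 1 = Curv2.deg k X E 2 ∧
      Curv2.deg k X S.X₁ 1 ≤ Curv2.deg k X S.X₃ 1 ∧
      (Curv2.deg k X S.X₁ 1 = Curv2.deg k X S.X₃ 1 → Nonempty (S.X₁ ≅ S.X₃)) := by
  haveI := isRegCurve_of_smooth k (X := X) hdim.le
  haveI := EulerIneqLib.isNoetherian_proper (X := X) k
  have hFc := isCoh_of_rank hF
  have hEc := isCoh_of_rank hE
  obtain ⟨hCc, hCr, hCd⟩ := coker_add k i hFc hEc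
  obtain ⟨Q, q, hq, hQc, hQf, hQr, hQd⟩ := exists_freeQuot k hdim.le hCc
  haveI := hq
  rw [grk_of_rank hF, grk_of_rank hE] at hCr
  rw [show grk Q = 1 by omega] at hQf
  have hQi := isInvertible_of_rank hQf
  let π : E ⟶ Q := cokernel.π i ≫ q
  haveI : Epi π := epi_comp _ _
  obtain ⟨hKc, hKr, hKd⟩ := kernel_add k π hEc hQc
  rw [grk_of_rank hE, grk_of_rank hQf] at hKr
  have hKf := rank_of_mono (kernel.ι π) hKc hE
  rw [show grk (kernel π) = 1 by omega] at hKf
  have hKi := isInvertible_of_rank hKf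
  let T : ShortComplex X.Modules := ShortComplex.mk (kernel.ι π) π (kernel.condition π)
  have hT : T.ShortExact :=
    ShortComplex.ShortExact.mk' (ShortComplex.exact_of_f_is_kernel _ (kernelIsKernel π)) inferInstance inferInstance
  obtain ⟨N, hN, ⟨ηN⟩⟩ := AmpleEmb.exists_isInverseOf hQi
  have hdN := CurveLib.deg_tensor_add (k := k) hdim.le hQi hN
  rw [CurveLib.deg_iso (k := k) ηN 1, CurveLib.deg_structureModule] at hdN
  have hdK := CurveLib.deg_tensor_add (k := k) hdim.le hN hKi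
  rw [dg_eq k hE, dg_eq k hF] at hCd
  rw [dg_eq k hE, dg_eq k hKf, dg_eq k hQf] at hKd
  rw [dg_eq k hQf] at hQd
  have hns : ¬ Subsingleton (Coh.HH X (CohB1.tensorMod N (kernel π)) 1) := by
    intro h1
    haveI := S12632.result k X hdim T hT 1 hKf hQi N ⟨AmpleLib.comm N Q ≪≫ ηN⟩ h1
    haveI : Mono T.f := hT.mono_f
    let sp : T.Splitting := ShortComplex.Splitting.ofExactOfSection T hT.exact (section_ T.g)
      (IsSplitEpi.id T.g) inferInstance
    rcases hind _ _ ⟨sp.isoBinaryBiproduct⟩ with h | h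
    · exact nonzero_of_rank k one_pos hKf h
    · exact nonzero_of_rank k one_pos hQf h
  have hle : Curv2.deg k X (CohB1.tensorMod N (kernel π)) 1 ≤ 0 := by
    by_contra h
    exact hns (subsingleton_H1_of_pos k hdim hg (AmpleLib.isInvertible_tensor hN hKi) (not_le.1 h))
  refine ⟨T, hT, hKi, hQi, rfl, by show _ ≤ Curv2.deg k X (kernel π) 1; omega,
    by show Curv2.deg k X (kernel π) 1 + Curv2.deg k X Q 1 = _; omega,
    by show Curv2.deg k X (kernel π) 1 ≤ Curv2.deg k X Q 1; omega, fun heq => ?_⟩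
  change Curv2.deg k X (kernel π) 1 = Curv2.deg k X Q 1 at heq
  obtain ⟨t⟩ := nonempty_iso_structure k hdim hg (AmpleLib.isInvertible_tensor hN hKi) (by omega) hns
  exact ⟨((CurveLib.tmodUnit (kernel π)).symm ≪≫ AmpleLib.tIso ηN.symm (Iso.refl _) ≪≫
    AmpleLib.assoc Q N (kernel π) ≪≫ AmpleLib.tIso (Iso.refl Q) t ≪≫ DCohLib.tensorStructureIso Q :
      kernel π ≅ Q)⟩

include hdim in
/-- Invertible modules of every degree. -/
theorem exists_deg (n : ℤ) : ∃ N : X.Modules, PicF.IsInvertible N ∧ Curv2.deg k X N 1 = n := by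
  haveI := isRegCurve_of_smooth k (X := X) hdim.le
  haveI := EulerIneqLib.isNoetherian_proper (X := X) k
  obtain ⟨P, i, -, hP, hdP⟩ := exists_point_sub k (X := X) hdim
  obtain ⟨Q, hQ, ⟨η⟩⟩ := AmpleEmb.exists_isInverseOf hP
  have hdQ := CurveLib.deg_tensor_add (k := k) hdim.le hP hQ
  rw [CurveLib.deg_iso (k := k) η 1, CurveLib.deg_structureModule, hdP] at hdQ
  obtain ⟨m, rfl | rfl⟩ := n.eq_nat_or_neg
  · exact ⟨_, AmpleLib.isInvertible_tensorPow hQ m, by
      rw [CurveLib.deg_tensorPow (k := k) hdim.le hQ m, show Curv2.deg k X Q 1 = 1 by omega, mul_one]⟩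
  · exact ⟨_, AmpleLib.isInvertible_tensorPow hP m, by
      rw [CurveLib.deg_tensorPow (k := k) hdim.le hP m, hdP]; ring⟩

include hdim hg in
/-- An indecomposable bundle of rank two and even degree is a self-extension of a line bundle. -/
theorem exists_selfExt {E : X.Modules} (hE : FlatMod.IsFinLocFreeOfRank 2 E)
    (hind : ∀ (E₁ E₂ : X.Modules), Nonempty (E ≅ E₁ ⊞ E₂) → IsZero E₁ ∨ IsZero E₂)
    (heven : Even (Curv2.deg k X E 2)) :
    ∃ (M : X.Modules) (S : ShortComplex X.Modules), PicF.IsInvertible M ∧ S.ShortExact ∧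
      Nonempty (S.X₁ ≅ M) ∧ Nonempty (S.X₃ ≅ M) ∧ Nonempty (S.X₂ ≅ E) := by
  haveI := isRegCurve_of_smooth k (X := X) hdim.le
  haveI := EulerIneqLib.isNoetherian_proper (X := X) k
  have hEc := isCoh_of_rank hE
  obtain ⟨d, hd⟩ := heven
  obtain ⟨N, hN, hdN⟩ := exists_deg k (X := X) hdim (1 - d)
  have hENc : Coh.IsCoh (CohB1.tensorMod E N) := CurveLib.isCoh_tmod hEc (CurveLib.isCoh_of_isInvertible hN)
  have hEN : FlatMod.IsFinLocFreeOfRank 2 (CohB1.tensorMod E N) := isFinLocFreeOfRank_twist hE hN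
  obtain ⟨G, j, hj, hG, hdG⟩ := exists_sub_deg_one k hdim hg hEN (by
    refine (CurveLib.deg_tensor_invertible (k := k) hdim.le hE hN).trans ?_
    rw [hd, hdN]; ring)
  haveI := hj
  obtain ⟨F, i, e, hi, hFc, -⟩ := exists_untwist hN j (CurveLib.isCoh_of_isInvertible hG)
  haveI := hi
  have hFr := rank_of_mono i hFc hE
  rw [show grk F = 1 from (grk_twist hN F).symm.trans ((grk_iso e).trans
    (grk_of_rank (CurveLib.isFinLocFreeOfRank_one hG)))] at hFr
  have hdF : Curv2.deg k X F 1 = d := by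
    have h := (CurveLib.deg_iso (k := k) e 1).symm.trans (CurveLib.deg_tensor_invertible (k := k) hdim.le hFr hN)
    rw [hdG, hdN] at h
    push_cast at h
    omega
  obtain ⟨S, hS, h1, h3, h2, hle, hsum, hle', heq⟩ := exists_saturation k hdim hg hE hind i hFr
  obtain ⟨e'⟩ := heq (by omega)
  exact ⟨S.X₁, S, h1, hS, ⟨Iso.refl _⟩, ⟨e'.symm⟩, ⟨eqToIso h2⟩⟩

end Groth.Agent.VBLib
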