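import Groth.Agent.VBLib.Point
import Groth.Agent.VBLib.Twist
import Groth.Agent.CurveLib.Inv
import Groth.Agent.VBLib.GenusOneTwo

/-!
# Nilpotent twisted endomorphisms of rank two bundles on a curve
-/

set_option autoImplicit false
set_option backward.isDefEq.respectTransparency false
set_option linter.style.haveILetI false
set_option maxHeartbeats 1000000

universe u

open CategoryTheory CategoryTheory.Limits AlgebraicGeometry TopologicalSpace
open Groth.Agent.PullbackMod Groth.Agent.DevLib Groth.Agent.QCohLib Groth.Agent.CurveLib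

noncomputable section

namespace Groth.Agent.VBLib.NilHiggs

variable (k : Type u) [Field k] {X : Scheme.{u}} [X.Over (Spec (CommRingCat.of k))]
  [IsProper (X ↘ Spec (CommRingCat.of k))] [IsIntegral X] [IsNoetherian X] [IsRegCurve X]

include k in
/-- A nonzero map from an invertible module into a bundle is injective. -/
theorem mono_of_line {r : ℕ} {E L : X.Modules} (hE : FlatMod.IsFinLocFreeOfRank r E) (hL : PicF.IsInvertible L)
    {s : L ⟶ E} (hs : s ≠ 0) : Mono s := by
  have hLr := isFinLocFreeOfRank_one hL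
  obtain ⟨I, a, b, hb, ha, hab, hI, hK, h1, -⟩ := exists_image k s (isCoh_of_rank hLr) (isCoh_of_rank hE)
  haveI := hb
  have hI0 : grk I ≠ 0 := fun hz => hs (by
    rw [← hab, (isZero_of_mono b hI hE hz).eq_of_tgt a 0, zero_comp])
  rw [grk_of_rank hLr] at h1
  exact Preadditive.mono_of_kernel_zero ((isZero_of_mono (kernel.ι s) hK hLr (by omega)).eq_of_src _ _)

include k in
/-- Nilpotent twisted endomorphisms of a rank two bundle come from line subbundles. -/
theorem exists_nilpotent_iff {E K : X.Modules} (hE : FlatMod.IsFinLocFreeOfRank 2 E) (hK : PicF.IsInvertible K) :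
    (∃ α : E ⟶ CohB1.tensorMod E K, α ≫ (tensR K).map α = 0 ∧ α ≠ 0) ↔
      ∃ (L : X.Modules) (j : L ⟶ E), PicF.IsInvertible L ∧ Mono j ∧ PicF.IsInvertible (cokernel j) ∧
        ∃ β : cokernel j ⟶ CohB1.tensorMod L K, β ≠ 0 := by
  obtain ⟨N, hN, ⟨η⟩⟩ := AmpleEmb.exists_isInverseOf hK
  haveI := isEquivalence_tensR η
  constructor
  · rintro ⟨α, h2, h0⟩
    have hEK := isFinLocFreeOfRank_twist hE hK
    have hEc := isCoh_of_rank hE
    obtain ⟨I, a, b, hb, ha, hab, hI, hKc, hr, -⟩ := exists_image k α hEc (isCoh_of_rank hEK)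
    haveI := hb
    have hI0 : grk I ≠ 0 := fun hz => h0 (by
      rw [← hab, (isZero_of_mono b hI hEK hz).eq_of_tgt a 0, zero_comp])
    have hker : grk (kernel α) ≠ 0 := fun hz => h0 (by
      haveI : Mono α := Preadditive.mono_of_kernel_zero ((isZero_of_mono (kernel.ι α) hKc hE hz).eq_of_src _ _)
      rw [← cancel_mono ((tensR K).map α)]
      simpa using h2)
    rw [grk_of_rank hE] at hr
    let γ : cokernel (kernel.ι α) ⟶ CohB1.tensorMod E K := Abelian.factorThruCoimage α
    haveI : Mono γ := inferInstanceAs (Mono (Abelian.factorThruCoimage α))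
    have hγ : cokernel.π (kernel.ι α) ≫ γ = α := Abelian.coimage.fac α
    obtain ⟨hCc, hCr, -⟩ := coker_add k (kernel.ι α) hKc hEc
    rw [grk_of_rank hE] at hCr
    have hLf := rank_of_mono (kernel.ι α) hKc hE
    rw [show grk (kernel α) = 1 by omega] at hLf
    have hQf := rank_of_mono γ hCc hEK
    rw [show grk (cokernel (kernel.ι α)) = 1 by omega] at hQf
    have hγ0 : γ ≫ (tensR K).map α = 0 := by
      rw [← cancel_epi (cokernel.π (kernel.ι α)), ← Category.assoc, hγ, comp_zero]
      exact h2
    refine ⟨kernel α, kernel.ι α, isInvertible_of_rank hLf, inferInstance, isInvertible_of_rank hQf,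
      kernel.lift ((tensR K).map α) γ hγ0 ≫ inv (kernelComparison α (tensR K)), fun hz => h0 ?_⟩
    have hl : kernel.lift ((tensR K).map α) γ hγ0 = 0 := by
      rw [← cancel_mono (inv (kernelComparison α (tensR K))), hz, zero_comp]
    have hg : γ = 0 := by rw [← kernel.lift_ι ((tensR K).map α) γ hγ0, hl, zero_comp]
    rw [← hγ, hg, comp_zero]
  · rintro ⟨L, j, -, hj, -, β, hβ⟩
    haveI := hj
    refine ⟨cokernel.π j ≫ β ≫ (tensR K).map j, ?_, fun h => hβ ?_⟩
    · have h1 : (tensR K).map j ≫ (tensR K).map (cokernel.π j) = 0 := by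
        rw [← Functor.map_comp, cokernel.condition, Functor.map_zero]
      simp only [Functor.map_comp, Category.assoc, reassoc_of% h1, zero_comp, comp_zero]
    · rw [← cancel_mono ((tensR K).map j), ← cancel_epi (cokernel.π j), h, zero_comp, comp_zero]

include k in
/-- For a very stable bundle the pairing of maps from and to a line has no zero divisors. -/
theorem comp_ne_zero {E K L : X.Modules} (hE : FlatMod.IsFinLocFreeOfRank 2 E) (hK : PicF.IsInvertible K)
    (hvs : ∀ α : E ⟶ CohB1.tensorMod E K, α ≫ (tensR K).map α = 0 → α = 0)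
    (hL : PicF.IsInvertible L) {s : L ⟶ E} (hs : s ≠ 0) {t : E ⟶ CohB1.tensorMod L K} (ht : t ≠ 0) :
    s ≫ t ≠ 0 := by
  intro h
  obtain ⟨N, hN, ⟨η⟩⟩ := AmpleEmb.exists_isInverseOf hK
  haveI := isEquivalence_tensR η
  haveI := mono_of_line k hE hL hs
  have h1 : (tensR K).map s ≫ (tensR K).map t = 0 := by rw [← Functor.map_comp, h, Functor.map_zero]
  have h2 := hvs (t ≫ (tensR K).map s) (by
    simp only [Functor.map_comp, Category.assoc, reassoc_of% h1, zero_comp, comp_zero])
  exact ht (by rw [← cancel_mono ((tensR K).map s), h2, zero_comp])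

end Groth.Agent.VBLib.NilHiggs
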