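import Groth.Agent.VBLib.CurveDual
import Groth.Agent.VBLib.Twist

/-!
# Secant divisors of maximal degree of the curve embedded by `K ⊗ N`
-/

set_option autoImplicit false
set_option backward.isDefEq.respectTransparency false
set_option linter.style.haveILetI false
set_option maxHeartbeats 1000000

universe u

open CategoryTheory CategoryTheory.Limits AlgebraicGeometry TopologicalSpace
open Groth.Agent.PullbackMod Groth.Agent.DevLib Groth.Agent.QCohLib

noncomputable section

namespace Groth.Agent.VBLib.Secant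

variable (k : Type u) [Field k] {X : Scheme.{u}} [X.Over (Spec (CommRingCat.of k))]
  [IsProper (X ↘ Spec (CommRingCat.of k))]

omit [IsProper (X ↘ Spec (CommRingCat.of k))] in
include k in
/-- Scaling sections. -/
theorem secHom_smul (M : X.Modules) (r : k) (c : Coh.HH X M 0) :
    DCohLib.secHom M (CurveLib.secOf M (r • c)) =
      DCohLib.secHom M (CurveLib.secOf M c) ≫ (cst k M r : M ⟶ M) := by
  rw [← AmpleLib.secHom_sec (DCohLib.secHom M _ ≫ _)]
  refine congrArg _ ?_
  rw [CurveLib.secOf_smul]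
  show _ = (cst k M r : M ⟶ M).app ⊤ (AmpleLib.sec (DCohLib.secHom M (CurveLib.secOf M c)))
  rw [AmpleLib.sec_secHom]
  show _ = (FactorOne.mulEnd M _).app ⊤ _
  rw [FactorOne.mulEnd_app]
  exact congrArg (fun a : Γ(X, ⊤) => a • CurveLib.secOf M c)
    (ConcreteCategory.congr_hom (X.presheaf.map_id _) _).symm

omit [IsProper (X ↘ Spec (CommRingCat.of k))] in
include k in
/-- Sections of a module with at most one independent section are proportional. -/
theorem exists_proportional {M : X.Modules} (h : Module.finrank k (Coh.HH X M 0) = 1)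
    {s t : Coh.structureModule X ⟶ M} (hs : s ≠ 0) : ∃ r : k, t = s ≫ (cst k M r : M ⟶ M) := by
  have key : ∀ f : Coh.structureModule X ⟶ M,
      DCohLib.secHom M (CurveLib.secOf M ((CurveLib.secOf M).symm (AmpleLib.sec f))) = f := fun f => by
    rw [AddEquiv.apply_symm_apply, AmpleLib.secHom_sec]
  have hc : (CurveLib.secOf M).symm (AmpleLib.sec s) ≠ 0 := fun h0 => hs (by
    rw [← key s, h0, map_zero]
    refine (AmpleLib.secHom_sec _).symm.trans ?_ |>.trans (AmpleLib.secHom_sec (0 : Coh.structureModule X ⟶ M))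
    rw [AmpleLib.sec_secHom]
    exact congrArg _ rfl)
  obtain ⟨r, hr⟩ := exists_smul_eq_of_finrank_eq_one h hc ((CurveLib.secOf M).symm (AmpleLib.sec t))
  refine ⟨r, ?_⟩
  rw [← key t, ← hr, secHom_smul, key s]

variable [IsAlgClosed k] [IsIntegral X] [IsNoetherian X] [IsRegCurve X] (hdim : topologicalKrullDim X = 1)

include k hdim in
/-- A secant divisor of maximal degree is a member of the linear system of `N`. -/
theorem nonempty_tensor_iso {K N I : X.Modules} (eK : K ≅ CurveFF.om k X) (hN : PicF.IsInvertible N)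
    (hI : PicF.IsInvertible I) (hd : Curv2.deg k X I 1 + Curv2.deg k X N 1 = 0)
    (h : Curv2.genus k X ≤ Module.finrank k (Coh.HH X (CohB1.tensorMod I (CohB1.tensorMod K N)) 0)) :
    Nonempty (CohB1.tensorMod I N ≅ Coh.structureModule X) := by
  have hK : PicF.IsInvertible K := ParaFLib.isInvertible_of_iso eK.symm (CurveFF.omega_invertible k hdim)
  have hdK : Curv2.deg k X K 1 = 2 * (Curv2.genus k X : ℤ) - 2 :=
    (CurveLib.deg_iso (k := k) eK 1).trans (CurveFF.omega_deg k hdim)
  let M := CohB1.tensorMod I (CohB1.tensorMod K N)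
  have hM : PicF.IsInvertible M := AmpleLib.isInvertible_tensor hI (AmpleLib.isInvertible_tensor hK hN)
  obtain ⟨e⟩ := CurveFF.nonempty_iso_omega (k := k) hdim hM (by
    rw [CurveLib.deg_tensor_add (k := k) hdim.le hI (AmpleLib.isInvertible_tensor hK hN),
      CurveLib.deg_tensor_add (k := k) hdim.le hK hN, hdK]
    linarith) h
  obtain ⟨K', hK', ⟨η⟩⟩ := AmpleEmb.exists_isInverseOf hK
  let IN := CohB1.tensorMod I N
  let a : CohB1.tensorMod IN K ≅ K :=
    (ModTensor.tensorAssoc X.sheaf N K).app I ≪≫ AmpleLib.tIso (Iso.refl I) (AmpleLib.comm N K) ≪≫ e ≪≫ eK.symm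
  exact ⟨((untwist η).app IN).symm ≪≫ (CurveLib.tensR K').mapIso a ≪≫ η⟩

include k hdim in
/-- `h⁰(K ⊗ N)`. -/
theorem finrank_H0_twist {K N : X.Modules} (eK : K ≅ CurveFF.om k X) (hN : PicF.IsInvertible N)
    (hd : 0 < Curv2.deg k X N 1) :
    (Module.finrank k (Coh.HH X (CohB1.tensorMod K N) 0) : ℤ) =
      Curv2.deg k X N 1 + (Curv2.genus k X : ℤ) - 1 := by
  have hK : PicF.IsInvertible K := ParaFLib.isInvertible_of_iso eK.symm (CurveFF.omega_invertible k hdim)
  have hdK : Curv2.deg k X K 1 = 2 * (Curv2.genus k X : ℤ) - 2 :=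
    (CurveLib.deg_iso (k := k) eK 1).trans (CurveFF.omega_deg k hdim)
  have hd' := CurveLib.deg_tensor_add (k := k) hdim.le hK hN
  haveI := CurveFF.subsingleton_H1 (k := k) hdim (CurveFF.h0_eq_one k hdim) (AmpleLib.isInvertible_tensor hK hN)
    (by omega)
  have h1 : Module.finrank k (Coh.HH X (CohB1.tensorMod K N) 1) = 0 := Module.finrank_zero_of_subsingleton
  have hO : Curv2.euler k X (Coh.structureModule X) = 1 - (Curv2.genus k X : ℤ) := by
    rw [CurveLib.euler_eq_sub (k := k) hdim.le, CurveLib.finrank_H0_structure]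
    rfl
  unfold Curv2.deg at hd' hdK ⊢
  rw [CurveLib.euler_eq_sub (k := k) hdim.le (M := CohB1.tensorMod K N), h1] at hd'
  push_cast [hO] at hd' hdK ⊢
  linarith

/-- The section attached to a map `I ⟶ O`. -/
def secMap {I N : X.Modules} (η : CohB1.tensorMod I N ≅ Coh.structureModule X)
    (f : I ⟶ Coh.structureModule X) : Coh.structureModule X ⟶ N :=
  η.inv ≫ (CurveLib.tensR N).map f ≫ (CurveLib.tmodUnit N).hom

theorem secMap_injective {I N : X.Modules} (hN : PicF.IsInvertible N)
    (η : CohB1.tensorMod I N ≅ Coh.structureModule X) : Function.Injective (secMap η) := by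
  intro f g hfg
  obtain ⟨N', hN', ⟨η'⟩⟩ := AmpleEmb.exists_isInverseOf hN
  haveI := isEquivalence_tensR η'
  rw [secMap, secMap, cancel_epi, cancel_mono] at hfg
  exact (CurveLib.tensR N).map_injective hfg

include k in
theorem nontrivial_H0_of_sub {I N : X.Modules} (hI : PicF.IsInvertible I) (hN : PicF.IsInvertible N)
    (η : CohB1.tensorMod I N ≅ Coh.structureModule X) (ι : I ⟶ Coh.structureModule X) [Mono ι] :
    Nontrivial (Coh.HH X N 0) := by
  refine ⟨⟨(CurveLib.secOf N).symm (AmpleLib.sec (secMap η ι)), 0, fun h0 => ?_⟩⟩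
  have h1 : secMap η ι = secMap η 0 := by
    rw [← AmpleLib.secHom_sec (secMap η ι), ← AmpleLib.secHom_sec (secMap η 0)]
    refine congrArg _ ((CurveLib.secOf N).symm.injective (h0.trans ?_))
    rw [secMap, Functor.map_zero, zero_comp, comp_zero]
    exact (map_zero (CurveLib.secOf N).symm).symm
  have hz : IsZero I := by
    rw [IsZero.iff_id_eq_zero, ← cancel_mono ι, secMap_injective hN η h1, comp_zero, comp_zero]
  have := (dg_isZero k hz).1
  rw [grk_of_rank (CurveLib.isFinLocFreeOfRank_one hI)] at this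
  exact one_ne_zero this

include k hdim in
/-- A module with a section has a secant divisor of maximal degree. -/
theorem exists_secant {K N : X.Modules} (eK : K ≅ CurveFF.om k X) (hN : PicF.IsInvertible N)
    [Nontrivial (Coh.HH X N 0)] :
    ∃ (I : X.Modules) (ι : I ⟶ Coh.structureModule X), PicF.IsInvertible I ∧ Mono ι ∧
      Curv2.deg k X I 1 = - Curv2.deg k X N 1 ∧
      Module.finrank k (Coh.HH X (CohB1.tensorMod I (CohB1.tensorMod K N)) 0) = Curv2.genus k X := by
  obtain ⟨s, hs⟩ := CurveLib.exists_hom_ne_zero N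
  obtain ⟨I, hI, ⟨η⟩⟩ := AmpleEmb.exists_isInverseOf hN
  haveI := isEquivalence_tensR (AmpleLib.comm I N ≪≫ η)
  let ι : I ⟶ Coh.structureModule X := (CurveLib.tmodUnit I).inv ≫ (CurveLib.tensR I).map s ≫ η.hom
  have hι : ι ≠ 0 := fun h0 => hs ((CurveLib.tensR I).map_injective (by
    rw [Functor.map_zero, ← cancel_mono η.hom, ← cancel_epi (CurveLib.tmodUnit I).inv]
    exact h0.trans (by rw [zero_comp, comp_zero])))
  have hd := CurveLib.deg_tensor_add (k := k) hdim.le hN hI
  rw [CurveLib.deg_iso (k := k) η 1, CurveLib.deg_structureModule] at hd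
  let a : CohB1.tensorMod I (CohB1.tensorMod K N) ≅ CurveFF.om k X :=
    AmpleLib.comm I (CohB1.tensorMod K N) ≪≫ (ModTensor.tensorAssoc X.sheaf N I).app K ≪≫
      AmpleLib.tIso (Iso.refl K) η ≪≫ (ModTensor.tensorUnitRight X.sheaf).app K ≪≫ eK
  refine ⟨I, ι, hI, CurveLib.mono_of_ne_zero hI ParaFLib.isInvertible_structureModule hι, by linarith, ?_⟩
  rw [(LinearEquiv.ofBijective (CurveLib.hMap (k := k) a.hom 0) (CurveLib.hMap_bijective_iso a 0)).finrank_eq,
    CurveFF.omega_h0 k hdim]

include k hdim in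
/-- The secant divisor is unique when `N` has one section. -/
theorem secant_unique {N I I' : X.Modules} (hN : PicF.IsInvertible N) (hI : PicF.IsInvertible I)
    (hI' : PicF.IsInvertible I') (h1 : Module.finrank k (Coh.HH X N 0) = 1)
    (η : CohB1.tensorMod I N ≅ Coh.structureModule X) (η' : CohB1.tensorMod I' N ≅ Coh.structureModule X)
    (ι : I ⟶ Coh.structureModule X) (ι' : I' ⟶ Coh.structureModule X) [Mono ι] [Mono ι'] :
    ∃ φ : I' ≅ I, φ.hom ≫ ι = ι' := by
  let e : I' ≅ I := ((untwist (AmpleLib.comm N I ≪≫ η)).app I').symm ≪≫ (CurveLib.tensR I).mapIso η' ≪≫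
    CurveLib.tmodUnit I
  have hne : ∀ (f : I' ⟶ Coh.structureModule X), Mono f → secMap η' f ≠ 0 := fun f hf h0 => by
    haveI := hf
    have hf0 : f = 0 := secMap_injective hN η' (h0.trans (by rw [secMap, Functor.map_zero, zero_comp, comp_zero]))
    have hz : IsZero I' := by rw [IsZero.iff_id_eq_zero, ← cancel_mono f, hf0, comp_zero, comp_zero]
    have := (dg_isZero k hz).1
    rw [grk_of_rank (CurveLib.isFinLocFreeOfRank_one hI')] at this
    exact one_ne_zero this
  obtain ⟨r, hr⟩ := exists_proportional k h1 (t := secMap η' ι') (hne (e.hom ≫ ι) (mono_comp _ _))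
  have hr0 : r ≠ 0 := fun h0 => hne ι' inferInstance (by
    rw [hr, h0, cst_zero]
    exact comp_zero)
  haveI := isIso_cst k I' hr0
  refine ⟨asIso (cst k I' r : I' ⟶ I') ≪≫ e, secMap_injective hN η' ?_⟩
  rw [hr, Iso.trans_hom, asIso_hom, secMap, secMap, Category.assoc, Functor.map_comp, Dual.tensR_map_cst]
  simp only [Category.assoc]
  have h2 := cst_natural k ((CurveLib.tensR N).map (e.hom ≫ ι)) r
  have h3 := cst_natural k (CurveLib.tmodUnit N).hom r
  exact congrArg (η'.inv ≫ ·) (((Category.assoc _ _ _).symm.trans (congrArg (· ≫ _) h2)).trans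
    ((Category.assoc _ _ _).trans (congrArg ((CurveLib.tensR N).map (e.hom ≫ ι) ≫ ·) h3)))

end Groth.Agent.VBLib.Secant
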