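import Groth.Agent.VBLib.Point
import Groth.Agent.DevLib.Power
/-!
Rank two bundles generated by two sections at almost all points.
-/

set_option autoImplicit false
set_option backward.isDefEq.respectTransparency false
set_option linter.style.haveILetI false

universe u

open CategoryTheory CategoryTheory.Limits AlgebraicGeometry TopologicalSpace
open Groth.Agent.PullbackMod Groth.Agent.DevLib Groth.Agent.QCohLib

noncomputable section

namespace Groth.Agent.VBLib

variable {X : Scheme.{u}}

/-- `(E ⊗ -)`. -/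
abbrev tensL (E : X.Modules) : X.Modules ⥤ X.Modules := (DCoh.tensorBi (X := X)).obj E

/-- Symmetry, as functors on modules. -/
abbrev symmL (E : X.Modules) : CurveLib.tensR E ≅ tensL E :=
  ModTensor.tensorSymm X.sheaf E

instance additive_tensL (E : X.Modules) : (tensL E).Additive :=
  Functor.additive_of_iso (symmL E)

theorem shortExact_tensL {S : ShortComplex X.Modules} (hS : S.ShortExact) {E : X.Modules} {n : ℕ}
    (hE : FlatMod.IsFinLocFreeOfRank n E) : (S.map (tensL E)).ShortExact :=
  ShortComplex.shortExact_of_iso (S.mapNatIso (symmL E))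
    (CurveLib.shortExact_tensR hS (CurveLib.freeAt_of_isFinLocFreeOfRank hE))

/-- The unit isomorphism `E ⊗ O ≅ E`, natural in `E`. -/
abbrev unitR : CurveLib.tensR (Coh.structureModule X) ≅ 𝟭 X.Modules :=
  ModTensor.tensorUnitRight X.sheaf

/-- A map `O → A` read as a map into `O ⊗ A`. -/
def unitMap {A : X.Modules} (q : Coh.structureModule X ⟶ A) :
    Coh.structureModule X ⟶ CohB1.tensorMod (Coh.structureModule X) A :=
  (unitR (X := X)).inv.app _ ≫ (tensL (Coh.structureModule X)).map q

/-- A section composed with the evaluation factors through the skyscraper. -/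
theorem section_eval {A E : X.Modules} (q : Coh.structureModule X ⟶ A) (σ : Coh.structureModule X ⟶ E) :
    σ ≫ (unitR (X := X)).inv.app E ≫ (tensL E).map q =
      unitMap q ≫ ((DCoh.tensorBi (X := X)).map σ).app A := by
  have h1 := (unitR (X := X)).inv.naturality σ
  have h2 := ((DCoh.tensorBi (X := X)).map σ).naturality q
  dsimp at h1
  unfold unitMap
  rw [← Category.assoc, h1, Category.assoc, Category.assoc]
  exact congrArg ((unitR (X := X)).inv.app _ ≫ ·) h2.symm

theorem epi_unitMap [IsIntegral X] {A : X.Modules} (q : Coh.structureModule X ⟶ A) [Epi q] :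
    Epi (unitMap q) := by
  haveI : Epi ((CurveLib.tensR (Coh.structureModule X)).map q) := inferInstance
  have h := (symmL (Coh.structureModule X)).hom.naturality q
  haveI : Epi ((tensL (Coh.structureModule X)).map q) := by
    have : Epi ((symmL (Coh.structureModule X)).hom.app (Coh.structureModule X) ≫
        (tensL (Coh.structureModule X)).map q) := h ▸ epi_comp _ _
    exact epi_of_epi ((symmL (Coh.structureModule X)).hom.app (Coh.structureModule X)) _
  exact epi_comp _ _

variable (k : Type u) [Field k] [X.Over (Spec (CommRingCat.of k))]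
  [IsProper (X ↘ Spec (CommRingCat.of k))] [IsIntegral X] [IsNoetherian X] [IsRegCurve X]

omit [IsProper (X ↘ Spec (CommRingCat.of k))] [IsIntegral X] [AlgebraicGeometry.IsNoetherian X] [IsRegCurve X] in
/-- Surjectivity on global sections, phrased by lifting sections. -/
theorem hMap_surjective_of_lift {M N : X.Modules} (g : M ⟶ N)
    (h : ∀ z : Coh.structureModule X ⟶ N, ∃ y : Coh.structureModule X ⟶ M, y ≫ g = z) :
    Function.Surjective (CurveLib.hMap (k := k) g 0) := by
  intro c
  obtain ⟨y, hy⟩ := h (DCohLib.secHom N (CurveLib.secOf N c))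
  refine ⟨(CurveLib.secOf M).symm (AmpleLib.sec y), (CurveLib.secOf N).injective ?_⟩
  rw [CurveLib.secOf_hMap, AddEquiv.apply_symm_apply, ← AmpleLib.sec_secHom (CurveLib.secOf N c), ← hy]
  rfl

omit [IsProper (X ↘ Spec (CommRingCat.of k))] [IsIntegral X] [AlgebraicGeometry.IsNoetherian X] [IsRegCurve X] in
theorem exists_lift_of_surjective {M N : X.Modules} (g : M ⟶ N)
    (h : Function.Surjective (CurveLib.hMap (k := k) g 0)) (z : Coh.structureModule X ⟶ N) :
    ∃ y : Coh.structureModule X ⟶ M, y ≫ g = z := by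
  obtain ⟨c, hc⟩ := h ((CurveLib.secOf N).symm (AmpleLib.sec z))
  refine ⟨DCohLib.secHom M (CurveLib.secOf M c), ?_⟩
  have h1 := congrArg (CurveLib.secOf N) hc
  rw [CurveLib.secOf_hMap, AddEquiv.apply_symm_apply] at h1
  rw [← AmpleLib.secHom_sec (_ ≫ g), ← AmpleLib.secHom_sec z]
  refine congrArg _ (Eq.trans ?_ h1)
  show g.app ⊤ (AmpleLib.sec (DCohLib.secHom M (CurveLib.secOf M c))) = _
  rw [AmpleLib.sec_secHom]

include k in
/-- Two sections independent at the generic point. -/
theorem exists_two_sections (hdim : topologicalKrullDim X ≤ 1) {E : X.Modules}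
    (hE : FlatMod.IsFinLocFreeOfRank 2 E)
    (hss : ∀ (M : X.Modules) (i : M ⟶ E), Mono i → PicF.IsInvertible M →
      2 * Module.finrank k (Coh.HH X M 0) ≤ Module.finrank k (Coh.HH X E 0))
    (h2 : 2 ≤ Module.finrank k (Coh.HH X E 0)) :
    ∃ s t : Coh.structureModule X ⟶ E, Mono (biprod.desc s t) := by
  have hEc := isCoh_of_rank hE
  haveI := EulerIneqLib.finite_HH (k := k) hEc 0
  haveI : Nontrivial (Coh.HH X E 0) := Module.nontrivial_of_finrank_pos (R := k) (by omega)
  obtain ⟨s, hs⟩ := CurveLib.exists_hom_ne_zero E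
  have hOf : FlatMod.IsFinLocFreeOfRank 1 (Coh.structureModule X) :=
    CurveLib.isFinLocFreeOfRank_one ParaFLib.isInvertible_structureModule
  have hOc := isCoh_of_rank hOf
  obtain ⟨I, p, i, hi, hp, hpi, hI, hK1, h1, -⟩ := exists_image k s hOc hEc
  haveI : Mono s := by
    refine Preadditive.mono_of_isZero_kernel s (isZero_of_mono (kernel.ι s) hK1 hOf ?_)
    have hI0 : 0 < grk I := Nat.pos_of_ne_zero fun h0 => hs (by
      rw [← hpi, (isZero_of_mono i hI hE h0).eq_of_tgt p 0, zero_comp])
    rw [grk_of_rank hOf] at h1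
    omega
  obtain ⟨hCc, hCr, -⟩ := coker_add k s hOc hEc
  obtain ⟨Q, q, hq, hQc, hQf, hQr, -⟩ := exists_freeQuot k hdim hCc
  haveI := hq
  rw [grk_of_rank hOf, grk_of_rank hE] at hCr
  rw [show grk Q = 1 by omega] at hQf
  have hQi := isInvertible_of_rank hQf
  let π : E ⟶ Q := cokernel.π s ≫ q
  haveI : Epi π := epi_comp _ _
  obtain ⟨hKc, hKr, -⟩ := kernel_add k π hEc hQc
  rw [grk_of_rank hE, grk_of_rank hQf] at hKr
  have hKf := rank_of_mono (kernel.ι π) hKc hE
  rw [show grk (kernel π) = 1 by omega] at hKf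
  have hKi := isInvertible_of_rank hKf
  obtain ⟨t, ht⟩ : ∃ t : Coh.structureModule X ⟶ E, t ≫ π ≠ 0 := by
    by_contra h
    push_neg at h
    have hsurj : Function.Surjective (CurveLib.hMap (k := k) (kernel.ι π) 0) :=
      hMap_surjective_of_lift k _ fun z => ⟨kernel.lift π z (h z), kernel.lift_ι _ _ _⟩
    have := hss (kernel π) (kernel.ι π) inferInstance hKi
    haveI := EulerIneqLib.finite_HH (k := k) hKc 0
    have := LinearMap.finrank_range_le (CurveLib.hMap (k := k) (kernel.ι π) 0)
    rw [LinearMap.range_eq_top.2 hsurj, finrank_top] at this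
    omega
  refine ⟨s, t, Preadditive.mono_of_cancel_zero _ fun {W} w hw => ?_⟩
  have hsπ : s ≫ π = 0 := by simp [π]
  haveI := CurveLib.mono_of_ne_zero ParaFLib.isInvertible_structureModule hQi ht
  have hsnd : w ≫ biprod.snd = 0 := by
    have h1 : biprod.desc s t ≫ π = biprod.snd ≫ t ≫ π := by
      apply biprod.hom_ext' <;> simp [hsπ]
    refine zero_of_comp_mono (t ≫ π) ?_
    rw [Category.assoc, ← h1, reassoc_of% hw, zero_comp]
  have hfst : w ≫ biprod.fst = 0 := by
    refine zero_of_comp_mono s ?_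
    rw [biprod.desc_eq] at hw
    simpa [reassoc_of% hsnd] using hw
  exact biprod.hom_ext _ _ (by simpa using hfst) (by simpa using hsnd)

attribute [local irreducible] dg grk

include k in
/-- Where two sections generate, evaluation of the sections at the point is surjective. -/
theorem finrank_H0_tensor_skyscraper (hdim : topologicalKrullDim X ≤ 1) {E P A : X.Modules}
    (hE : FlatMod.IsFinLocFreeOfRank 2 E) (s t : Coh.structureModule X ⟶ E) [Mono (biprod.desc s t)]
    (p : X) (hps : p ∉ CohB1.support (cokernel (biprod.desc s t)))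
    (i : P ⟶ Coh.structureModule X) (q : Coh.structureModule X ⟶ A) (hiq : i ≫ q = 0)
    (hC : (ShortComplex.mk i q hiq).ShortExact) (hPi : PicF.IsInvertible P) (hPd : Curv2.deg k X P 1 = -1)
    (hAc : Coh.IsCoh A) (hA0 : grk A = 0) (hA1 : dg k A = 1)
    (hsupp : ∀ y, y ≠ p → Subsingleton (A.presheaf.stalk y)) :
    Module.finrank k (Coh.HH X (CohB1.tensorMod E P) 0) + 2 = Module.finrank k (Coh.HH X E 0) := by
  haveI : Epi q := hC.epi_g
  let O := Coh.structureModule X
  have hOi : PicF.IsInvertible O := ParaFLib.isInvertible_structureModule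
  have hOc : Coh.IsCoh O := CurveLib.isCoh_of_isInvertible hOi
  have hPc := CurveLib.isCoh_of_isInvertible hPi
  let W := CohB1.tensorMod O A
  have eW : W ≅ A := CurveLib.tmodUnit A
  have hWc : Coh.IsCoh W := ShStabLib.isCoh_of_iso eW.symm hAc
  have hW0 : grk W = 0 := (grk_iso eW).trans hA0
  have hW1 : dg k W = 1 := (dg_iso k eW).trans hA1
  let T : ShortComplex X.Modules := (ShortComplex.mk i q hiq).map (tensL E)
  have hT : T.ShortExact := shortExact_tensL hC hE
  haveI := hT.epi_g
  have eU : T.X₂ ≅ E := (unitR (X := X)).app E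
  have hEc := isCoh_of_rank hE
  have hT1c : Coh.IsCoh T.X₁ := CurveLib.isCoh_tmod hEc hPc
  have hT2c : Coh.IsCoh T.X₂ := CurveLib.isCoh_tmod hEc hOc
  have hT3c : Coh.IsCoh T.X₃ := CurveLib.isCoh_tmod hEc hAc
  have hg := grk_add hT hT1c hT3c
  have ha := dg_add k hT hT1c hT2c hT3c
  have h2r : grk T.X₂ = 2 := (grk_iso eU).trans (grk_of_rank hE)
  have h1r : grk T.X₁ = 2 := (grk_twist hPi E).trans (grk_of_rank hE)
  have h1d : dg k T.X₁ = dg k E - 2 := by
    rw [dg, h1r, dg_eq k hE]
    refine (CurveLib.deg_tensor_invertible (k := k) hdim hE hPi).trans ?_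
    rw [hPd]
    ring
  rw [h1r, h2r] at hg
  rw [h1d, dg_iso k eU] at ha
  have hQ0 : grk T.X₃ = 0 := by omega
  have hQ1 : dg k T.X₃ = 2 := by omega
  let Φ : W ⊞ W ⟶ T.X₃ :=
    biprod.desc (((DCoh.tensorBi (X := X)).map s).app A) (((DCoh.tensorBi (X := X)).map t).app A)
  let ev : E ⟶ T.X₃ := (unitR (X := X)).inv.app E ≫ T.g
  have hfac : biprod.desc s t ≫ ev = biprod.map (unitMap q) (unitMap q) ≫ Φ := by
    apply biprod.hom_ext'
    · simp only [biprod.inl_desc_assoc, biprod.inl_map_assoc, Φ, biprod.inl_desc]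
      exact section_eval q s
    · simp only [biprod.inr_desc_assoc, biprod.inr_map_assoc, Φ, biprod.inr_desc]
      exact section_eval q t
  haveI : Epi ev := epi_comp _ _
  haveI : Epi (biprod.desc s t ≫ ev) := by
    refine (epi_iff_stalk _).2 fun y => ?_
    by_cases hy : y = p
    · subst hy
      haveI : Subsingleton ((cokernel (biprod.desc s t)).presheaf.stalk y) := not_not.1 hps
      rw [stalkLin_comp]
      exact ((epi_iff_stalk ev).1 inferInstance y).comp
        fun z => (DevLib.coker_exact _ y z).1 (Subsingleton.elim _ _)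
    · haveI : Subsingleton (A.presheaf.stalk y) := hsupp y hy
      haveI : Subsingleton (T.X₃.presheaf.stalk y) :=
        (DCohLib.stalkTensor y E A).symm.toEquiv.subsingleton
      exact fun z => ⟨0, Subsingleton.elim _ _⟩
  haveI : Epi Φ := by
    haveI : Epi (biprod.map (unitMap q) (unitMap q) ≫ Φ) := hfac ▸ inferInstance
    exact epi_of_epi (biprod.map (unitMap q) (unitMap q)) Φ
  have hWW := DevLib.isCoh_biprod hWc hWc
  have hsp : (ShortComplex.mk (biprod.inl : W ⟶ W ⊞ W) biprod.snd (by simp)).ShortExact :=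
    (ShortComplex.Splitting.ofHasBinaryBiproduct W W).shortExact
  obtain ⟨hKc, hKr, hKd⟩ := kernel_add k Φ hWW hT3c
  have hWWr : grk (W ⊞ W) = grk W + grk W := grk_add hsp hWc hWc
  have hWWd : dg k (W ⊞ W) = dg k W + dg k W := dg_add k hsp hWc hWW hWc
  haveI : Mono Φ := Preadditive.mono_of_isZero_kernel Φ
    (isZero_of_dg_eq_zero k hdim hKc (by omega) (by omega))
  haveI : IsIso Φ := isIso_of_mono_of_epi Φ
  have hWf : (Module.finrank k (Coh.HH X W 0) : ℤ) = 1 := (dg_eq_finrank k hdim hWc hW0).1.symm.trans hW1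
  haveI := EulerIneqLib.finite_HH (k := k) hWc 0
  haveI := EulerIneqLib.finite_HH (k := k) hOc 0
  haveI := epi_unitMap q
  have hq' : Function.Surjective (CurveLib.hMap (k := k) (unitMap q) 0) := by
    have hne : unitMap q ≠ 0 := fun h => by
      have hz : IsZero W := IsZero.of_epi_eq_zero (unitMap q) h
      have := (dg_isZero k hz).2
      omega
    have h1 : Module.finrank k (Coh.HH X W 0) = 1 := by exact_mod_cast hWf
    let one := (CurveLib.secOf O).symm (AmpleLib.sec (𝟙 O))
    have hc : CurveLib.hMap (k := k) (unitMap q) 0 one ≠ 0 := fun h => hne (by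
      have h1 : (unitMap q).app ⊤ (AmpleLib.sec (𝟙 O)) = 0 := by
        rw [← (CurveLib.secOf O).apply_symm_apply (AmpleLib.sec (𝟙 O)), ← CurveLib.secOf_hMap (k := k),
          h, map_zero]
      rw [← AmpleLib.secHom_sec (unitMap q), ← AmpleLib.secHom_sec (0 : O ⟶ W)]
      exact congrArg _ h1)
    intro z
    obtain ⟨a, ha⟩ := (finrank_eq_one_iff_of_nonzero' _ hc).1 h1 z
    exact ⟨a • one, by rw [map_smul, ha]⟩
  have hsurj : Function.Surjective (CurveLib.hMap (k := k) T.g 0) := by
    refine hMap_surjective_of_lift k _ fun z => ?_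
    obtain ⟨a, ha'⟩ := exists_lift_of_surjective k _ hq' ((z ≫ inv Φ) ≫ biprod.fst)
    obtain ⟨b, hb'⟩ := exists_lift_of_surjective k _ hq' ((z ≫ inv Φ) ≫ biprod.snd)
    refine ⟨(biprod.lift a b ≫ biprod.desc s t) ≫ (unitR (X := X)).inv.app E, ?_⟩
    have h : biprod.lift a b ≫ biprod.map (unitMap q) (unitMap q) = z ≫ inv Φ := by
      apply biprod.hom_ext
      · rw [Category.assoc, biprod.map_fst, biprod.lift_fst_assoc]; exact ha'
      · rw [Category.assoc, biprod.map_snd, biprod.lift_snd_assoc]; exact hb'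
    rw [Category.assoc, Category.assoc]
    exact (congrArg (biprod.lift a b ≫ ·) hfac).trans (by rw [reassoc_of% h, IsIso.inv_hom_id, Category.comp_id])
  have hTf : (Module.finrank k (Coh.HH X T.X₃ 0) : ℤ) = 2 :=
    (dg_eq_finrank k hdim hT3c hQ0).1.symm.trans hQ1
  haveI := EulerIneqLib.finite_HH (k := k) hT2c 0
  have h := LinearMap.finrank_range_add_finrank_ker (CurveLib.hMap (k := k) T.g 0)
  rw [show LinearMap.ker (CurveLib.hMap (k := k) T.g 0) = LinearMap.range (CurveLib.hMap (k := k) T.f 0) from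
      (CurveLib.range_hMap_f (k := k) hT 0).symm,
    LinearMap.finrank_range_of_inj (CurveLib.hMap_f_zero_injective (k := k) hT),
    LinearMap.range_eq_top.2 hsurj, finrank_top] at h
  have hE2 := (LinearEquiv.ofBijective _ (CurveLib.hMap_bijective_iso (k := k) eU 0)).finrank_eq
  change Module.finrank k (Coh.HH X T.X₁ 0) + 2 = _
  omega

include k in
/-- The twist by the ideal of a point where two sections generate loses two sections. -/
theorem finrank_H0_tensor_point [IsAlgClosed k] (hdim : topologicalKrullDim X = 1) {E : X.Modules}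
    (hE : FlatMod.IsFinLocFreeOfRank 2 E) (s t : Coh.structureModule X ⟶ E) [Mono (biprod.desc s t)]
    (p : X) (hp : IsClosed ({p} : Set X)) (hps : p ∉ CohB1.support (cokernel (biprod.desc s t))) :
    Module.finrank k (Coh.HH X (CohB1.tensorMod E (ClSub.idealMod
      (Scheme.IdealSheafData.vanishingIdeal (⟨{p}, hp⟩ : Closeds X)))) 0) + 2 =
      Module.finrank k (Coh.HH X E 0) := by
  obtain ⟨hPi, hPd, hsupp⟩ := point_ideal k hdim hp
  let i := ClSub.idealModι (Scheme.IdealSheafData.vanishingIdeal (⟨{p}, hp⟩ : Closeds X))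
  haveI : Mono i := inferInstanceAs (Mono (kernel.ι _))
  have hOc : Coh.IsCoh (Coh.structureModule X) := CurveLib.isCoh_of_isInvertible ParaFLib.isInvertible_structureModule
  have hPf := CurveLib.isFinLocFreeOfRank_one hPi
  obtain ⟨hAc, hAr, hAd⟩ := coker_add k i (isCoh_of_rank hPf) hOc
  obtain ⟨hO1, hO2⟩ := dg_structureModule k (X := X)
  rw [grk_of_rank hPf, hO1] at hAr
  rw [dg_eq k hPf, hPd, hO2] at hAd
  exact finrank_H0_tensor_skyscraper k hdim.le hE s t p hps i (cokernel.π i) (cokernel.condition i)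
    (cokerSeq_shortExact i) hPi hPd hAc (by omega) (by omega) hsupp

end Groth.Agent.VBLib
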