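import Groth.Agent.VBLib.H0Comb
import Groth.Agent.VBLib.Secant
import Groth.Agent.VBLib.NilHiggs
import Groth.Agent.VBLib.TwoSections
import Groth.Agent.LocFreeHomLib.Coherence

/-!
# Twisting an `H⁰`-semistable bundle of rank two down by a point
-/

set_option autoImplicit false
set_option backward.isDefEq.respectTransparency false
set_option linter.style.haveILetI false
set_option maxHeartbeats 1000000

universe u

open CategoryTheory CategoryTheory.Limits AlgebraicGeometry TopologicalSpace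
open Groth.Agent.PullbackMod Groth.Agent.DevLib Groth.Agent.QCohLib
open scoped TensorProduct

noncomputable section

namespace Groth.Agent.VBLib.H0SS

variable {X : Scheme.{u}}

/-- The ideal of a closed point. -/
abbrev Pt (p : {p : X // IsClosed ({p} : Set X)}) : X.Modules :=
  ClSub.idealMod (Scheme.IdealSheafData.vanishingIdeal (⟨{p.1}, p.2⟩ : Closeds X))

/-- The inclusion of the ideal of a closed point. -/
abbrev ptι (p : {p : X // IsClosed ({p} : Set X)}) : Pt p ⟶ Coh.structureModule X :=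
  ClSub.idealModι (Scheme.IdealSheafData.vanishingIdeal (⟨{p.1}, p.2⟩ : Closeds X))

/-- `E(-p) → E`. -/
def ιE (E : X.Modules) (p : {p : X // IsClosed ({p} : Set X)}) : CohB1.tensorMod E (Pt p) ⟶ E :=
  (tensL E).map (ptι p) ≫ (unitR (X := X)).hom.app E

theorem ιE_natural {A B : X.Modules} (f : A ⟶ B) (p : {p : X // IsClosed ({p} : Set X)}) :
    (CurveLib.tensR (Pt p)).map f ≫ ιE B p = ιE A p ≫ f := by
  have h1 := ((DCoh.tensorBi (X := X)).map f).naturality (ptι p)
  have h2 := (unitR (X := X)).hom.naturality f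
  exact (Category.assoc _ _ _).symm.trans ((congrArg (· ≫ _) h1.symm).trans ((Category.assoc _ _ _).trans
    ((congrArg ((tensL A).map (ptι p) ≫ ·) h2).trans (Category.assoc _ _ _).symm)))

theorem mono_ιE {E : X.Modules} {n : ℕ} (hE : FlatMod.IsFinLocFreeOfRank n E) (p : {p : X // IsClosed ({p} : Set X)}) :
    Mono (ιE E p) := by
  haveI : Mono (ptι p) := inferInstanceAs (Mono (kernel.ι _))
  haveI := (shortExact_tensL (cokerSeq_shortExact (ptι p)) hE).mono_f
  haveI : Mono ((tensL E).map (ptι p)) := this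
  exact mono_comp _ _

variable (k : Type u) [Field k] [X.Over (Spec (CommRingCat.of k))] [IsProper (X ↘ Spec (CommRingCat.of k))]

/-- The map `O ⟶ M` of a degree zero class. -/
def sH {M : X.Modules} (w : Coh.HH X M 0) : Coh.structureModule X ⟶ M :=
  DCohLib.secHom M (CurveLib.secOf M w)

omit [IsProper (X ↘ Spec (CommRingCat.of k))] in
theorem sH_injective {M : X.Modules} : Function.Injective (sH (M := M)) := fun v w h =>
  (CurveLib.secOf M).injective (by rw [← AmpleLib.sec_secHom (CurveLib.secOf M v), ← AmpleLib.sec_secHom (CurveLib.secOf M w)]; exact congrArg _ h)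

omit [IsProper (X ↘ Spec (CommRingCat.of k))] in
theorem sH_hMap {A B : X.Modules} (f : A ⟶ B) (w : Coh.HH X A 0) :
    sH (CurveLib.hMap (k := k) f 0 w) = sH w ≫ f := by
  rw [sH, sH, ← AmpleLib.secHom_sec (DCohLib.secHom A _ ≫ f), CurveLib.secOf_hMap]
  refine congrArg _ ?_
  show _ = f.app ⊤ (AmpleLib.sec (DCohLib.secHom A (CurveLib.secOf A w)))
  rw [AmpleLib.sec_secHom]

omit [IsProper (X ↘ Spec (CommRingCat.of k))] in
theorem sH_add {M : X.Modules} (v w : Coh.HH X M 0) : sH (v + w) = sH v + sH w := by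
  rw [← AmpleLib.secHom_sec (sH v + sH w)]
  show DCohLib.secHom M _ = _
  refine congrArg _ ?_
  rw [map_add]
  exact (congrArg₂ (· + ·) (AmpleLib.sec_secHom _) (AmpleLib.sec_secHom _)).symm

omit [IsProper (X ↘ Spec (CommRingCat.of k))] in
theorem sH_zero {M : X.Modules} : sH (0 : Coh.HH X M 0) = 0 := by
  have h := sH_add (M := M) (0 : Coh.HH X M 0) 0
  rwa [add_zero, left_eq_add] at h

/-- The sections killed by a map. -/
abbrev kerH {E Q : X.Modules} (π : E ⟶ Q) : Submodule k (Coh.HH X E 0) :=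
  LinearMap.ker (CurveLib.hMap (k := k) π 0)

/-- The sections vanishing at a point. -/
abbrev V (E : X.Modules) (p : {p : X // IsClosed ({p} : Set X)}) : Submodule k (Coh.HH X E 0) :=
  LinearMap.range (CurveLib.hMap (k := k) (ιE E p) 0)

/-- The spaces of sections of line subbundles. -/
def lines (E : X.Modules) : Set (Submodule k (Coh.HH X E 0)) :=
  {L | ∃ (Q : X.Modules) (π : E ⟶ Q), PicF.IsInvertible Q ∧ Epi π ∧ L = kerH k π}

theorem kerH_eq_range {E Q : X.Modules} (π : E ⟶ Q) [Epi π] :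
    kerH k π = LinearMap.range (CurveLib.hMap (k := k) (kernel.ι π) 0) := by
  let S : ShortComplex X.Modules := ShortComplex.mk (kernel.ι π) π (kernel.condition π)
  have hS : S.ShortExact :=
    ShortComplex.ShortExact.mk' (ShortComplex.exact_of_f_is_kernel _ (kernelIsKernel π)) inferInstance inferInstance
  exact (CurveLib.range_hMap_f (k := k) hS 0).symm

theorem finrank_range {A B : X.Modules} (f : A ⟶ B) [Mono f] :
    Module.finrank k (LinearMap.range (CurveLib.hMap (k := k) f 0)) = Module.finrank k (Coh.HH X A 0) :=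
  LinearMap.finrank_range_of_inj (CurveLib.hMap_f_zero_injective (k := k) (cokerSeq_shortExact f) :)

omit [IsProper (X ↘ Spec (CommRingCat.of k))] in
include k in
/-- A constant in the maximal ideal is zero. -/
theorem eq_zero_of_germ_mem (x : X) {a : k}
    (h : X.presheaf.germ ⊤ x trivial (Coh.toGlobal (X ↘ Spec (CommRingCat.of k)) a) ∈
      IsLocalRing.maximalIdeal (X.presheaf.stalk x)) : a = 0 := by
  by_contra ha
  exact h (((isUnit_iff_ne_zero.2 ha).map (Coh.toGlobal (X ↘ Spec (CommRingCat.of k)))).map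
    (X.presheaf.germ ⊤ x trivial).hom)

attribute [local irreducible] dg grk

variable [IsAlgClosed k] [IsIntegral X] [IsNoetherian X] [IsRegCurve X] (hdim : topologicalKrullDim X = 1)
  {E : X.Modules} (hE : FlatMod.IsFinLocFreeOfRank 2 E)

include k hdim hE in
/-- A rank one submodule lies in a line subbundle. -/
theorem exists_quot {M : X.Modules} (i : M ⟶ E) [Mono i] (hM : FlatMod.IsFinLocFreeOfRank 1 M) :
    ∃ (Q : X.Modules) (π : E ⟶ Q), PicF.IsInvertible Q ∧ Epi π ∧ i ≫ π = 0 := by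
  obtain ⟨hCc, hCr, -⟩ := coker_add k i (isCoh_of_rank hM) (isCoh_of_rank hE)
  obtain ⟨Q, q, hq, -, hQf, hQr, -⟩ := exists_freeQuot k hdim.le hCc
  haveI := hq
  rw [grk_of_rank hM, grk_of_rank hE] at hCr
  rw [show grk Q = 1 by omega] at hQf
  exact ⟨Q, cokernel.π i ≫ q, isInvertible_of_rank hQf, epi_comp _ _, by rw [cokernel.condition_assoc, zero_comp]⟩

include k hdim hE in
theorem isInvertible_kernel {Q : X.Modules} (hQ : PicF.IsInvertible Q) (π : E ⟶ Q) [Epi π] :
    PicF.IsInvertible (kernel π) := by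
  have hQf := CurveLib.isFinLocFreeOfRank_one hQ
  obtain ⟨hKc, hKr, -⟩ := kernel_add k π (isCoh_of_rank hE) (isCoh_of_rank hQf)
  rw [grk_of_rank hE, grk_of_rank hQf] at hKr
  have hKf := rank_of_mono (kernel.ι π) hKc hE
  rw [show grk (kernel π) = 1 by omega] at hKf
  exact isInvertible_of_rank hKf

include hdim hE in
theorem lines_disjoint : ∀ L₁ ∈ lines k E, ∀ L₂ ∈ lines k E, L₁ ≠ L₂ → L₁ ⊓ L₂ = ⊥ := by
  have key : ∀ (Q₁ Q₂ : X.Modules) (π₁ : E ⟶ Q₁) (π₂ : E ⟶ Q₂), PicF.IsInvertible Q₁ → Epi π₁ →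
      PicF.IsInvertible Q₂ → ∀ w : Coh.HH X E 0, w ≠ 0 → w ∈ kerH k π₁ → w ∈ kerH k π₂ →
      kerH k π₁ ≤ kerH k π₂ := by
    intro Q₁ Q₂ π₁ π₂ h₁ he h₂ w hw hw1 hw2
    haveI := he
    have hs1 : sH w ≫ π₁ = 0 := by rw [← sH_hMap k, LinearMap.mem_ker.1 hw1, sH_zero]
    have hs2 : sH w ≫ π₂ = 0 := by rw [← sH_hMap k, LinearMap.mem_ker.1 hw2, sH_zero]
    have hg : kernel.ι π₁ ≫ π₂ = 0 := by
      by_contra hg
      haveI := CurveLib.mono_of_ne_zero (isInvertible_kernel k hdim hE h₁ π₁) h₂ hg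
      refine hw (sH_injective ((?_ : sH w = 0).trans sH_zero.symm))
      have hl : kernel.lift π₁ _ hs1 = 0 := by
        rw [← cancel_mono (kernel.ι π₁ ≫ π₂), zero_comp, kernel.lift_ι_assoc, hs2]
      rw [← kernel.lift_ι π₁ _ hs1, hl, zero_comp]
    rw [kerH_eq_range]
    rintro _ ⟨c, rfl⟩
    rw [LinearMap.mem_ker, ← Dual.hMap_comp, hg, Dual.hMap_zero]
  rintro _ ⟨Q₁, π₁, h₁, he₁, rfl⟩ _ ⟨Q₂, π₂, h₂, he₂, rfl⟩ hne
  by_contra hb
  obtain ⟨w, ⟨hw1, hw2⟩, hw0⟩ := Submodule.exists_mem_ne_zero_of_ne_bot hb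
  exact hne (le_antisymm (key Q₁ Q₂ π₁ π₂ h₁ he₁ h₂ w hw0 hw1 hw2) (key Q₂ Q₁ π₂ π₁ h₂ he₂ h₁ w hw0 hw2 hw1))

include k hdim hE in
theorem lines_half (hss : ∀ (M : X.Modules) (i : M ⟶ E), Mono i → PicF.IsInvertible M →
      2 * Module.finrank k (Coh.HH X M 0) ≤ Module.finrank k (Coh.HH X E 0)) :
    ∀ L ∈ lines k E, 2 * Module.finrank k L ≤ Module.finrank k (Coh.HH X E 0) := by
  rintro _ ⟨Q, π, hQ, he, rfl⟩
  haveI := he
  rw [kerH_eq_range k π, finrank_range k (kernel.ι π)]
  exact hss (kernel π) (kernel.ι π) inferInstance (isInvertible_kernel k hdim hE hQ π)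

include hdim hE in
theorem lines_drop : ∀ L ∈ lines k E, ∀ p, Module.finrank k L ≤
    Module.finrank k (L ⊓ V k E p : Submodule k (Coh.HH X E 0)) + 1 := by
  rintro _ ⟨Q, π, hQ, he, rfl⟩ p
  haveI := he
  have hK := isInvertible_kernel k hdim hE hQ π
  have hKr := CurveLib.isFinLocFreeOfRank_one hK
  have hKc := isCoh_of_rank hKr
  haveI := mono_ιE hKr p
  have hle : LinearMap.range (CurveLib.hMap (k := k) (ιE (kernel π) p ≫ kernel.ι π) 0) ≤ kerH k π ⊓ V k E p := by
    rintro _ ⟨c, rfl⟩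
    refine ⟨?_, ?_⟩
    · rw [SetLike.mem_coe, LinearMap.mem_ker, ← Dual.hMap_comp, Category.assoc, kernel.condition, comp_zero,
        Dual.hMap_zero]
    · rw [← ιE_natural]
      exact ⟨_, (Dual.hMap_comp k _ _ 0 c).symm⟩
  haveI := EulerIneqLib.finite_HH (k := k) (isCoh_of_rank hE) 0
  have h1 := Submodule.finrank_mono hle
  rw [finrank_range] at h1
  rw [kerH_eq_range k π, finrank_range k (kernel.ι π)]
  rw [kerH_eq_range] at h1
  refine le_trans ?_ (Nat.add_le_add_right h1 1)
  obtain ⟨hPi, hPd, -⟩ := point_ideal k hdim p.2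
  haveI : Mono (ptι p) := inferInstanceAs (Mono (kernel.ι _))
  let T : ShortComplex X.Modules := (cokerSeq (ptι p)).map (tensL (kernel π))
  have hT : T.ShortExact := shortExact_tensL (cokerSeq_shortExact (ptι p)) hKr
  have hT1 : Coh.IsCoh T.X₁ := CurveLib.isCoh_tmod hKc (CurveLib.isCoh_of_isInvertible hPi)
  have eU : T.X₂ ≅ kernel π := (unitR (X := X)).app (kernel π)
  have hT2 : Coh.IsCoh T.X₂ := ShStabLib.isCoh_of_iso eU.symm hKc
  haveI := hT.mono_f
  haveI := hT.epi_g
  have hT3 : Coh.IsCoh T.X₃ := by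
    obtain ⟨hc, -, -⟩ := coker_add k T.f hT1 hT2
    exact ShStabLib.isCoh_of_iso (IsColimit.coconePointUniqueUpToIso (cokernelIsCokernel T.f) hT.gIsCokernel) hc
  have hg := grk_add hT hT1 hT3
  have hd := dg_add k hT hT1 hT2 hT3
  have h1r : grk T.X₁ = 1 := (grk_twist hPi (kernel π)).trans (grk_of_rank hKr)
  have h2r : grk T.X₂ = 1 := (grk_iso eU).trans (grk_of_rank hKr)
  have h1d : dg k T.X₁ = Curv2.deg k X (kernel π) 1 - 1 := by
    rw [dg, h1r]
    refine (CurveLib.deg_tensor_invertible (k := k) hdim.le hKr hPi).trans ?_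
    rw [hPd]
    ring
  have h2d : dg k T.X₂ = Curv2.deg k X (kernel π) 1 := (dg_iso k eU).trans (dg_eq k hKr)
  rw [h1r, h2r] at hg
  have h30 : grk T.X₃ = 0 := by omega
  have h3f : (Module.finrank k (Coh.HH X T.X₃ 0) : ℤ) = 1 := by
    rw [← (dg_eq_finrank k hdim.le hT3 h30).1]
    omega
  have hmid := finrank_H0_mid_le k hT hT1 hT2 hT3
  have e2 := (LinearEquiv.ofBijective _ (CurveLib.hMap_bijective_iso (k := k) eU 0)).finrank_eq
  change _ ≤ Module.finrank k (Coh.HH X T.X₁ 0) + 1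
  omega

include k hdim in
theorem ptι_mem (p : {p : X // IsClosed ({p} : Set X)}) (z : (Pt p).presheaf.stalk p.1) :
    ∃ a ∈ IsLocalRing.maximalIdeal (X.presheaf.stalk p.1), stalkLin (ptι p) p.1 z = a • LocFreeHomLib.one' p.1 := by
  obtain ⟨hP, hdP, hsupp⟩ := point_ideal k hdim p.2
  haveI : Mono (ptι p) := inferInstanceAs (Mono (kernel.ι _))
  let one : X.presheaf.stalk p.1 ≃ₗ[X.presheaf.stalk p.1] (Coh.structureModule X).presheaf.stalk p.1 :=
    LinearEquiv.ofBijective (LinearMap.toSpanSingleton _ _ (LocFreeHomLib.one' p.1)) (ParaFLib.bijective_oneG p.1)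
  refine ⟨one.symm (stalkLin (ptι p) p.1 z), ?_, (one.apply_symm_apply _).symm⟩
  by_contra hu
  rw [IsLocalRing.mem_maximalIdeal, mem_nonunits_iff, not_not] at hu
  obtain ⟨b, hb⟩ := hu.exists_left_inv
  have hsur : Function.Surjective (stalkLin (ptι p) p.1) := fun y =>
    ⟨(one.symm y * b) • z, one.symm.injective (by rw [map_smul, map_smul, smul_eq_mul, mul_assoc, hb, mul_one])⟩
  have hz : IsZero (cokernel (ptι p)) := isZero_of_support_empty (Set.eq_empty_of_forall_notMem fun y hy => hy (by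
    by_cases hyx : y = p.1
    · subst hyx
      refine subsingleton_of_forall_eq 0 fun c => ?_
      obtain ⟨w, rfl⟩ := DevLib.coker_surjective (ptι p) p.1 c
      obtain ⟨v, rfl⟩ := hsur w
      exact (DevLib.coker_exact (ptι p) p.1 _).2 ⟨v, rfl⟩
    · exact hsupp y hyx))
  obtain ⟨-, hr, hdd⟩ := coker_add k (ptι p) (CurveLib.isCoh_of_isInvertible hP) (isCoh_structureModule X)
  rw [(dg_structureModule k (X := X)).2, dg_eq k (CurveLib.isFinLocFreeOfRank_one hP), hdP, (dg_isZero k hz).2] at hdd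
  omega

include k hdim in
theorem ιE_mem (p : {p : X // IsClosed ({p} : Set X)}) (z : (CohB1.tensorMod E (Pt p)).presheaf.stalk p.1) :
    stalkLin (ιE E p) p.1 z ∈ IsLocalRing.maximalIdeal (X.presheaf.stalk p.1) •
      (⊤ : Submodule (X.presheaf.stalk p.1) (E.presheaf.stalk p.1)) := by
  obtain ⟨w, rfl⟩ := (DCohLib.stalkTensor p.1 E (Pt p)).surjective z
  induction w using TensorProduct.induction_on with
  | zero => simp
  | add u v hu hv => rw [map_add, map_add]; exact Submodule.add_mem _ hu hv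
  | tmul e c =>
    obtain ⟨a, ha, hc⟩ := ptι_mem k hdim p c
    rw [ιE, stalkLin_comp, LinearMap.comp_apply]
    refine (congrArg (fun v => stalkLin ((unitR (X := X)).hom.app E) p.1 v)
      (DCohLib.stalkTensor_natural_right p.1 (ptι p) (e ⊗ₜ c))).symm ▸ ?_
    rw [LinearMap.lTensor_tmul, hc, TensorProduct.tmul_smul, map_smul, map_smul]
    exact Submodule.smul_mem_smul ha Submodule.mem_top

include k hdim hE in
/-- Two independent sections stay independent at almost all points. -/
theorem finite_dependent {w₁ w₂ : Coh.HH X E 0} [Mono (biprod.desc (sH w₁) (sH w₂))] :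
    {p : {p : X // IsClosed ({p} : Set X)} | ∃ a b : k, (a ≠ 0 ∨ b ≠ 0) ∧ a • w₁ + b • w₂ ∈ V k E p}.Finite := by
  let O := Coh.structureModule X
  have hOr := CurveLib.isFinLocFreeOfRank_one (ParaFLib.isInvertible_structureModule (X := X))
  have hOc := isCoh_of_rank hOr
  have hEc := isCoh_of_rank hE
  let φ := biprod.desc (sH w₁) (sH w₂)
  have hOO : Coh.IsCoh (O ⊞ O) := DevLib.isCoh_biprod hOc hOc
  have hsp : (ShortComplex.mk (biprod.inl : O ⟶ O ⊞ O) biprod.snd (by simp)).ShortExact :=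
    (ShortComplex.Splitting.ofHasBinaryBiproduct O O).shortExact
  have hOOr : grk (O ⊞ O) = grk O + grk O := grk_add hsp hOc hOc
  obtain ⟨hCc, hCr, -⟩ := coker_add k φ hOO hEc
  rw [hOOr, grk_of_rank hOr, grk_of_rank hE] at hCr
  have hC := DevLib.isClosed_support hCc
  have hfin := CurveLib.finite_of_dim_le_zero hC
    (CurveLib.dim_le_zero_of_notMem hdim.le hC (genericPoint_spec X) ((grk_eq_zero_iff hCc).1 (by omega)))
  refine (hfin.preimage Subtype.val_injective.injOn).subset ?_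
  rintro p ⟨a, b, hab, c, hc⟩
  show p.1 ∈ CohB1.support (cokernel φ)
  intro hsub
  haveI := hsub
  let σ : O ⟶ O ⊞ O := biprod.lift (cst k O a : O ⟶ O) (cst k O b : O ⟶ O)
  have hσ : σ ≫ φ = sH c ≫ ιE E p := by
    rw [← sH_hMap k, hc, sH_add]
    simp only [σ, φ, biprod.lift_desc]
    rw [cst_natural, cst_natural]
    exact congrArg₂ (· + ·) (Secant.secHom_smul k E a w₁).symm (Secant.secHom_smul k E b w₂).symm
  have hbij : Function.Bijective (stalkLin φ p.1) :=
    ⟨(mono_iff_stalk φ).1 inferInstance p.1, fun z => (DevLib.coker_exact φ p.1 z).1 (Subsingleton.elim _ _)⟩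
  let e := LinearEquiv.ofBijective (stalkLin φ p.1) hbij
  let o := LocFreeHomLib.one' p.1
  have hmem : stalkLin φ p.1 (stalkLin σ p.1 o) ∈ IsLocalRing.maximalIdeal (X.presheaf.stalk p.1) •
      (⊤ : Submodule (X.presheaf.stalk p.1) (E.presheaf.stalk p.1)) := by
    rw [← LinearMap.comp_apply, ← stalkLin_comp, hσ, stalkLin_comp, LinearMap.comp_apply]
    exact ιE_mem k hdim p _
  have hmem' : stalkLin σ p.1 o ∈ IsLocalRing.maximalIdeal (X.presheaf.stalk p.1) •
      (⊤ : Submodule (X.presheaf.stalk p.1) ((O ⊞ O).presheaf.stalk p.1)) := by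
    have h := Submodule.smul_top_le_comap_smul_top _ e.symm.toLinearMap hmem
    rw [Submodule.mem_comap] at h
    rwa [show e.symm.toLinearMap (stalkLin φ p.1 (stalkLin σ p.1 o)) = stalkLin σ p.1 o from e.symm_apply_apply _] at h
  let one : X.presheaf.stalk p.1 ≃ₗ[X.presheaf.stalk p.1] O.presheaf.stalk p.1 :=
    LinearEquiv.ofBijective (LinearMap.toSpanSingleton _ _ o) (ParaFLib.bijective_oneG p.1)
  have key : ∀ (d : k) (π : O ⊞ O ⟶ O), σ ≫ π = (cst k O d : O ⟶ O) → d = 0 := by
    intro d π hπ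
    refine eq_zero_of_germ_mem k p.1 ?_
    have h := Submodule.smul_top_le_comap_smul_top _ (stalkLin π p.1) hmem'
    rw [Submodule.mem_comap, ← LinearMap.comp_apply, ← stalkLin_comp, hπ, Dual.stalkLin_cst] at h
    have h2 := Submodule.smul_top_le_comap_smul_top _ one.symm.toLinearMap h
    rw [Submodule.mem_comap, map_smul, show one.symm.toLinearMap o = 1 from one.symm_apply_eq.2 (show o = (1 : X.presheaf.stalk p.1) • o from (one_smul _ o).symm),
      Ideal.smul_eq_mul, Ideal.mul_top, smul_eq_mul, mul_one] at h2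
    exact h2
  rcases hab with ha | hb
  · exact ha (key a biprod.fst (biprod.lift_fst _ _))
  · exact hb (key b biprod.snd (biprod.lift_snd _ _))

include k hdim hE in
/-- A space of sections in no line is independent at almost all points. -/
theorem finite_jump (hnz : 0 < Module.finrank k (Coh.HH X E 0)) (H : Submodule k (Coh.HH X E 0))
    (hH : ∀ L ∈ lines k E, ¬ H ≤ L) :
    {p | Module.finrank k H < Module.finrank k (H ⊓ V k E p : Submodule k (Coh.HH X E 0)) + 2}.Finite := by
  haveI := EulerIneqLib.finite_HH (k := k) (isCoh_of_rank hE) 0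
  have hquot : ∀ w : Coh.HH X E 0, w ≠ 0 → ∃ (Q : X.Modules) (π : E ⟶ Q),
      PicF.IsInvertible Q ∧ Epi π ∧ Mono (sH w) ∧ sH w ≫ π = 0 := fun w hw => by
    have hs : sH w ≠ 0 := fun h => hw (sH_injective (h.trans sH_zero.symm))
    haveI := NilHiggs.mono_of_line k hE ParaFLib.isInvertible_structureModule hs
    obtain ⟨Q, π, h1, h2, h3⟩ := exists_quot k hdim hE (sH w)
      (CurveLib.isFinLocFreeOfRank_one ParaFLib.isInvertible_structureModule)
    exact ⟨Q, π, h1, h2, this, h3⟩
  obtain ⟨w₁, hw₁, hw₁0⟩ : ∃ w ∈ H, w ≠ 0 := by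
    by_contra hall
    push Not at hall
    haveI := Module.nontrivial_of_finrank_pos hnz
    obtain ⟨w, hw⟩ := exists_ne (0 : Coh.HH X E 0)
    obtain ⟨Q, π, h1, h2, -, -⟩ := hquot w hw
    exact hH _ ⟨Q, π, h1, h2, rfl⟩ fun v hv => by rw [hall v hv]; exact zero_mem _
  obtain ⟨Q, π, hQ, hπ, hm, hsπ⟩ := hquot w₁ hw₁0
  haveI := hm
  obtain ⟨w₂, hw₂, hw₂π⟩ := SetLike.not_le_iff_exists.1 (hH _ ⟨Q, π, hQ, hπ, rfl⟩)
  have ht : sH w₂ ≫ π ≠ 0 := fun h => hw₂π (LinearMap.mem_ker.2 (sH_injective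
    ((sH_hMap k π w₂).trans (h.trans sH_zero.symm))))
  haveI := CurveLib.mono_of_ne_zero ParaFLib.isInvertible_structureModule hQ ht
  haveI : Mono (biprod.desc (sH w₁) (sH w₂)) := Preadditive.mono_of_cancel_zero _ fun {W} g hg => by
    have hsnd : g ≫ biprod.snd = 0 := by
      have h1 : biprod.desc (sH w₁) (sH w₂) ≫ π = biprod.snd ≫ sH w₂ ≫ π := by
        apply biprod.hom_ext' <;> simp [hsπ]
      refine zero_of_comp_mono (sH w₂ ≫ π) ?_
      rw [Category.assoc, ← h1, reassoc_of% hg, zero_comp]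
    have hfst : g ≫ biprod.fst = 0 := by
      refine zero_of_comp_mono (sH w₁) ?_
      rw [biprod.desc_eq] at hg
      simpa [reassoc_of% hsnd] using hg
    exact biprod.hom_ext _ _ (by simpa using hfst) (by simpa using hsnd)
  refine (finite_dependent k hdim hE (w₁ := w₁) (w₂ := w₂)).subset fun p hp => ?_
  by_contra hnot
  change ¬ ∃ a b : k, _ at hnot
  push Not at hnot
  let f : (k × k) →ₗ[k] Coh.HH X E 0 :=
    (LinearMap.toSpanSingleton k _ w₁).coprod (LinearMap.toSpanSingleton k _ w₂)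
  have hf : ∀ ab : k × k, f ab ∈ V k E p → ab = 0 := fun ab hab => by
    by_contra h0
    refine hnot ab.1 ab.2 ?_ hab
    by_contra h'
    push Not at h'
    exact h0 (Prod.ext h'.1 h'.2)
  have hinj : Function.Injective f := (injective_iff_map_eq_zero f).2 fun ab h => hf ab (h ▸ zero_mem _)
  have h1 := Submodule.finrank_sup_add_finrank_inf_eq (LinearMap.range f) (H ⊓ V k E p)
  have h2 : LinearMap.range f ⊓ (H ⊓ V k E p) = ⊥ := by
    rw [eq_bot_iff]
    rintro _ ⟨⟨ab, rfl⟩, -, hv⟩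
    rw [hf ab hv, map_zero]
    exact zero_mem _
  have h3 : LinearMap.range f ⊔ (H ⊓ V k E p) ≤ H := sup_le (by
    rintro _ ⟨ab, rfl⟩
    exact H.add_mem (H.smul_mem _ hw₁) (H.smul_mem _ hw₂)) inf_le_left
  have h4 := Submodule.finrank_mono h3
  rw [h2, finrank_bot, LinearMap.finrank_range_of_inj hinj, Module.finrank_prod, Module.finrank_self] at h1
  change Module.finrank k H < _ at hp
  omega

omit [IsAlgClosed k] [IsRegCurve X] in
include k hdim in
theorem infinite_points : Infinite {p : X // IsClosed ({p} : Set X)} := by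
  haveI : JacobsonSpace X := LocallyOfFiniteType.jacobsonSpace (X ↘ Spec (CommRingCat.of k))
  by_contra hinf
  rw [not_infinite_iff_finite] at hinf
  have hC : IsClosed (⋃ p : {p : X // IsClosed ({p} : Set X)}, ({p.1} : Set X)) := isClosed_iUnion_of_finite fun p => p.2
  have huniv : (⋃ p : {p : X // IsClosed ({p} : Set X)}, ({p.1} : Set X)) = Set.univ :=
    Set.univ_subset_iff.1 (closure_closedPoints.ge.trans (hC.closure_subset_iff.2 fun x hx =>
      Set.mem_iUnion.2 ⟨⟨x, hx⟩, rfl⟩))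
  obtain ⟨p, hp⟩ := Set.mem_iUnion.1 (huniv.ge (Set.mem_univ (genericPoint X)))
  have hp' : genericPoint X = p.1 := hp
  have h2 : (Set.univ : Set X) ⊆ {p.1} := by
    rw [← (genericPoint_spec X).def, hp']
    exact p.2.closure_eq.le
  haveI : Subsingleton X := ⟨fun a b => (h2 (Set.mem_univ a)).trans (h2 (Set.mem_univ b)).symm⟩
  have : topologicalKrullDim X ≤ 0 := topologicalKrullDim_zero_of_discreteTopology X
  rw [hdim] at this
  exact absurd this (by norm_num)

include k hdim hE in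
/-- Some twist by the ideal of a point is again `H⁰`-semistable. -/
theorem exists_semistable_twist (hss : ∀ (M : X.Modules) (i : M ⟶ E), Mono i → PicF.IsInvertible M →
      2 * Module.finrank k (Coh.HH X M 0) ≤ Module.finrank k (Coh.HH X E 0))
    (h4 : 4 ≤ Module.finrank k (Coh.HH X E 0)) :
    ∃ p : {p : X // IsClosed ({p} : Set X)}, ∀ (M : X.Modules) (i : M ⟶ CohB1.tensorMod E (Pt p)), Mono i →
      PicF.IsInvertible M →
      2 * Module.finrank k (Coh.HH X M 0) ≤ Module.finrank k (Coh.HH X (CohB1.tensorMod E (Pt p)) 0) := by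
  haveI := EulerIneqLib.finite_HH (k := k) (isCoh_of_rank hE) 0
  haveI := infinite_points k hdim
  obtain ⟨s, t, hst⟩ := exists_two_sections k hdim.le hE hss (by omega)
  haveI := hst
  have hco : {p | Module.finrank k (V k E p) + 2 ≠ Module.finrank k (Coh.HH X E 0)}.Finite := by
    have hOr := CurveLib.isFinLocFreeOfRank_one (ParaFLib.isInvertible_structureModule (X := X))
    have hOc := isCoh_of_rank hOr
    have hOO := DevLib.isCoh_biprod hOc hOc
    have hsp : (ShortComplex.mk (biprod.inl : Coh.structureModule X ⟶ _ ⊞ Coh.structureModule X) biprod.snd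
        (by simp)).ShortExact :=
      (ShortComplex.Splitting.ofHasBinaryBiproduct (Coh.structureModule X) (Coh.structureModule X)).shortExact
    have hOOr : grk (Coh.structureModule X ⊞ Coh.structureModule X) = _ := grk_add hsp hOc hOc
    obtain ⟨hCc, hCr, -⟩ := coker_add k (biprod.desc s t) hOO (isCoh_of_rank hE)
    dsimp only at hOOr
    rw [hOOr, grk_of_rank hOr, grk_of_rank hE] at hCr
    have hC := DevLib.isClosed_support hCc
    have hfin := CurveLib.finite_of_dim_le_zero hC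
      (CurveLib.dim_le_zero_of_notMem hdim.le hC (genericPoint_spec X) ((grk_eq_zero_iff hCc).1 (by omega)))
    refine (hfin.preimage Subtype.val_injective.injOn).subset fun p hp => ?_
    show p.1 ∈ CohB1.support _
    by_contra hps
    haveI := mono_ιE hE p
    exact hp (by rw [finrank_range]; exact finrank_H0_tensor_point k hdim hE s t p.1 p.2 hps)
  obtain ⟨p, hp⟩ := H0Comb.exists_good (V := V k E) h4 (lines_disjoint k hdim hE) (lines_half k hdim hE hss)
    (lines_drop k hdim hE) (finite_jump k hdim hE (by omega)) hco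
  refine ⟨p, fun M i hi hM => ?_⟩
  haveI := hi
  haveI := mono_ιE hE p
  obtain ⟨Q, π, hQ, he, hiπ⟩ := exists_quot k hdim hE (i ≫ ιE E p) (CurveLib.isFinLocFreeOfRank_one hM)
  have hle : LinearMap.range (CurveLib.hMap (k := k) (i ≫ ιE E p) 0) ≤ kerH k π ⊓ V k E p := by
    rintro _ ⟨c, rfl⟩
    exact ⟨by rw [SetLike.mem_coe, LinearMap.mem_ker, ← Dual.hMap_comp, hiπ, Dual.hMap_zero],
      ⟨_, (Dual.hMap_comp k _ _ 0 c).symm⟩⟩
  have h1 := Submodule.finrank_mono hle
  rw [finrank_range] at h1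
  have h2 := hp _ ⟨Q, π, hQ, he, rfl⟩
  rw [finrank_range k (ιE E p)] at h2
  omega

end Groth.Agent.VBLib.H0SS
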