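import Groth.Agent.VBLib.GenusOne
import Groth.Agent.CurveFF.Genus
import Groth.Agent.CurveFF.Omega
import Groth.Agent.VBLib.GenusOneTwo
/-!
Rank two bundles on curves of any genus: line subbundles and their degree bounds.
-/

set_option autoImplicit false
set_option backward.isDefEq.respectTransparency false
set_option linter.style.haveILetI false

universe u

open CategoryTheory CategoryTheory.Limits AlgebraicGeometry TopologicalSpace
open Groth.Agent.PullbackMod Groth.Agent.DevLib Groth.Agent.QCohLib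

noncomputable section

namespace Groth.Agent.VBLib.RankTwo

variable (k : Type u) [Field k] [IsAlgClosed k] {X : Scheme.{u}} [X.Over (Spec (CommRingCat.of k))]
  [IsProper (X ↘ Spec (CommRingCat.of k))] [IsIntegral X] [IsNoetherian X] [IsRegCurve X]
  (hdim : topologicalKrullDim X = 1)

omit [IsAlgClosed k] in
include k in
/-- An extension by an invertible module splits when `H¹` of the module of maps vanishes. -/
theorem splitEpi_of_h1 (S : ShortComplex X.Modules) (hS : S.ShortExact) (hL : PicF.IsInvertible S.X₃)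
    (L' : X.Modules) (hL' : ClSub.IsInverseOf L' S.X₃)
    (h1 : Subsingleton (Coh.HH X (CohB1.tensorMod L' S.X₁) 1)) : IsSplitEpi S.g := by
  obtain ⟨η⟩ := hL'
  haveI := VBLib.isEquivalence_tensR η
  let F := CurveLib.tensR L'
  obtain ⟨N, hN, ⟨ηN⟩⟩ := AmpleEmb.exists_isInverseOf hL
  let eLN : N ≅ L' := (CurveLib.tmodUnit N).symm ≪≫ AmpleLib.tIso η.symm (Iso.refl N) ≪≫ (VBLib.untwist ηN).app L'
  have hinv : PicF.IsInvertible L' := ParaFLib.isInvertible_of_iso eLN hN
  let T : ShortComplex X.Modules := S.map F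
  have hT : T.ShortExact := CurveLib.shortExact_tensR hS (CurveLib.freeAt_one_of_isInvertible hinv)
  let e : T.X₃ ≅ Coh.structureModule X := CurveLib.tmodComm S.X₃ L' ≪≫ η
  haveI : Subsingleton (Coh.HH X T.X₁ 1) :=
    @Function.Injective.subsingleton _ _ _ (CurveLib.hMap_bijective_iso (k := k) (CurveLib.tmodComm S.X₁ L') 1).1 h1
  have hsurj : Function.Surjective (CurveLib.hMap (k := k) T.g 0) := fun z => by
    have hz : z ∈ LinearMap.ker (CurveLib.hδ (k := k) hT 0) := LinearMap.mem_ker.2 (Subsingleton.elim _ _)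
    exact (CurveLib.range_hMap_g (k := k) hT 0).ge hz
  obtain ⟨c, hc⟩ := hsurj ((CurveLib.secOf T.X₃).symm (AmpleLib.sec e.inv))
  let s := DCohLib.secHom T.X₂ (CurveLib.secOf T.X₂ c)
  have hs : s ≫ T.g = e.inv := by
    rw [← AmpleLib.secHom_sec (s ≫ T.g), ← AmpleLib.secHom_sec e.inv]
    refine congrArg _ ?_
    show T.g.app ⊤ (AmpleLib.sec s) = _
    rw [AmpleLib.sec_secHom, ← CurveLib.secOf_hMap (k := k), hc, AddEquiv.apply_symm_apply]
  refine ⟨⟨⟨F.preimage (e.hom ≫ s), F.map_injective ?_⟩⟩⟩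
  rw [F.map_comp, F.map_preimage, F.map_id, Category.assoc]
  show e.hom ≫ s ≫ T.g = _
  rw [hs, Iso.hom_inv_id]
  rfl

include hdim in
/-- The saturation of a line submodule, with the bound on its degree for indecomposable bundles. -/
theorem exists_saturation {E : X.Modules} (hE : FlatMod.IsFinLocFreeOfRank 2 E)
    {F : X.Modules} (i : F ⟶ E) [Mono i] (hF : FlatMod.IsFinLocFreeOfRank 1 F) :
    ∃ (L Q : X.Modules) (j : L ⟶ E), Mono j ∧ PicF.IsInvertible L ∧ PicF.IsInvertible Q ∧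
      Curv2.deg k X F 1 ≤ Curv2.deg k X L 1 ∧
      Curv2.deg k X L 1 + Curv2.deg k X Q 1 = Curv2.deg k X E 2 ∧
      ((∀ L₁ L₂ : X.Modules, PicF.IsInvertible L₁ → PicF.IsInvertible L₂ → IsEmpty (E ≅ L₁ ⊞ L₂)) →
        Curv2.deg k X L 1 - Curv2.deg k X Q 1 ≤ 2 * (Curv2.genus k X : ℤ) - 2) := by
  have hFc := isCoh_of_rank hF
  have hEc := isCoh_of_rank hE
  obtain ⟨hCc, hCr, hCd⟩ := coker_add k i hFc hEc
  obtain ⟨Q, q, hq, hQc, hQf, hQr, hQd⟩ := exists_freeQuot k hdim.le hCc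
  haveI := hq
  rw [grk_of_rank hF, grk_of_rank hE] at hCr
  rw [show grk Q = 1 by omega] at hQf
  have hQi := isInvertible_of_rank hQf
  let π : E ⟶ Q := cokernel.π i ≫ q
  haveI : Epi π := epi_comp _ _
  obtain ⟨hKc, hKr, hKd⟩ := kernel_add k π hEc hQc
  rw [grk_of_rank hE, grk_of_rank hQf] at hKr
  have hKf := rank_of_mono (kernel.ι π) hKc hE
  rw [show grk (kernel π) = 1 by omega] at hKf
  have hKi := isInvertible_of_rank hKf
  rw [dg_eq k hE, dg_eq k hF] at hCd
  rw [dg_eq k hE, dg_eq k hKf, dg_eq k hQf] at hKd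
  rw [dg_eq k hQf] at hQd
  refine ⟨kernel π, Q, kernel.ι π, inferInstance, hKi, hQi, by omega, by omega, fun hind => ?_⟩
  obtain ⟨N, hN, ⟨ηN⟩⟩ := AmpleEmb.exists_isInverseOf hQi
  have hdN := CurveLib.deg_tensor_add (k := k) hdim.le hQi hN
  rw [CurveLib.deg_iso (k := k) ηN 1, CurveLib.deg_structureModule] at hdN
  have hdK := CurveLib.deg_tensor_add (k := k) hdim.le hN hKi
  by_contra hlt
  let T : ShortComplex X.Modules := ShortComplex.mk (kernel.ι π) π (kernel.condition π)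
  have hT : T.ShortExact :=
    ShortComplex.ShortExact.mk' (ShortComplex.exact_of_f_is_kernel _ (kernelIsKernel π)) inferInstance inferInstance
  have h1 : Subsingleton (Coh.HH X (CohB1.tensorMod N (kernel π)) 1) :=
    CurveFF.subsingleton_H1 (k := k) hdim (CurveFF.h0_eq_one k hdim) (AmpleLib.isInvertible_tensor hN hKi) (by omega)
  haveI := splitEpi_of_h1 k T hT hQi N ⟨AmpleLib.comm N Q ≪≫ ηN⟩ h1
  haveI : Mono T.f := hT.mono_f
  let sp : T.Splitting := ShortComplex.Splitting.ofExactOfSection T hT.exact (section_ T.g)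
    (IsSplitEpi.id T.g) inferInstance
  exact (hind _ _ hKi hQi).false sp.isoBinaryBiproduct

omit [IsAlgClosed k] in
include k in
/-- A section of a twist gives a line submodule. -/
theorem exists_line_of_section (hdim : topologicalKrullDim X ≤ 1) {E M : X.Modules} (hE : FlatMod.IsFinLocFreeOfRank 2 E)
    (hM : PicF.IsInvertible M) (h : Nontrivial (Coh.HH X (CohB1.tensorMod E M) 0)) :
    ∃ (G : X.Modules) (j : G ⟶ E), Mono j ∧ FlatMod.IsFinLocFreeOfRank 1 G ∧
      Curv2.deg k X G 1 = - Curv2.deg k X M 1 := by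
  haveI := h
  obtain ⟨s, hs⟩ := CurveLib.exists_hom_ne_zero (CohB1.tensorMod E M)
  have hEM : Coh.IsCoh (CohB1.tensorMod E M) :=
    CurveLib.isCoh_tmod (isCoh_of_rank hE) (CurveLib.isCoh_of_isInvertible hM)
  obtain ⟨I, a, b, hb, ha, hab, hI, hK, h1, h2⟩ := exists_image k s (isCoh_structureModule X) hEM
  haveI := hb
  haveI := ha
  obtain ⟨G, j, e, hj, hG, -⟩ := exists_untwist hM b hI
  haveI := hj
  obtain ⟨o1, o2⟩ := dg_structureModule k (X := X)
  have hGr := rank_of_mono j hG hE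
  have hg0 : grk I = grk G := (grk_iso e).symm.trans (grk_twist hM G)
  have hG0 : grk G ≠ 0 := fun hz => hs (by
    rw [← hab, ((CurveLib.tensR M).map_isZero (isZero_of_mono j hG hE hz)).of_iso e.symm |>.eq_of_tgt a 0,
      zero_comp])
  have hK0 : grk (kernel s) = 0 := by omega
  have hz := isZero_of_mono (kernel.ι s) hK
    (CurveLib.isFinLocFreeOfRank_one ParaFLib.isInvertible_structureModule) hK0
  rw [show grk G = 1 by omega] at hGr
  refine ⟨G, j, hj, hGr, ?_⟩
  have hd2 : dg k I = dg k G + Curv2.deg k X M 1 := by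
    rw [← dg_iso k e, dg, grk_twist hM, dg_eq k hGr, show grk G = 1 by omega]
    refine (CurveLib.deg_tensor_invertible (k := k) hdim hGr hM).trans ?_
    simp
  rw [(dg_isZero k hz).2, o2, hd2, dg_eq k hGr] at h2
  omega

omit [IsAlgClosed k] in
include k in
/-- A normalised bundle has no line submodule of positive degree. -/
theorem deg_le_zero_of_sub (hdim : topologicalKrullDim X ≤ 1) {E L : X.Modules}
    (hneg : ∀ M : X.Modules, PicF.IsInvertible M → Curv2.deg k X M 1 < 0 → Subsingleton (Coh.HH X (CohB1.tensorMod E M) 0))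
    (hL : PicF.IsInvertible L) (j : L ⟶ E) [Mono j] : Curv2.deg k X L 1 ≤ 0 := by
  by_contra hpos
  obtain ⟨N, hN, ⟨η⟩⟩ := AmpleEmb.exists_isInverseOf hL
  have hd := CurveLib.deg_tensor_add (k := k) hdim hL hN
  rw [CurveLib.deg_iso (k := k) η 1, CurveLib.deg_structureModule] at hd
  haveI := hneg N hN (by omega)
  haveI := isEquivalence_tensR η
  haveI := isEquivalence_tensR (AmpleLib.comm N L ≪≫ η)
  let g : Coh.structureModule X ⟶ CohB1.tensorMod E N := η.inv ≫ (CurveLib.tensR N).map j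
  have hg : g = 0 := by
    rw [← AmpleLib.secHom_sec g, ← AmpleLib.secHom_sec (0 : Coh.structureModule X ⟶ CohB1.tensorMod E N)]
    exact congrArg _ ((CurveLib.secOf (CohB1.tensorMod E N)).symm.injective (Subsingleton.elim _ _))
  haveI : Mono g := mono_comp _ _
  have h1 : 𝟙 (Coh.structureModule X) = 0 := by rw [← cancel_mono g, hg, comp_zero, comp_zero]
  exact nonzero_of_rank k one_pos (CurveLib.isFinLocFreeOfRank_one ParaFLib.isInvertible_structureModule)
    ((IsZero.iff_id_eq_zero _).2 h1)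

include hdim in
/-- Invertible modules of every degree. -/
theorem exists_deg (n : ℤ) : ∃ N : X.Modules, PicF.IsInvertible N ∧ Curv2.deg k X N 1 = n := by
  obtain ⟨P, i, -, hP, hdP⟩ := exists_point_sub k (X := X) hdim
  obtain ⟨Q, hQ, ⟨η⟩⟩ := AmpleEmb.exists_isInverseOf hP
  have hdQ := CurveLib.deg_tensor_add (k := k) hdim.le hP hQ
  rw [CurveLib.deg_iso (k := k) η 1, CurveLib.deg_structureModule, hdP] at hdQ
  obtain ⟨m, rfl | rfl⟩ := n.eq_nat_or_neg
  · exact ⟨_, AmpleLib.isInvertible_tensorPow hQ m, by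
      rw [CurveLib.deg_tensorPow (k := k) hdim.le hQ m, show Curv2.deg k X Q 1 = 1 by omega, mul_one]⟩
  · exact ⟨_, AmpleLib.isInvertible_tensorPow hP m, by
      rw [CurveLib.deg_tensorPow (k := k) hdim.le hP m, hdP]; ring⟩

include hdim in
/-- A twist of large degree has a section. -/
theorem nontrivial_H0_of_deg {E M : X.Modules} (hE : FlatMod.IsFinLocFreeOfRank 2 E) (hM : PicF.IsInvertible M)
    (h : 2 * (Curv2.genus k X : ℤ) - 1 ≤ Curv2.deg k X E 2 + 2 * Curv2.deg k X M 1) :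
    Nontrivial (Coh.HH X (CohB1.tensorMod E M) 0) := by
  have h1 := CurveLib.deg_tensor_invertible (k := k) hdim.le hE hM
  rw [Curv2.deg, CurveLib.euler_eq_sub (k := k) hdim.le, CurveLib.euler_eq_sub (k := k) hdim.le,
    CurveLib.finrank_H0_structure] at h1
  refine Module.nontrivial_of_finrank_pos (R := k) ?_
  change 0 < Module.finrank k (Coh.HH X (DCohLib.tmod E M) 0)
  rw [Curv2.genus] at h
  push_cast at h h1
  omega

include hdim in
/-- The line subbundle of a normalised bundle through a section. -/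
theorem exists_trivial_sub {E : X.Modules} (hE : FlatMod.IsFinLocFreeOfRank 2 E) (hn0 : Nontrivial (Coh.HH X E 0))
    (hneg : ∀ M : X.Modules, PicF.IsInvertible M → Curv2.deg k X M 1 < 0 → Subsingleton (Coh.HH X (CohB1.tensorMod E M) 0)) :
    ∃ (L Q : X.Modules) (j : L ⟶ E), Mono j ∧ PicF.IsInvertible L ∧ PicF.IsInvertible Q ∧
      Curv2.deg k X L 1 = 0 ∧ Curv2.deg k X L 1 + Curv2.deg k X Q 1 = Curv2.deg k X E 2 ∧
      ((∀ L₁ L₂ : X.Modules, PicF.IsInvertible L₁ → PicF.IsInvertible L₂ → IsEmpty (E ≅ L₁ ⊞ L₂)) →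
        Curv2.deg k X L 1 - Curv2.deg k X Q 1 ≤ 2 * (Curv2.genus k X : ℤ) - 2) := by
  haveI := hn0
  have hn : Nontrivial (Coh.HH X (CohB1.tensorMod E (Coh.structureModule X)) 0) :=
    (CurveLib.hMap_bijective_iso (k := k) (DCohLib.tensorStructureIso E) 0).2.nontrivial
  obtain ⟨G, j₀, hj₀, hG, hdG⟩ := exists_line_of_section k hdim.le hE ParaFLib.isInvertible_structureModule hn
  rw [CurveLib.deg_structureModule, neg_zero] at hdG
  haveI := hj₀
  obtain ⟨L, Q, j, hj, hL, hQ, hle, hsum, hb⟩ := exists_saturation k hdim hE j₀ hG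
  haveI := hj
  have := deg_le_zero_of_sub k hdim.le hneg hL j
  exact ⟨L, Q, j, hj, hL, hQ, by omega, hsum, hb⟩

include hdim in
/-- The degree of a normalised bundle is at most `2g`. -/
theorem deg_le {E : X.Modules} (hE : FlatMod.IsFinLocFreeOfRank 2 E)
    (hneg : ∀ M : X.Modules, PicF.IsInvertible M → Curv2.deg k X M 1 < 0 → Subsingleton (Coh.HH X (CohB1.tensorMod E M) 0)) :
    Curv2.deg k X E 2 ≤ 2 * (Curv2.genus k X : ℤ) := by
  by_contra h
  obtain ⟨M, hM, hdM⟩ := exists_deg k (X := X) hdim (-1)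
  haveI := hneg M hM (by omega)
  haveI := nontrivial_H0_of_deg k hdim hE hM (by omega)
  exact false_of_nontrivial_of_subsingleton (Coh.HH X (CohB1.tensorMod E M) 0)

include hdim in
/-- Line subbundles of indecomposable bundles. -/
theorem line_bounds {E : X.Modules} (hE : FlatMod.IsFinLocFreeOfRank 2 E)
    (hind : ∀ L₁ L₂ : X.Modules, PicF.IsInvertible L₁ → PicF.IsInvertible L₂ → IsEmpty (E ≅ L₁ ⊞ L₂)) :
    (∀ (L : X.Modules) (ι : L ⟶ E), PicF.IsInvertible L → Mono ι →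
        2 * Curv2.deg k X L 1 ≤ Curv2.deg k X E 2 + 2 * (Curv2.genus k X : ℤ) - 2) ∧
      ∃ (L : X.Modules) (ι : L ⟶ E), PicF.IsInvertible L ∧ Mono ι ∧
        Curv2.deg k X E 2 - 2 * (Curv2.genus k X : ℤ) ≤ 2 * Curv2.deg k X L 1 := by
  refine ⟨fun L ι hL hι => ?_, ?_⟩
  · haveI := hι
    obtain ⟨L', Q, j, -, -, -, hle, hsum, hb⟩ := exists_saturation k hdim hE ι (CurveLib.isFinLocFreeOfRank_one hL)
    have := hb hind
    omega
  · set d := Curv2.deg k X E 2
    set g : ℤ := (Curv2.genus k X : ℤ) with hg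
    obtain ⟨m, hm1, hm2⟩ : ∃ m : ℤ, 2 * g - 1 ≤ d + 2 * m ∧ 2 * m ≤ 2 * g - d :=
      ⟨(2 * g - d) / 2, by omega, by omega⟩
    obtain ⟨M, hM, hdM⟩ := exists_deg k (X := X) hdim m
    obtain ⟨G, j, hj, hG, hdG⟩ := exists_line_of_section k hdim.le hE hM
      (nontrivial_H0_of_deg k hdim hE hM (by rw [hdM, ← hg]; exact hm1))
    exact ⟨G, j, isInvertible_of_rank hG, hj, by rw [hdG, hdM]; omega⟩

include hdim in
/-- A normalised decomposable bundle is `O ⊕ L` with `deg L ≤ 0`. -/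
theorem exists_sum_trivial {E L₁ L₂ : X.Modules} (hL₁ : PicF.IsInvertible L₁) (hL₂ : PicF.IsInvertible L₂)
    (e : E ≅ L₁ ⊞ L₂) (hn0 : Nontrivial (Coh.HH X E 0))
    (hneg : ∀ M : X.Modules, PicF.IsInvertible M → Curv2.deg k X M 1 < 0 → Subsingleton (Coh.HH X (CohB1.tensorMod E M) 0)) :
    ∃ L : X.Modules, PicF.IsInvertible L ∧ Curv2.deg k X L 1 ≤ 0 ∧ Nonempty (E ≅ Coh.structureModule X ⊞ L) := by
  have h₁ : Curv2.deg k X L₁ 1 ≤ 0 := deg_le_zero_of_sub k hdim.le hneg hL₁ (biprod.inl ≫ e.inv)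
  have h₂ : Curv2.deg k X L₂ 1 ≤ 0 := deg_le_zero_of_sub k hdim.le hneg hL₂ (biprod.inr ≫ e.inv)
  haveI := hn0
  obtain ⟨s, hs⟩ := CurveLib.exists_hom_ne_zero E
  by_cases hs₁ : s ≫ e.hom ≫ biprod.fst = 0
  · have hs₂ : s ≫ e.hom ≫ biprod.snd ≠ 0 := fun h => hs (by
      rw [← cancel_mono e.hom, zero_comp]
      apply biprod.hom_ext
      · rw [Category.assoc, hs₁, zero_comp]
      · rw [Category.assoc, h, zero_comp])
    obtain ⟨θ⟩ := CurveLib.nonempty_iso_structureModule (k := k) hdim.le hL₂ _ hs₂ h₂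
    exact ⟨L₁, hL₁, h₁, ⟨e ≪≫ biprod.braiding L₁ L₂ ≪≫ biprod.mapIso θ (Iso.refl _)⟩⟩
  · obtain ⟨θ⟩ := CurveLib.nonempty_iso_structureModule (k := k) hdim.le hL₁ _ hs₁ h₁
    exact ⟨L₂, hL₂, h₂, ⟨e ≪≫ biprod.mapIso θ (Iso.refl _)⟩⟩

end Groth.Agent.VBLib.RankTwo
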