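import Groth.Agent.VBLib.SlopeVanish
import Groth.Agent.KRRAmple.Basic

/-!
# Vanishing and generation of twists under bounds on submodules or quotients
-/

set_option autoImplicit false
set_option backward.isDefEq.respectTransparency false
set_option linter.style.haveILetI false
set_option maxHeartbeats 1000000

universe u

open CategoryTheory CategoryTheory.Limits AlgebraicGeometry TopologicalSpace
open Groth.Agent.PullbackMod Groth.Agent.DevLib Groth.Agent.QCohLib

noncomputable section

namespace Groth.Agent.VBLib.Dual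

variable (k : Type u) [Field k] {X : Scheme.{u}} [X.Over (Spec (CommRingCat.of k))]
  [IsProper (X ↘ Spec (CommRingCat.of k))] [IsAlgClosed k] [IsIntegral X] [IsNoetherian X] [IsRegCurve X]
  (hdim : topologicalKrullDim X = 1)

include k hdim in
/-- `H¹` of a twist vanishes when the submodules are bounded. -/
theorem subsingleton_H1_twist_of_bound {r : ℕ} {E : X.Modules} (hE : FlatMod.IsFinLocFreeOfRank r E) (C : ℤ)
    (hC : ∀ (G : X.Modules) (n : ℕ) (j : G ⟶ E), Mono j → 0 < n → FlatMod.IsFinLocFreeOfRank n G →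
      Curv2.deg k X G n * (r : ℤ) ≤ (Curv2.deg k X E r + (r : ℤ) * C) * (n : ℤ))
    {N : X.Modules} (hN : PicF.IsInvertible N)
    (hbig : (r : ℤ) * ((r : ℤ) - 1) * C + (r : ℤ) * (2 * (Curv2.genus k X : ℤ) - 2) <
      Curv2.deg k X E r + (r : ℤ) * Curv2.deg k X N 1) :
    Subsingleton (Coh.HH X (CohB1.tensorMod E N) 1) := by
  by_contra h
  obtain ⟨K, j, hj, hr, hK, hK1, hd⟩ := exists_sub_of_H1 k hdim (isFinLocFreeOfRank_twist hE hN) h
  haveI := hj
  have hT := CurveLib.deg_tensor_invertible (k := k) hdim.le hE hN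
  change Curv2.deg k X (CohB1.tensorMod E N) r = _ at hT
  rw [hT] at hd
  rcases Nat.eq_zero_or_pos (r - 1) with h0 | h0
  · obtain rfl : r = 1 := by omega
    have := hK1 rfl
    push_cast at hbig hd
    linarith
  · obtain ⟨G, i, hi, hG, hdG⟩ := exists_untwist_deg k hdim.le hE hN j hK
    have h2 := hC G (r - 1) i hi h0 hG
    rw [hdG, Nat.cast_sub hr, Nat.cast_one] at hd
    rw [Nat.cast_sub hr, Nat.cast_one] at h2
    nlinarith [mul_le_mul_of_nonneg_right hd (Int.natCast_nonneg r)]

include k hdim in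
/-- Twists of a module with nonnegative invertible quotients by degree at least `2g` are generated. -/
theorem isGloballyGenerated_twist_of_quot {r : ℕ} {E : X.Modules} (hE : FlatMod.IsFinLocFreeOfRank r E)
    (hq : ∀ (M : X.Modules), PicF.IsInvertible M → ∀ (q : E ⟶ M), Epi q → 0 ≤ Curv2.deg k X M 1)
    {H : X.Modules} (hH : PicF.IsInvertible H) (hdeg : 2 * (Curv2.genus k X : ℤ) ≤ Curv2.deg k X H 1) :
    Curv2.IsGloballyGenerated (CohB1.tensorMod E H) := by
  refine isGloballyGenerated_of_H1 k hdim (isFinLocFreeOfRank_twist hE hH) fun P hP hdP => ?_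
  by_contra h
  let R := CohB1.tensorMod H P
  have hR : PicF.IsInvertible R := AmpleLib.isInvertible_tensor hH hP
  have hdR : Curv2.deg k X R 1 = Curv2.deg k X H 1 + Curv2.deg k X P 1 := CurveLib.deg_tensor_add hdim.le hH hP
  have hW := isFinLocFreeOfRank_twist (isFinLocFreeOfRank_twist hE hH) hP
  obtain ⟨φ, hφ⟩ := exists_hom_ne_zero k hdim hW h
  have hΩ := CurveFF.omega_invertible k (X := X) hdim
  have hΩr := CurveLib.isFinLocFreeOfRank_one hΩ
  obtain ⟨I, a, b, hb, ha, hab, hI, -, -, -⟩ :=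
    exists_image k φ (isCoh_of_rank hW) (CurveLib.isCoh_of_isInvertible hΩ)
  haveI := hb
  haveI := ha
  have hI0 : grk I ≠ 0 := fun hz => hφ (by
    rw [← hab, (isZero_of_mono b hI hΩr hz).eq_of_tgt a 0, zero_comp])
  have hIr := rank_of_mono b hI hΩr
  obtain ⟨-, hr', -⟩ := coker_add k b hI (CurveLib.isCoh_of_isInvertible hΩ)
  rw [grk_of_rank hΩr] at hr'
  rw [show grk I = 1 by omega] at hIr
  have hle := (dg_le_of_mono k hdim.le b hI (CurveLib.isCoh_of_isInvertible hΩ)
    (by rw [grk_of_rank hΩr, grk_of_rank hIr])).1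
  rw [dg_eq k hΩr, CurveFF.omega_deg k hdim, dg_eq k hIr] at hle
  obtain ⟨N, hN, ⟨η⟩⟩ := AmpleEmb.exists_isInverseOf hR
  haveI := isEquivalence_tensR (AmpleLib.comm N R ≪≫ η)
  let e : CohB1.tensorMod E R ≅ CohB1.tensorMod (CohB1.tensorMod E H) P :=
    ((ModTensor.tensorAssoc X.sheaf H P).app E).symm
  let q : E ⟶ CohB1.tensorMod I N := (untwist η).inv.app E ≫ (CurveLib.tensR N).map (e.hom ≫ a)
  have hIi := isInvertible_of_rank hIr
  have hM := AmpleLib.isInvertible_tensor hIi hN
  have h1 : Curv2.deg k X (CohB1.tensorMod I N) 1 = Curv2.deg k X I 1 + Curv2.deg k X N 1 :=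
    CurveLib.deg_tensor_add hdim.le hIi hN
  have h2 : Curv2.deg k X (CohB1.tensorMod R N) 1 = Curv2.deg k X R 1 + Curv2.deg k X N 1 :=
    CurveLib.deg_tensor_add hdim.le hR hN
  rw [CurveLib.deg_iso (k := k) η 1, CurveLib.deg_structureModule] at h2
  haveI : Epi (e.hom ≫ a) := epi_comp _ _
  haveI : Epi ((CurveLib.tensR N).map (e.hom ≫ a)) := inferInstance
  have := hq _ hM q (epi_comp _ _)
  linarith

end Groth.Agent.VBLib.Dual
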