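import Groth.Agent.VBLib.DualDeg
import Groth.Agent.VBLib.SlopeNef
import Groth.Agent.VBLib.ExtTF
import Groth.Agent.VBLib.H0Semistable
import Groth.Agent.VBLib.RankTwoGen

/-!
# Homomorphisms of bundles as sections, extensions on a curve, biduality
-/

set_option autoImplicit false
set_option backward.isDefEq.respectTransparency false
set_option linter.style.haveILetI false
set_option maxHeartbeats 1000000

universe u

open CategoryTheory CategoryTheory.Limits AlgebraicGeometry TopologicalSpace Opposite MonoidalCategory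
open Groth.Agent.PullbackMod Groth.Agent.DevLib Groth.Agent.QCohLib Groth.Agent.DCohLib
open Groth.Agent.VBLib.DualDeg
open scoped TensorProduct

noncomputable section

namespace Groth.Agent.VBLib.HomPair

variable {X : Scheme.{u}}

local instance hasHF (M : X.Modules) : ModSite.HasSheafHom (O := X.sheaf) M :=
  ModTensor.hasSheafHom (O := X.sheaf) M

theorem tmodComm_pairS (M N : X.Modules) {U : X.Opens} (m : Γ(M, U)) (n : Γ(N, U)) :
    (CurveLib.tmodComm M N).hom.app U (pairS M N m n) = pairS N M n m :=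
  (congr(($(ModTensor.shUnit_naturality X.sheaf
    (β_ (ModTensor.pre X.sheaf M) (ModTensor.pre X.sheaf N)).hom)).app (op U) (m ⊗ₜ[Γ(X, U)] n))).symm

theorem tmodComm_stalk (M N : X.Modules) (x : X) (a : M.presheaf.stalk x) (b : N.presheaf.stalk x) :
    stalkLin (CurveLib.tmodComm M N).hom x (stalkTensor x M N (a ⊗ₜ b)) = stalkTensor x N M (b ⊗ₜ a) := by
  obtain ⟨U, hx, m, n, rfl, rfl⟩ := exists_common_germ x a b
  show stalkLin _ x (stalkTensorHom x _) = stalkTensorHom x _
  rw [stalkTensorHom_tmul, stalkTensorHom_tmul]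
  exact (stalkLin_germ _ _ _ _).trans (congrArg _ (tmodComm_pairS M N m n))

/-- The tensor product of locally free modules. -/
theorem rank_tensor {a b : ℕ} {A B : X.Modules} (hA : FlatMod.IsFinLocFreeOfRank a A)
    (hB : FlatMod.IsFinLocFreeOfRank b B) [IsLocallyNoetherian X] :
    FlatMod.IsFinLocFreeOfRank (a * b) (tmod A B) := by
  have hc : Coh.IsCoh (tmod A B) := CurveLib.isCoh_tmod (CurveLib.isCoh_of_isFinLocFree (flf_of_rank hA))
    (CurveLib.isCoh_of_isFinLocFree (flf_of_rank hB))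
  haveI := hc.1
  rw [isFinLocFreeOfRank_iff_freeAt (tmod A B) (QCohLib.isFP_of_isCoh _ hc)]
  intro x
  obtain ⟨eA⟩ := CurveLib.freeAt_of_isFinLocFreeOfRank hA x
  obtain ⟨eB⟩ := CurveLib.freeAt_of_isFinLocFreeOfRank hB x
  let R := X.presheaf.stalk x
  exact ⟨(stalkTensor x A B).symm.trans ((TensorProduct.congr eA eB).trans
    (((Pi.basisFun R (Fin a)).tensorProduct (Pi.basisFun R (Fin b))).equivFun.trans
      (LinearEquiv.funCongrLeft R R finProdFinEquiv.symm)))⟩

/-- A section of `F ⊗ Qᵛ` as a map `Q ⟶ F`. -/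
def toHom (Q : X.Modules) {F : X.Modules} (s : Coh.structureModule X ⟶ tmod F (dd Q)) : Q ⟶ F :=
  (CurveLib.tmodUnit Q).inv ≫
    ((ModSite.sheafHomAdj (O := X.sheaf) Q).homEquiv (Coh.structureModule X) F).symm (s ≫ LocFreeHomLib.alpha Q F)

theorem toHom_natural {Q F F' : X.Modules} (s : Coh.structureModule X ⟶ tmod F (dd Q)) (g : F ⟶ F') :
    toHom Q (s ≫ (CurveLib.tensR (dd Q)).map g) = toHom Q s ≫ g := by
  rw [toHom, toHom, Category.assoc, Category.assoc,
    show (CurveLib.tensR (dd Q)).map g ≫ LocFreeHomLib.alpha Q F' =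
      LocFreeHomLib.alpha Q F ≫ (StalkHomLib.hF Q).map g from
      LocFreeHomLib.alpha_natural Q g]
  refine congrArg ((CurveLib.tmodUnit Q).inv ≫ ·) ?_
  refine Eq.trans (congrArg _ (Category.assoc _ _ _).symm) ?_
  exact (ModSite.sheafHomAdj (O := X.sheaf) Q).homEquiv_naturality_right_symm _ _

theorem toHom_bijective {n : ℕ} {Q : X.Modules} (hQ : FlatMod.IsFinLocFreeOfRank n Q) (F : X.Modules) :
    Function.Bijective (toHom Q (F := F)) := by
  haveI := LocFreeHomLib.isIso_alpha Q (flf_of_rank hQ) F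
  let e : (Coh.structureModule X ⟶ tmod F (dd Q)) ≃ (Q ⟶ F) :=
    (Iso.homCongr (Iso.refl _) (asIso (LocFreeHomLib.alpha Q F))).trans
      ((((ModSite.sheafHomAdj (O := X.sheaf) Q).homEquiv (Coh.structureModule X) F).symm).trans
        (Iso.homCongr (CurveLib.tmodUnit Q) (Iso.refl F)))
  have he : ∀ s, toHom Q s = e s := fun s => by simp [e, toHom]
  rw [show toHom Q (F := F) = e from funext he]
  exact e.bijective

theorem toHom_zero (Q F : X.Modules) : toHom Q (0 : Coh.structureModule X ⟶ tmod F (dd Q)) = 0 := by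
  haveI : ((DCoh.tensorBi (X := X)).flip.obj Q).Additive := ModTensor.additive_tensorBi_flip X.sheaf Q
  rw [toHom, zero_comp, Adjunction.homEquiv_counit, Functor.map_zero, zero_comp, comp_zero]

/-- The map to the bidual. -/
def bidual (E : X.Modules) : E ⟶ dd (dd E) :=
  (ModSite.sheafHomAdj (O := X.sheaf) (dd E)).homEquiv E (Coh.structureModule X)
    ((CurveLib.tmodComm E (dd E)).hom ≫ StalkHomLib.ev E (Coh.structureModule X))

theorem isIso_bidual {n : ℕ} {E : X.Modules} (hE : FlatMod.IsFinLocFreeOfRank n E) : IsIso (bidual E) := by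
  refine (isIso_iff_stalk _).2 fun x => ?_
  let R := X.presheaf.stalk x
  obtain ⟨eE⟩ := CurveLib.freeAt_of_isFinLocFreeOfRank hE x
  haveI : Module.Free R (E.presheaf.stalk x) := Module.Free.of_equiv eE.symm
  haveI : Module.Finite R (E.presheaf.stalk x) := Module.Finite.equiv eE.symm
  let one := oneEquiv (X := X) x
  let e₁ : (dd E).presheaf.stalk x ≃ₗ[R] Module.Dual R (E.presheaf.stalk x) :=
    (ddEquiv hE x).trans (LinearEquiv.congrRight one.symm)
  let e₂ : (dd (dd E)).presheaf.stalk x ≃ₗ[R] Module.Dual R ((dd E).presheaf.stalk x) :=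
    (ddEquiv (rank_dd hE) x).trans (LinearEquiv.congrRight one.symm)
  have key : ∀ (b : E.presheaf.stalk x) (d : (dd E).presheaf.stalk x),
      e₂ (stalkLin (bidual E) x b) d = e₁ d b := by
    intro b d
    show one.symm (StalkHomLib.theta (dd E) (Coh.structureModule X) x (stalkLin (bidual E) x b) d) =
      one.symm (StalkHomLib.theta E (Coh.structureModule X) x d b)
    refine congrArg _ ?_
    rw [StalkHomLib.theta_transpose]
    rw [show ((ModSite.sheafHomAdj (O := X.sheaf) (dd E)).homEquiv E (Coh.structureModule X)).symm (bidual E) =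
      (CurveLib.tmodComm E (dd E)).hom ≫ StalkHomLib.ev E (Coh.structureModule X) from Equiv.symm_apply_apply _ _]
    refine (LinearMap.congr_fun (stalkLin_comp _ _ x) _).trans ?_
    exact congrArg (stalkLin (StalkHomLib.ev E (Coh.structureModule X)) x) (tmodComm_stalk E (dd E) x b d)
  let e : E.presheaf.stalk x ≃ₗ[R] (dd (dd E)).presheaf.stalk x :=
    (Module.evalEquiv R (E.presheaf.stalk x)).trans (e₁.dualMap.trans e₂.symm)
  have he : ∀ b, stalkLin (bidual E) x b = e b := fun b => by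
    refine e₂.injective (LinearMap.ext fun d => ?_)
    rw [key]
    simp [e]
  rw [show ⇑(stalkLin (bidual E) x) = ⇑e from funext he]
  exact e.bijective

/-- A map out of `A ⊗ Bᵛ` gives a map `A ⟶ B`. -/
theorem exists_map_of_dual_map {n : ℕ} {A B : X.Modules} (hB : FlatMod.IsFinLocFreeOfRank n B)
    {φ : tmod A (dd B) ⟶ Coh.structureModule X} (hφ : φ ≠ 0) : ∃ ψ : A ⟶ B, ψ ≠ 0 := by
  haveI := isIso_bidual hB
  haveI : ((DCoh.tensorBi (X := X)).flip.obj (dd B)).Additive := ModTensor.additive_tensorBi_flip X.sheaf (dd B)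
  let adj := ModSite.sheafHomAdj (O := X.sheaf) (dd B)
  refine ⟨adj.homEquiv A (Coh.structureModule X) φ ≫ inv (bidual B), fun h => hφ ?_⟩
  have h' : adj.homEquiv A (Coh.structureModule X) φ = 0 := by
    rw [← cancel_mono (inv (bidual B)), h, zero_comp]
  rw [← (adj.homEquiv A (Coh.structureModule X)).symm_apply_apply φ, h', adj.homEquiv_counit,
    Functor.map_zero, zero_comp]

variable (k : Type u) [Field k] [X.Over (Spec (CommRingCat.of k))]
  [IsProper (X ↘ Spec (CommRingCat.of k))] [IsIntegral X] [IsNoetherian X] [IsRegCurve X]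

open H0SS in
include k in
/-- An extension whose class space vanishes splits. -/
theorem isSplitEpi_of_subsingleton {a b : ℕ} {S : ShortComplex X.Modules} (hS : S.ShortExact)
    (h₁ : FlatMod.IsFinLocFreeOfRank a S.X₁) (h₃ : FlatMod.IsFinLocFreeOfRank b S.X₃)
    (h : Subsingleton (Coh.HH X (tmod S.X₁ (dd S.X₃)) 1)) : IsSplitEpi S.g := by
  let T := S.map (CurveLib.tensR (dd S.X₃))
  have hT : T.ShortExact :=
    CurveLib.shortExact_tensR hS (CurveLib.freeAt_of_isFinLocFreeOfRank (rank_dd h₃))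
  obtain ⟨s, hs⟩ := (toHom_bijective h₃ S.X₃).2 (𝟙 S.X₃)
  let c : Coh.HH X T.X₃ 0 := (CurveLib.secOf T.X₃).symm (AmpleLib.sec s)
  have hc : sH c = s := by rw [sH, AddEquiv.apply_symm_apply, AmpleLib.secHom_sec]
  haveI : Subsingleton (Coh.HH X T.X₁ 1) := h
  obtain ⟨d, hd⟩ : c ∈ LinearMap.range (CurveLib.hMap (k := k) T.g 0) :=
    (CurveLib.range_hMap_g (k := k) hT 0).ge (LinearMap.mem_ker.2 (Subsingleton.elim _ _))
  refine ⟨⟨⟨toHom S.X₃ (sH d), ?_⟩⟩⟩
  rw [← toHom_natural]
  exact (congrArg (toHom S.X₃) ((sH_hMap k T.g d).symm.trans ((congrArg sH hd).trans hc))).trans hs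

variable [IsAlgClosed k] (hdim : topologicalKrullDim X = 1)

include k hdim in
/-- A twist of large degree has no `H¹` and a section. -/
theorem exists_big_twist {n : ℕ} {W : X.Modules} (hW : FlatMod.IsFinLocFreeOfRank n W) :
    ∃ (N : X.Modules) (j : Coh.structureModule X ⟶ N), PicF.IsInvertible N ∧ Mono j ∧
      Subsingleton (Coh.HH X (CohB1.tensorMod W N) 1) := by
  obtain ⟨M, hM⟩ := bddAbove_dg k hdim.le (isCoh_of_rank hW)
  let C : ℤ := |M| + |Curv2.deg k X W n|
  let d : ℤ := 2 * (Curv2.genus k X : ℤ) + (n : ℤ) * C + C + 1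
  obtain ⟨N, hN, hdN⟩ := RankTwo.exists_deg k hdim d
  have hC0 : 0 ≤ C := by positivity
  have hn0 : (0 : ℤ) ≤ n := Int.natCast_nonneg _
  have hd0 : (Curv2.genus k X : ℤ) < d := by
    have := mul_nonneg hn0 hC0
    have := Int.natCast_nonneg (Curv2.genus k X)
    omega
  have hχ : Curv2.euler k X N = d + (1 - (Curv2.genus k X : ℤ)) := by
    have hO : Curv2.euler k X (Coh.structureModule X) = 1 - (Curv2.genus k X : ℤ) := by
      rw [CurveLib.euler_eq_sub (k := k) hdim.le, CurveLib.finrank_H0_structure]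
      rfl
    rw [← hO, ← hdN, Curv2.deg]
    ring
  haveI : Nontrivial (Coh.HH X N 0) := Module.nontrivial_of_finrank_pos (R := k) (by
    have := euler_le_finrank k hdim.le N
    omega)
  obtain ⟨j, hj⟩ := CurveLib.exists_hom_ne_zero N
  refine ⟨N, j, hN, CurveLib.mono_of_ne_zero ParaFLib.isInvertible_structureModule hN hj, ?_⟩
  rcases Nat.eq_zero_or_pos n with rfl | hn
  · by_contra hne
    obtain ⟨φ, hφ⟩ := Dual.exists_hom_ne_zero k hdim (isFinLocFreeOfRank_twist hW hN) hne
    exact hφ ((isZero_of_mono (𝟙 _) (isCoh_of_rank (isFinLocFreeOfRank_twist hW hN))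
      (isFinLocFreeOfRank_twist hW hN) (grk_of_rank (isFinLocFreeOfRank_twist hW hN))).eq_of_src _ _)
  refine Dual.subsingleton_H1_twist_of_bound k hdim hW C (fun G r j' hj' hr hG => ?_) hN ?_
  · haveI := hj'
    have hMG := hM G j' hj' (isCoh_of_rank hG)
    rw [dg_eq k hG] at hMG
    have hn1 : (1 : ℤ) ≤ n := by exact_mod_cast hn
    have hr1 : (1 : ℤ) ≤ r := by exact_mod_cast hr
    have h1 : |M| * n ≤ Curv2.deg k X W n + n * C := by
      show |M| * n ≤ Curv2.deg k X W n + n * (|M| + |Curv2.deg k X W n|)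
      nlinarith [neg_abs_le (Curv2.deg k X W n), mul_le_mul_of_nonneg_right hn1 (abs_nonneg (Curv2.deg k X W n))]
    have h2 := mul_le_mul_of_nonneg_right (hMG.trans (le_abs_self M)) hn0
    have h3 := mul_le_mul_of_nonneg_left hr1 ((mul_nonneg (abs_nonneg M) hn0).trans h1)
    linarith
  · rw [hdN]
    have hn1 : (1 : ℤ) ≤ n := by exact_mod_cast hn
    have hlow : - C ≤ Curv2.deg k X W n := by
      show -(|M| + |Curv2.deg k X W n|) ≤ _
      linarith [neg_abs_le (Curv2.deg k X W n), abs_nonneg M]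
    have h4 := mul_le_mul_of_nonneg_right hn1 hC0
    show _ < _ + (n : ℤ) * (2 * (Curv2.genus k X : ℤ) + n * C + C + 1)
    nlinarith

open H0SS in
include k hdim in
/-- A nonsplit extension exists when the class space is nonzero. -/
theorem exists_nonsplit {a b : ℕ} {A B : X.Modules} (hA : FlatMod.IsFinLocFreeOfRank a A)
    (hB : FlatMod.IsFinLocFreeOfRank b B) (h : ¬ Subsingleton (Coh.HH X (tmod A (dd B)) 1)) :
    ∃ (E : X.Modules) (f : A ⟶ E) (g : E ⟶ B) (w : f ≫ g = 0),
      (ShortComplex.mk f g w).ShortExact ∧ FlatMod.IsFinLocFreeOfRank (a + b) E ∧ ¬ IsSplitEpi g := by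
  have hD := rank_dd hB
  obtain ⟨N, j, hN, hj, hH⟩ := exists_big_twist k hdim (rank_tensor hA hD)
  haveI := hj
  let A' := CohB1.tensorMod A N
  let ι : A ⟶ A' := (unitR (X := X)).inv.app A ≫ (tensL A).map j
  haveI : Mono ι := by
    haveI : Mono ((tensL A).map j) := (shortExact_tensL (cokerSeq_shortExact j) hA).mono_f
    exact mono_comp _ _
  let S : ShortComplex X.Modules := cokerSeq ι
  have hS : S.ShortExact := cokerSeq_shortExact ι
  let T := S.map (CurveLib.tensR (dd B))
  have hT : T.ShortExact := CurveLib.shortExact_tensR hS (CurveLib.freeAt_of_isFinLocFreeOfRank hD)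
  let e : T.X₂ ≅ CohB1.tensorMod (tmod A (dd B)) N :=
    (ModTensor.tensorAssoc X.sheaf N (dd B)).app A ≪≫ AmpleLib.tIso (Iso.refl A) (CurveLib.tmodComm N (dd B)) ≪≫
      ((ModTensor.tensorAssoc X.sheaf (dd B) N).app A).symm
  haveI : Subsingleton (Coh.HH X T.X₂ 1) := by
    haveI := hH
    exact (CurveLib.hMap_bijective_iso (k := k) e 1).1.subsingleton
  obtain ⟨c, hc⟩ : ∃ c : Coh.HH X T.X₃ 0, c ∉ LinearMap.range (CurveLib.hMap (k := k) T.g 0) := by
    by_contra hall
    push Not at hall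
    refine h ?_
    show Subsingleton (Coh.HH X T.X₁ 1)
    refine subsingleton_of_forall_eq 0 fun z => ?_
    obtain ⟨y, rfl⟩ : z ∈ LinearMap.range (CurveLib.hδ (k := k) hT 0) :=
      (CurveLib.range_hδ (k := k) hT 0).ge (LinearMap.mem_ker.2 (Subsingleton.elim _ _))
    exact LinearMap.mem_ker.1 ((CurveLib.range_hMap_g (k := k) hT 0).le (hall y))
  let ψ : B ⟶ cokernel ι := toHom B (sH c)
  have hψ : ¬ ∃ φ : B ⟶ A', φ ≫ cokernel.π ι = ψ := by
    rintro ⟨φ, hφ⟩
    obtain ⟨t, rfl⟩ := (toHom_bijective hB A').2 φ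
    rw [← toHom_natural] at hφ
    have h2 := (toHom_bijective hB (cokernel ι)).1 hφ
    refine hc ⟨(CurveLib.secOf T.X₂).symm (AmpleLib.sec t), sH_injective ?_⟩
    rw [sH_hMap, show sH ((CurveLib.secOf T.X₂).symm (AmpleLib.sec t)) = t by
      rw [sH, AddEquiv.apply_symm_apply, AmpleLib.secHom_sec]]
    exact h2
  let E := pullback (cokernel.π ι) ψ
  let g : E ⟶ B := pullback.snd _ _
  let f : A ⟶ E := pullback.lift ι 0 (by rw [cokernel.condition, zero_comp])
  have w : f ≫ g = 0 := pullback.lift_snd _ _ _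
  haveI : Mono f := by
    haveI : Mono (f ≫ pullback.fst (cokernel.π ι) ψ) := by rw [pullback.lift_fst]; infer_instance
    exact mono_of_mono f (pullback.fst _ _)
  haveI : Epi g := inferInstanceAs (Epi (pullback.snd _ _))
  have hker : IsLimit (KernelFork.ofι f w) := KernelFork.IsLimit.ofι' _ _ fun {W} l hl =>
    ⟨Abelian.monoLift ι (l ≫ pullback.fst _ _) (by
        rw [Category.assoc, pullback.condition, ← Category.assoc]
        exact (congrArg (· ≫ ψ) hl).trans zero_comp), by
      apply pullback.hom_ext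
      · rw [Category.assoc, pullback.lift_fst, Abelian.monoLift_comp]
      · rw [Category.assoc, pullback.lift_snd, comp_zero]; exact hl.symm⟩
  have hE : (ShortComplex.mk f g w).ShortExact :=
    ShortComplex.ShortExact.mk' (ShortComplex.exact_of_f_is_kernel _ hker) inferInstance inferInstance
  have hA'c : Coh.IsCoh A' := isCoh_of_rank (isFinLocFreeOfRank_twist hA hN)
  have hEc : Coh.IsCoh E := by
    let l : E ⟶ A' ⊞ B := biprod.lift (pullback.fst _ _) (pullback.snd _ _)
    haveI : Mono l := ⟨fun u v huv => pullback.hom_ext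
      (by simpa [l] using congrArg (· ≫ biprod.fst) huv) (by simpa [l] using congrArg (· ≫ biprod.snd) huv)⟩
    have hl : IsLimit (KernelFork.ofι l (show l ≫ biprod.desc (cokernel.π ι) (-ψ) = 0 by
        simp [l, biprod.lift_desc, pullback.condition])) :=
      KernelFork.IsLimit.ofι' _ _ fun {W} m hm => ⟨pullback.lift (m ≫ biprod.fst) (m ≫ biprod.snd) (by
          rw [biprod.desc_eq] at hm
          simp only [Preadditive.comp_add, Preadditive.comp_neg, ← Category.assoc] at hm
          exact add_neg_eq_zero.1 hm), by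
        apply biprod.hom_ext <;> simp [l]⟩
    exact ShStabLib.isCoh_of_iso ((kernelIsKernel (biprod.desc (cokernel.π ι) (-ψ))).conePointUniqueUpToIso hl)
      (isCoh_kernel_cokernel (biprod.desc (cokernel.π ι) (-ψ)) (DevLib.isCoh_biprod hA'c (isCoh_of_rank hB))
        (isCoh_kernel_cokernel ι (isCoh_of_rank hA) hA'c).2).1
  refine ⟨E, f, g, w, hE, rank_mid hE hA hB hEc, fun hsp => hψ ⟨section_ g ≫ pullback.fst _ _, ?_⟩⟩
  rw [Category.assoc, pullback.condition, ← Category.assoc]
  exact (congrArg (· ≫ ψ) (IsSplitEpi.id g)).trans (Category.id_comp _)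

end Groth.Agent.VBLib.HomPair
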