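import Groth.Agent.VBLib.Regular
import Groth.Agent.CurveLib.Finite
import Groth.Agent.DevLib.TFSub
/-!
Degrees of coherent modules on regular proper curves.
-/

set_option autoImplicit false
set_option backward.isDefEq.respectTransparency false
set_option linter.style.haveILetI false

universe u

open CategoryTheory CategoryTheory.Limits AlgebraicGeometry TopologicalSpace
open Groth.Agent.PullbackMod Groth.Agent.DevLib Groth.Agent.QCohLib

noncomputable section

namespace Groth.Agent.VBLib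

variable (k : Type u) [Field k] {X : Scheme.{u}} [X.Over (Spec (CommRingCat.of k))]
  [IsProper (X ↘ Spec (CommRingCat.of k))] [IsIntegral X]

/-- The degree of a coherent module, normalised by its generic rank. -/
def dg (M : X.Modules) : ℤ := Curv2.deg k X M (grk M)

omit [IsProper (X ↘ Spec (CommRingCat.of k))] in
theorem dg_eq {n : ℕ} {M : X.Modules} (hM : FlatMod.IsFinLocFreeOfRank n M) : dg k M = Curv2.deg k X M n := by
  rw [dg, grk_of_rank hM]

theorem dg_iso {M N : X.Modules} (e : M ≅ N) : dg k M = dg k N := by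
  rw [dg, dg, grk_iso e]
  exact CurveLib.deg_iso (k := k) e _

theorem dg_add [IsLocallyNoetherian X] {S : ShortComplex X.Modules} (hS : S.ShortExact) (h₁ : Coh.IsCoh S.X₁)
    (h₂ : Coh.IsCoh S.X₂) (h₃ : Coh.IsCoh S.X₃) : dg k S.X₂ = dg k S.X₁ + dg k S.X₃ :=
  CurveLib.deg_shortExact hS h₁ h₂ h₃ (grk_add hS h₁ h₃)

omit [X.Over (Spec (CommRingCat.of k))] [IsProper (X ↘ Spec (CommRingCat.of k))] [Field k] in
theorem isCoh_of_rank [IsLocallyNoetherian X] {n : ℕ} {M : X.Modules} (hM : FlatMod.IsFinLocFreeOfRank n M) :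
    Coh.IsCoh M :=
  CurveLib.isCoh_of_isFinLocFree fun x => by
    obtain ⟨U, hx, he⟩ := hM x
    exact ⟨U, n, hx, he⟩

variable (hdim : topologicalKrullDim X ≤ 1)

include hdim in
theorem dg_eq_finrank [IsLocallyNoetherian X] {M : X.Modules} (hM : Coh.IsCoh M) (h : grk M = 0) :
    dg k M = Module.finrank k (Coh.HH X M 0) ∧ topologicalKrullDim (CohB1.support M) ≤ 0 := by
  have hd : topologicalKrullDim (CohB1.support M) ≤ 0 :=
    CurveLib.dim_le_zero_of_notMem hdim (isClosed_support hM) (genericPoint_spec X) ((grk_eq_zero_iff hM).1 h)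
  refine ⟨?_, hd⟩
  rw [dg, h, Curv2.deg, CurveLib.euler_of_dim_le_zero (k := k) (isClosed_support hM) subset_rfl hd]
  simp

include hdim in
theorem dg_nonneg [IsLocallyNoetherian X] {M : X.Modules} (hM : Coh.IsCoh M) (h : grk M = 0) : 0 ≤ dg k M := by
  rw [(dg_eq_finrank k hdim hM h).1]
  exact Int.natCast_nonneg _

include hdim in
theorem isZero_of_dg_eq_zero [IsNoetherian X] {M : X.Modules} (hM : Coh.IsCoh M) (h : grk M = 0)
    (h0 : dg k M = 0) : IsZero M := by
  obtain ⟨he, hd⟩ := dg_eq_finrank k hdim hM h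
  haveI := EulerIneqLib.finite_HH (k := k) hM 0
  haveI : Subsingleton (Coh.HH X M 0) := by
    rw [← Module.finrank_zero_iff (R := k)]
    exact_mod_cast he.symm.trans h0
  exact isZero_of_support_empty (Set.eq_empty_of_forall_notMem fun x hx =>
    hx (CurveLib.subsingleton_stalk_of_H0 (isClosed_support hM) hd M subset_rfl x))

omit [Field k] [X.Over (Spec (CommRingCat.of k))] [IsProper (X ↘ Spec (CommRingCat.of k))] in
theorem isZero_of_grk_zero [IsLocallyNoetherian X] {M : X.Modules} (hM : Coh.IsCoh M)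
    (ht : IsTF (genericPoint X) M) (h : grk M = 0) : IsZero M := by
  haveI : Subsingleton (M.presheaf.stalk (genericPoint X)) := not_not.1 ((grk_eq_zero_iff hM).1 h)
  exact isZero_of_support_empty (Set.eq_empty_of_forall_notMem fun x hx => hx (subsingleton_of_forall_eq 0 fun z => by
    obtain ⟨V, hV, s, rfl⟩ := TopCat.Presheaf.exists_germ_eq M.presheaf z
    rw [ht V s fun _ => Subsingleton.elim _ _, map_zero]))

omit [Field k] [X.Over (Spec (CommRingCat.of k))] [IsProper (X ↘ Spec (CommRingCat.of k))] in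
/-- A coherent submodule of a finite locally free module is finite locally free. -/
theorem rank_of_mono [IsLocallyNoetherian X] [IsRegCurve X] {n : ℕ} {G E : X.Modules} (i : G ⟶ E) [Mono i]
    (hG : Coh.IsCoh G) (hE : FlatMod.IsFinLocFreeOfRank n E) : FlatMod.IsFinLocFreeOfRank (grk G) G :=
  haveI := (isCoh_of_rank hE).1
  rank_of_isTF hG (isTF_of_mono i (isTF_of_rank hE))

omit [Field k] [X.Over (Spec (CommRingCat.of k))] [IsProper (X ↘ Spec (CommRingCat.of k))] in
theorem isZero_of_mono [IsLocallyNoetherian X] {n : ℕ} {G E : X.Modules} (i : G ⟶ E) [Mono i]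
    (hG : Coh.IsCoh G) (hE : FlatMod.IsFinLocFreeOfRank n E) (h : grk G = 0) : IsZero G :=
  haveI := (isCoh_of_rank hE).1
  isZero_of_grk_zero hG (isTF_of_mono i (isTF_of_rank hE)) h

attribute [local irreducible] dg grk

variable {E F : X.Modules} [IsNoetherian X]

theorem coker_add (f : E ⟶ F) [Mono f] (hE : Coh.IsCoh E) (hF : Coh.IsCoh F) :
    Coh.IsCoh (cokernel f) ∧ grk F = grk E + grk (cokernel f) ∧ dg k F = dg k E + dg k (cokernel f) :=
  have hc := (isCoh_kernel_cokernel f hE hF).2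
  ⟨hc, grk_add (cokerSeq_shortExact f) hE hc, dg_add k (cokerSeq_shortExact f) hE hF hc⟩

/-- The kernel and the image of a map. -/
theorem exists_image (f : E ⟶ F) (hE : Coh.IsCoh E) (hF : Coh.IsCoh F) :
    ∃ (I : X.Modules) (p : E ⟶ I) (i : I ⟶ F), Mono i ∧ Epi p ∧ p ≫ i = f ∧ Coh.IsCoh I ∧
      Coh.IsCoh (kernel f) ∧ grk E = grk (kernel f) + grk I ∧ dg k E = dg k (kernel f) + dg k I := by
  have hK := (isCoh_kernel_cokernel f hE hF).1
  obtain ⟨hI, h1, h2⟩ := coker_add k (kernel.ι f) hK hE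
  exact ⟨cokernel (kernel.ι f), cokernel.π _, Abelian.factorThruCoimage f,
    inferInstanceAs (Mono (Abelian.factorThruCoimage f)), inferInstance, Abelian.coimage.fac f, hI, hK, h1, h2⟩

include hdim in
/-- An inclusion of full rank does not decrease the degree. -/
theorem dg_le_of_mono (f : E ⟶ F) [Mono f] (hE : Coh.IsCoh E) (hF : Coh.IsCoh F) (h : grk E = grk F) :
    dg k E ≤ dg k F ∧ (dg k F ≤ dg k E → IsIso f) := by
  obtain ⟨hc, h1, h2⟩ := coker_add k f hE hF
  have h0 := dg_nonneg k hdim hc (by omega)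
  refine ⟨by omega, fun hle => ?_⟩
  haveI := Preadditive.epi_of_isZero_cokernel f (isZero_of_dg_eq_zero k hdim hc (by omega) (by omega))
  exact isIso_of_mono_of_epi f

/-- All submodules have slope at most `d / r`. -/
def SlopeLE (E : X.Modules) (d : ℤ) (r : ℤ) : Prop :=
  ∀ (G : X.Modules) (i : G ⟶ E), Mono i → Coh.IsCoh G → 0 < grk G → dg k G * r ≤ d * grk G

/-- All submodules have slope less than `d / r`. -/
def SlopeLT (E : X.Modules) (d : ℤ) (r : ℤ) : Prop :=
  ∀ (G : X.Modules) (i : G ⟶ E), Mono i → Coh.IsCoh G → 0 < grk G → dg k G * r < d * grk G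

theorem slopeLE_of [IsRegCurve X] {n : ℕ} (hE : FlatMod.IsFinLocFreeOfRank n E) {d r : ℤ}
    (h : ∀ (G : X.Modules) (r' : ℕ) (i : G ⟶ E), Mono i → 0 < r' → FlatMod.IsFinLocFreeOfRank r' G →
      Curv2.deg k X G r' * r ≤ d * r') : SlopeLE k E d r :=
  fun G i hi hG hpos => by
    have hr := rank_of_mono i hG hE
    rw [dg_eq k hr]
    exact h G (grk G) i hi hpos hr

theorem slopeLT_of [IsRegCurve X] {n : ℕ} (hE : FlatMod.IsFinLocFreeOfRank n E) {d r : ℤ}
    (h : ∀ (G : X.Modules) (r' : ℕ) (i : G ⟶ E), Mono i → 0 < r' → FlatMod.IsFinLocFreeOfRank r' G →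
      Curv2.deg k X G r' * r < d * r') : SlopeLT k E d r :=
  fun G i hi hG hpos => by
    have hr := rank_of_mono i hG hE
    rw [dg_eq k hr]
    exact h G (grk G) i hi hpos hr

theorem dg_isZero {M : X.Modules} (hM : IsZero M) : grk M = 0 ∧ dg k M = 0 := by
  have hc := DevLib.isCoh_of_isZero hM
  have h : grk M = 0 := (grk_eq_zero_iff hc).2 fun h =>
    h (not_not.1 fun h' => by
      have e : stalkLin (𝟙 M) (genericPoint X) = stalkLin (0 : M ⟶ M) (genericPoint X) := by rw [hM.eq_of_src (𝟙 M) 0]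
      exact h' (subsingleton_of_forall_eq 0 fun z => by
        have := LinearMap.congr_fun e z
        rwa [stalkLin_id, DevLib.stalkLin_zero] at this))
  refine ⟨h, ?_⟩
  have h' := dg_add k (cokerSeq_shortExact (𝟙 M)) hc hc (isCoh_kernel_cokernel (𝟙 M) hc hc).2
  have h'' : dg k (cokernel (𝟙 M)) = dg k M := dg_iso k ((isZero_cokernel_of_epi (𝟙 M)).iso hM)
  change dg k M = dg k M + dg k (cokernel (𝟙 M)) at h'
  omega

/-- The numbers attached to a nonzero map out of a semistable module. -/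
theorem exists_image_slope {n m : ℕ} [IsRegCurve X] (hE : FlatMod.IsFinLocFreeOfRank n E)
    (hF : FlatMod.IsFinLocFreeOfRank m F) {f : E ⟶ F} (hf : f ≠ 0) (hss : SlopeLE k E (dg k E) n) :
    ∃ (I : X.Modules) (p : E ⟶ I) (i : I ⟶ F), Mono i ∧ Epi p ∧ p ≫ i = f ∧ Coh.IsCoh I ∧ 0 < grk I ∧
      dg k E * grk I ≤ dg k I * n ∧ grk I ≤ n := by
  have hEc := isCoh_of_rank hE
  have hFc := isCoh_of_rank hF
  obtain ⟨I, p, i, hi, hp, hpi, hI, hK, h1, h2⟩ := exists_image k f hEc hFc
  have hn : grk E = n := grk_of_rank hE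
  have hI0 : 0 < grk I := Nat.pos_of_ne_zero fun h0 => hf (by
    rw [← hpi, (isZero_of_mono i hI hF h0).eq_of_tgt p 0, zero_comp])
  refine ⟨I, p, i, hi, hp, hpi, hI, hI0, ?_, by omega⟩
  rcases Nat.eq_zero_or_pos (grk (kernel f)) with h0 | h0
  · have hz := (dg_isZero k (isZero_of_mono (kernel.ι f) hK hE h0)).2
    rw [h0, zero_add, hn] at h1
    rw [hz, zero_add] at h2
    rw [h2, h1]
  · have h := hss _ (kernel.ι f) inferInstance hK h0
    rw [h2] at h ⊢
    have hr : (n : ℤ) = grk (kernel f) + grk I := by exact_mod_cast hn.symm.trans h1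
    rw [hr] at h ⊢
    linarith

end Groth.Agent.VBLib
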