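import Groth.Agent.VBLib.SlopeVanish
import Groth.Agent.VBLib.Sub

/-!
# Slope semistability read off from the sections of a large twist
-/

set_option autoImplicit false
set_option backward.isDefEq.respectTransparency false
set_option linter.style.haveILetI false
set_option maxHeartbeats 1000000

universe u

open CategoryTheory CategoryTheory.Limits AlgebraicGeometry TopologicalSpace
open Groth.Agent.PullbackMod Groth.Agent.DevLib Groth.Agent.QCohLib
open scoped Polynomial

noncomputable section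

namespace Groth.Agent.VBLib.TwistH0

variable (k : Type u) [Field k] {X : Scheme.{u}} [X.Over (Spec (CommRingCat.of k))]
  [IsProper (X ↘ Spec (CommRingCat.of k))]

omit [IsProper (X ↘ Spec (CommRingCat.of k))] in
theorem finrank_iso {A B : X.Modules} (e : A ≅ B) (n : ℕ) :
    Module.finrank k (Coh.HH X A n) = Module.finrank k (Coh.HH X B n) :=
  (LinearEquiv.ofBijective _ (CurveLib.hMap_bijective_iso (k := k) e n)).finrank_eq

theorem finrank_le_of_mono [IsIntegral X] [AlgebraicGeometry.IsNoetherian X] {A B : X.Modules} (f : A ⟶ B) [Mono f] (hB : Coh.IsCoh B) :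
    Module.finrank k (Coh.HH X A 0) ≤ Module.finrank k (Coh.HH X B 0) :=
  finrank_H0_le_of_mono k f hB

variable [IsAlgClosed k] [IsIntegral X] [IsNoetherian X] [IsRegCurve X] (hdim : topologicalKrullDim X = 1)

attribute [local irreducible] dg grk

include k hdim in
/-- `h⁰ ≤ r m` when all submodules have slope less than `m`. -/
theorem finrank_H0_le_of_bound :
    ∀ (m : ℕ) (G : X.Modules) (r : ℕ), FlatMod.IsFinLocFreeOfRank r G →
      (∀ (H : X.Modules) (i : H ⟶ G), Mono i → Coh.IsCoh H → 0 < grk H → dg k H < m * grk H) →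
      Module.finrank k (Coh.HH X G 0) ≤ r * m := by
  intro m
  induction m with
  | zero =>
    intro G r hG hsub
    haveI : Subsingleton (Coh.HH X G 0) := by
      by_contra hne
      rw [not_subsingleton_iff_nontrivial] at hne
      obtain ⟨s, hs⟩ := CurveLib.exists_hom_ne_zero G
      have hOi := ParaFLib.isInvertible_structureModule (X := X)
      have hOr := CurveLib.isFinLocFreeOfRank_one hOi
      obtain ⟨I, a, b, hb, ha, hab, hI, hK, h1, h2⟩ := exists_image k s (isCoh_of_rank hOr) (isCoh_of_rank hG)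
      haveI := hb
      have hI0 : grk I ≠ 0 := fun hz => hs (by
        rw [← hab, (isZero_of_mono b hI hG hz).eq_of_tgt a 0, zero_comp])
      obtain ⟨hO1, hO2⟩ := dg_structureModule k (X := X)
      rw [hO1] at h1
      have hz := (dg_isZero k (isZero_of_mono (kernel.ι s) hK hOr (by omega))).2
      have := hsub I b hb hI (by omega)
      rw [hO2, hz] at h2
      push_cast at this
      omega
    simp [Module.finrank_zero_of_subsingleton]
  | succ m ih =>
    intro G r hG hsub
    obtain ⟨P, i, hi, hP, hdP⟩ := exists_point_sub k (X := X) hdim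
    haveI := hi
    let T : ShortComplex X.Modules := (cokerSeq i).map (CurveLib.tensR G)
    have hS : T.ShortExact :=
      CurveLib.shortExact_tensR (cokerSeq_shortExact i) (CurveLib.freeAt_of_isFinLocFreeOfRank hG)
    let e₁ : T.X₁ ≅ CohB1.tensorMod G P := CurveLib.tmodComm P G
    let e₂ : T.X₂ ≅ G := CurveLib.tmodUnit G
    have hGPr : FlatMod.IsFinLocFreeOfRank r (CohB1.tensorMod G P) := isFinLocFreeOfRank_twist hG hP
    have hGP : Coh.IsCoh (CohB1.tensorMod G P) := isCoh_of_rank hGPr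
    have hT1 : Coh.IsCoh T.X₁ := ShStabLib.isCoh_of_iso e₁.symm hGP
    have hT2 : Coh.IsCoh T.X₂ := ShStabLib.isCoh_of_iso e₂.symm (isCoh_of_rank hG)
    haveI := hS.mono_f
    haveI := hS.epi_g
    let eC : cokernel T.f ≅ T.X₃ := IsColimit.coconePointUniqueUpToIso (cokernelIsCokernel T.f) hS.gIsCokernel
    have hT3 : Coh.IsCoh T.X₃ := ShStabLib.isCoh_of_iso eC (isCoh_kernel_cokernel T.f hT1 hT2).2
    have hd : dg k (CohB1.tensorMod G P) = dg k G - r := by
      rw [dg_eq k hGPr, dg_eq k hG]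
      refine (CurveLib.deg_tensor_invertible (k := k) hdim.le hG hP).trans ?_
      rw [hdP]
      ring
    have hb := ih _ r hGPr fun I j hj hI hpos => by
      haveI := hj
      have hIr := rank_of_mono j hI hGPr
      obtain ⟨G', j', hj', hG', hdI⟩ := Dual.exists_untwist_deg k hdim.le hG hP j hIr
      have h := hsub G' j' hj' (isCoh_of_rank hG') (by rw [grk_of_rank hG']; exact hpos)
      rw [grk_of_rank hG', dg_eq k hG'] at h
      rw [dg_eq k hIr, hdI, hdP]
      push_cast at h ⊢
      linarith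
    have ha := dg_add k hS hT1 hT2 hT3
    have hg := grk_add hS hT1 hT3
    rw [dg_iso k e₁, dg_iso k e₂, hd] at ha
    rw [grk_iso e₁, grk_iso e₂, grk_of_rank hG, grk_of_rank hGPr] at hg
    have h3 := (dg_eq_finrank k hdim.le hT3 (by omega)).1
    have h4 := finrank_H0_mid_le k hS hT1 hT2 hT3
    rw [finrank_iso k e₁ 0, finrank_iso k e₂ 0] at h4
    have h5 : Module.finrank k (Coh.HH X T.X₃ 0) = r := by omega
    rw [Nat.mul_succ]
    omega

include k hdim in
theorem euler_structure : Curv2.euler k X (Coh.structureModule X) = 1 - (Curv2.genus k X : ℤ) := by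
  rw [CurveLib.euler_eq_sub (k := k) hdim.le, CurveLib.finrank_H0_structure]
  rfl

include k hdim in
/-- The sections of the twist of a submodule of a semistable module. -/
theorem h0_twist_sub_le {r r' : ℕ} (hr : 0 < r) {E F' : X.Modules} (hE : FlatMod.IsFinLocFreeOfRank r E)
    (hss : ModFun.IsSlopeSemistable k X E r) (i : F' ⟶ E) [Mono i] (hr' : 0 < r')
    (hF' : FlatMod.IsFinLocFreeOfRank r' F') {N : X.Modules} (hN : PicF.IsInvertible N) {a : ℕ}
    (ha : |Curv2.deg k X E r| ≤ a)
    (hD : (r : ℤ) * a + a + r * (Curv2.genus k X : ℤ) + (Curv2.genus k X : ℤ) ≤ Curv2.deg k X N 1) :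
    (r : ℤ) * Module.finrank k (Coh.HH X (CohB1.tensorMod F' N) 0) ≤
      (r' : ℤ) * Module.finrank k (Coh.HH X (CohB1.tensorMod E N) 0) := by
  have hW := isFinLocFreeOfRank_twist hE hN
  have hG := isFinLocFreeOfRank_twist hF' hN
  obtain ⟨hEc, hF'c⟩ := And.intro (isCoh_of_rank hE) (isCoh_of_rank hF')
  have hdW := CurveLib.deg_tensor_invertible (k := k) hdim.le hE hN
  have hdG := CurveLib.deg_tensor_invertible (k := k) hdim.le hF' hN
  change Curv2.deg k X (CohB1.tensorMod E N) r = _ at hdW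
  change Curv2.deg k X (CohB1.tensorMod F' N) r' = _ at hdG
  have hχ := euler_structure k hdim
  have hW0 := euler_le_finrank k hdim.le (CohB1.tensorMod E N)
  have hWd : Curv2.euler k X (CohB1.tensorMod E N) = Curv2.deg k X E r + r * Curv2.deg k X N 1 +
      r * (1 - (Curv2.genus k X : ℤ)) := by
    rw [← hdW, Curv2.deg, hχ]; ring
  have hGd : Curv2.euler k X (CohB1.tensorMod F' N) = Curv2.deg k X F' r' + r' * Curv2.deg k X N 1 +
      r' * (1 - (Curv2.genus k X : ℤ)) := by
    rw [← hdG, Curv2.deg, hχ]; ring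
  have hr'' : (0 : ℤ) ≤ r' := Int.natCast_nonneg _
  haveI hT : Mono ((CurveLib.tensR N).map i) := by
    obtain ⟨N', hN', ⟨η⟩⟩ := AmpleEmb.exists_isInverseOf hN
    haveI := isEquivalence_tensR η
    infer_instance
  by_cases h1 : Subsingleton (Coh.HH X (CohB1.tensorMod F' N) 1)
  · haveI := h1
    have hG0 := CurveLib.euler_eq_sub (k := k) hdim.le (M := CohB1.tensorMod F' N)
    rw [Module.finrank_zero_of_subsingleton (M := Coh.HH X (CohB1.tensorMod F' N) 1), Nat.cast_zero, sub_zero] at hG0
    have hs := hss F' r' i inferInstance hr' hF'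
    rw [← hG0, hGd]
    have hm := mul_le_mul_of_nonneg_left hW0 hr''
    rw [hWd] at hm
    nlinarith
  · obtain ⟨φ, hφ⟩ := Dual.exists_hom_ne_zero k hdim hG h1
    have hΩ := CurveFF.omega_invertible k (X := X) hdim
    have hΩc := CurveLib.isCoh_of_isInvertible hΩ
    have hΩr := CurveLib.isFinLocFreeOfRank_one hΩ
    obtain ⟨I, p, b, hb, hp, hpb, hI, hK, hgr, -⟩ := exists_image k φ (isCoh_of_rank hG) hΩc
    haveI := hb
    haveI := hp
    have hI0 : grk I ≠ 0 := fun hz => hφ (by rw [← hpb, (isZero_of_mono b hI hΩr hz).eq_of_tgt p 0, zero_comp])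
    rw [grk_of_rank hG] at hgr
    have hKr := rank_of_mono (kernel.ι φ) hK hG
    have hI1 : grk I = 1 := by
      obtain ⟨-, h, -⟩ := coker_add k b hI hΩc
      rw [grk_of_rank hΩr] at h
      omega
    let S : ShortComplex X.Modules := ShortComplex.mk (kernel.ι φ) p (by rw [← cancel_mono b, Category.assoc, hpb, kernel.condition, zero_comp])
    have hIb : Module.finrank k (Coh.HH X I 0) ≤ Curv2.genus k X :=
      CurveFF.omega_h0 k hdim ▸ finrank_le_of_mono k b hΩc
    have hS : S.ShortExact := by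
      refine ShortComplex.ShortExact.mk' ?_ inferInstance hp
      refine ShortComplex.exact_of_f_is_kernel _ (KernelFork.IsLimit.ofι' _ _ fun {W} g hg => ⟨kernel.lift φ g ?_, kernel.lift_ι _ _ _⟩)
      rw [← hpb, ← Category.assoc]
      exact (congrArg (· ≫ b) hg).trans zero_comp
    have hmid := finrank_H0_mid_le k hS hK (isCoh_of_rank hG) hI
    change Module.finrank k (Coh.HH X (CohB1.tensorMod F' N) 0) ≤
      Module.finrank k (Coh.HH X (kernel φ) 0) + Module.finrank k (Coh.HH X I 0) at hmid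
    obtain ⟨D, hD'⟩ : ∃ D : ℕ, Curv2.deg k X N 1 = D := ⟨(Curv2.deg k X N 1).toNat, by
      have : (0 : ℤ) ≤ (r : ℤ) * a + a + r * (Curv2.genus k X : ℤ) + (Curv2.genus k X : ℤ) := by positivity
      omega⟩
    have hKb := finrank_H0_le_of_bound k hdim (a + D + 1) (kernel φ) _ hKr fun H j hj hH hpos => by
      haveI := hj
      let j' : H ⟶ CohB1.tensorMod E N := j ≫ kernel.ι φ ≫ (CurveLib.tensR N).map i
      haveI : Mono j' := inferInstanceAs (Mono (j ≫ kernel.ι φ ≫ (CurveLib.tensR N).map i))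
      have hHr := rank_of_mono j' hH hW
      obtain ⟨H', j'', hj'', hH', hdH⟩ := Dual.exists_untwist_deg k hdim.le hE hN j' hHr
      have h := hss H' (grk H) j'' hj'' hpos hH'
      rw [dg_eq k hHr, hdH, hD']
      push_cast
      have hp' : (0 : ℤ) < grk H := by exact_mod_cast hpos
      have hEa := (abs_le.1 ha).2
      by_contra hc
      push Not at hc
      have hlow : ((a : ℤ) + 1) * grk H ≤ Curv2.deg k X H' (grk H) := by nlinarith
      have h7 := mul_le_mul_of_nonneg_right hlow (Int.natCast_nonneg r)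
      have h8 := mul_le_mul_of_nonneg_right hEa hp'.le
      have hr1 : (1 : ℤ) ≤ r := by exact_mod_cast hr
      nlinarith [mul_pos hp' (show (0 : ℤ) < r by omega), mul_le_mul_of_nonneg_left hr1 (mul_nonneg (Int.natCast_nonneg a) hp'.le)]
    have hG0 : (Module.finrank k (Coh.HH X (CohB1.tensorMod F' N) 0) : ℤ) ≤
        ((r' : ℤ) - 1) * ((a : ℤ) + D + 1) + (Curv2.genus k X : ℤ) := by
      have : grk (kernel φ) = r' - 1 := by omega
      rw [this] at hKb
      have h := Nat.le_trans hmid (Nat.add_le_add hKb hIb)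
      rw [← Nat.cast_le (α := ℤ)] at h
      push_cast [Nat.cast_sub (show 1 ≤ r' from hr')] at h
      exact h
    have hm := mul_le_mul_of_nonneg_left hW0 hr''
    rw [hWd, hD'] at hm
    have hm2 := mul_le_mul_of_nonneg_left hG0 (Int.natCast_nonneg r)
    rw [hD'] at hD
    have hEa := (abs_le.1 ha).1
    have hrr : r' ≤ r := by
      obtain ⟨-, h, -⟩ := coker_add k i hF'c hEc
      rw [grk_of_rank hE, grk_of_rank hF'] at h
      omega
    have hrr' : (r' : ℤ) ≤ r := by exact_mod_cast hrr
    have q1 := mul_le_mul_of_nonneg_left hEa hr''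
    have q2 := mul_le_mul_of_nonneg_left hD (Int.natCast_nonneg r)
    have q3 := mul_le_mul_of_nonneg_right hrr' (Int.natCast_nonneg a)
    have q4 := mul_le_mul_of_nonneg_right hrr' (mul_nonneg (Int.natCast_nonneg r) (Int.natCast_nonneg (Curv2.genus k X)))
    have q5 := mul_le_mul_of_nonneg_right hrr' (mul_nonneg (Int.natCast_nonneg r) (Int.natCast_nonneg a))
    have hr1 : (1 : ℤ) ≤ r := by exact_mod_cast hr
    nlinarith [mul_le_mul_of_nonneg_right hr1 (Int.natCast_nonneg a)]

include k hdim in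
/-- A twist of a quotient of a free module by a large degree has no `H¹`. -/
theorem subsingleton_H1_twist {r N₀ : ℕ} {E N : X.Modules} (hE : FlatMod.IsFinLocFreeOfRank r E)
    (q : FlatMod.freeMod X N₀ ⟶ E) [Epi q] (hN : PicF.IsInvertible N)
    (hD : 2 * (Curv2.genus k X : ℤ) - 2 < Curv2.deg k X N 1) :
    Subsingleton (Coh.HH X (CohB1.tensorMod E N) 1) := by
  by_contra h
  obtain ⟨φ, hφ⟩ := Dual.exists_hom_ne_zero k hdim (isFinLocFreeOfRank_twist hE hN) h
  obtain ⟨N', hN', ⟨η⟩⟩ := AmpleEmb.exists_isInverseOf hN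
  haveI := isEquivalence_tensR (AmpleLib.comm N' N ≪≫ η)
  let M := CohB1.tensorMod (CurveFF.om k X) N'
  have hΩ := CurveFF.omega_invertible k (X := X) hdim
  have hM : PicF.IsInvertible M := AmpleLib.isInvertible_tensor hΩ hN'
  let ψ : E ⟶ M := (untwist η).inv.app E ≫ (CurveLib.tensR N').map φ
  have hψ : ψ ≠ 0 := fun h0 => hφ ((CurveLib.tensR N').map_injective (by
    rw [Functor.map_zero, ← cancel_epi ((untwist η).inv.app E)]
    exact h0.trans comp_zero.symm))
  obtain ⟨j, hj⟩ : ∃ j, Sigma.ι (fun _ : Fin N₀ => Coh.structureModule X) j ≫ q ≫ ψ ≠ 0 := by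
    by_contra hall
    push Not at hall
    refine hψ ?_
    rw [← cancel_epi q, comp_zero]
    exact Sigma.hom_ext _ _ fun j => (hall j).trans comp_zero.symm
  have hOi := ParaFLib.isInvertible_structureModule (X := X)
  haveI := CurveLib.mono_of_ne_zero hOi hM hj
  have hMr := CurveLib.isFinLocFreeOfRank_one hM
  have hOr := CurveLib.isFinLocFreeOfRank_one hOi
  have hle := (dg_le_of_mono k hdim.le (Sigma.ι (fun _ : Fin N₀ => Coh.structureModule X) j ≫ q ≫ ψ)
    (isCoh_of_rank hOr) (isCoh_of_rank hMr) (by rw [grk_of_rank hOr, grk_of_rank hMr])).1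
  rw [(dg_structureModule k (X := X)).2, dg_eq k hMr] at hle
  have hd : Curv2.deg k X M 1 = Curv2.deg k X (CurveFF.om k X) 1 + Curv2.deg k X N' 1 :=
    CurveLib.deg_tensor_add hdim.le hΩ hN'
  have hd' : Curv2.deg k X (CohB1.tensorMod N N') 1 = Curv2.deg k X N 1 + Curv2.deg k X N' 1 :=
    CurveLib.deg_tensor_add hdim.le hN hN'
  rw [CurveLib.deg_iso (k := k) η 1, CurveLib.deg_structureModule] at hd'
  rw [CurveFF.omega_deg k hdim] at hd
  linarith

include k hdim in
theorem deg_tensorPow {A : X.Modules} (hA : PicF.IsInvertible A) :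
    ∀ m : ℕ, Curv2.deg k X (CohB1.tensorPow A m) 1 = m * Curv2.deg k X A 1
  | 0 => by
    show Curv2.deg k X (Coh.structureModule X) 1 = _
    rw [CurveLib.deg_structureModule]; simp
  | m + 1 => by
    show Curv2.deg k X (CohB1.tensorMod (CohB1.tensorPow A m) A) 1 = _
    rw [CurveLib.deg_tensor_add (k := k) hdim.le (AmpleLib.isInvertible_tensorPow hA m) hA, deg_tensorPow hA m]
    push_cast
    ring

include k hdim in
/-- Semistability of quotients of `O^N` read off from one twist. -/
theorem exists_twist_iff {L : X.Modules} (hLi : PicF.IsInvertible L) (hL : CohB1.IsAmple L) (N₀ : ℕ) (P : ℚ[X]) :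
    ∃ l : ℕ, ∀ (r : ℕ) (F : X.Modules) (q : FlatMod.freeMod X N₀ ⟶ F),
      0 < r → FlatMod.IsFinLocFreeOfRank r F → Epi q → ShStab.IsHilbPoly k X L F P →
        (ModFun.IsSlopeSemistable k X F r ↔
          ∀ (F' : X.Modules) (r' : ℕ) (i : F' ⟶ F), Mono i → 0 < r' → FlatMod.IsFinLocFreeOfRank r' F' →
            (Module.finrank k (Coh.HH X (ShStab.twist X L F' l) 0) : ℚ) / (r' : ℚ) ≤
              (Module.finrank k (Coh.HH X (ShStab.twist X L F l) 0) : ℚ) / (r : ℚ)) := by
  let g : ℕ := Curv2.genus k X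
  let a : ℕ := ⌈|P.eval 0|⌉₊ + N₀ * (1 + g)
  let l : ℕ := N₀ * a + a + N₀ * g + 2 * g + 1
  have hdL : 1 ≤ Curv2.deg k X L 1 := (CurveLib.isAmple_iff_deg_pos (k := k) hdim hLi).1 hL
  have hNl : PicF.IsInvertible (CohB1.tensorPow L l) := AmpleLib.isInvertible_tensorPow hLi l
  have hdl : (l : ℤ) ≤ Curv2.deg k X (CohB1.tensorPow L l) 1 := by
    rw [deg_tensorPow k hdim hLi l]
    nlinarith [Int.natCast_nonneg l]
  refine ⟨l, fun r F q hr hF hq hP => ?_⟩
  haveI := hq
  have hFc := isCoh_of_rank hF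
  have hχ := euler_structure k hdim
  have hrN : r ≤ N₀ := by
    have hfree : FlatMod.IsFinLocFreeOfRank N₀ (FlatMod.freeMod X N₀) := fun _ =>
      ⟨⊤, trivial, ⟨DCohLib.restrictFreeMod _ N₀⟩⟩
    obtain ⟨-, h, -⟩ := kernel_add k q (isCoh_of_rank hfree) hFc
    rw [grk_of_rank hfree, grk_of_rank hF] at h
    omega
  have hrN' : (r : ℤ) ≤ N₀ := by exact_mod_cast hrN
  have ha : |Curv2.deg k X F r| ≤ (a : ℤ) := by
    have h0 := hP 0
    rw [ShStab.twist, show Curv2.euler k X (CohB1.tensorMod F (CohB1.tensorPow L 0)) = Curv2.euler k X F from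
      CurveLib.euler_iso (K := k) (DCohLib.tensorStructureIso F)] at h0
    have he : |Curv2.euler k X F| ≤ (⌈|P.eval 0|⌉₊ : ℤ) := by
      have h1 : |(Curv2.euler k X F : ℚ)| ≤ (⌈|P.eval 0|⌉₊ : ℚ) := by
        rw [h0, Nat.cast_zero]
        exact Nat.le_ceil _
      exact_mod_cast h1
    rw [Curv2.deg, hχ, abs_le]
    obtain ⟨he1, he2⟩ := abs_le.1 he
    push_cast [a]
    constructor <;> nlinarith [Int.natCast_nonneg g, mul_le_mul_of_nonneg_right hrN' (Int.natCast_nonneg g)]
  have hD : (r : ℤ) * a + a + r * (g : ℤ) + (g : ℤ) + g + 1 ≤ Curv2.deg k X (CohB1.tensorPow L l) 1 := by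
    refine le_trans ?_ hdl
    push_cast [l]
    nlinarith [mul_le_mul_of_nonneg_right hrN' (Int.natCast_nonneg g),
      mul_le_mul_of_nonneg_right hrN' (Int.natCast_nonneg a)]
  constructor
  · intro hss F' r' i hi hr' hF'
    haveI := hi
    have h := h0_twist_sub_le k hdim hr hF hss i hr' hF' hNl ha (by change (r : ℤ) * a + a + r * (g : ℤ) + g ≤ _; linarith)
    rw [div_le_div_iff₀ (by exact_mod_cast hr') (by exact_mod_cast hr), mul_comm, mul_comm _ (r' : ℚ)]
    exact_mod_cast h
  · intro hh F' r' i hi hr' hF'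
    haveI := hi
    have h := hh F' r' i hi hr' hF'
    rw [div_le_div_iff₀ (by exact_mod_cast hr') (by exact_mod_cast hr)] at h
    have h' : (Module.finrank k (Coh.HH X (ShStab.twist X L F' l) 0) : ℤ) * r ≤
        (Module.finrank k (Coh.HH X (ShStab.twist X L F l) 0) : ℤ) * r' := by exact_mod_cast h
    let M := CohB1.tensorPow L l
    haveI := subsingleton_H1_twist k hdim hF q hNl (by change 2 * (g : ℤ) - 2 < _; nlinarith)
    have hF0 := CurveLib.euler_eq_sub (k := k) hdim.le (M := CohB1.tensorMod F M)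
    rw [Module.finrank_zero_of_subsingleton (M := Coh.HH X (CohB1.tensorMod F M) 1), Nat.cast_zero, sub_zero] at hF0
    have hF'0 := euler_le_finrank k hdim.le (CohB1.tensorMod F' M)
    have hdW := CurveLib.deg_tensor_invertible (k := k) hdim.le hF hNl
    have hdG := CurveLib.deg_tensor_invertible (k := k) hdim.le hF' hNl
    change Curv2.euler k X (CohB1.tensorMod F M) - _ = _ at hdW
    change Curv2.euler k X (CohB1.tensorMod F' M) - _ = _ at hdG
    rw [hχ] at hdW hdG
    change (Module.finrank k (Coh.HH X (CohB1.tensorMod F' M) 0) : ℤ) * r ≤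
      (Module.finrank k (Coh.HH X (CohB1.tensorMod F M) 0) : ℤ) * r' at h'
    rw [← hF0] at h'
    have hm := (mul_le_mul_of_nonneg_right hF'0 (Int.natCast_nonneg r)).trans h'
    change Curv2.deg k X F' r' * (r : ℤ) ≤ Curv2.deg k X F r * (r' : ℤ)
    have q1 := congrArg (· * (r' : ℤ)) hdW
    have q2 := congrArg (· * (r : ℤ)) hdG
    linarith

end Groth.Agent.VBLib.TwistH0
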