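import Groth.Agent.VBLib.Point
import Groth.Agent.VBLib.Cst
import Groth.Agent.VBLib.Slope
import Groth.Agent.CurveFF.Duality
import Groth.Agent.CurveLib.Ample
import Groth.Agent.CurveLib.CurveVanish
import Groth.Agent.CurveLib.MaxSections
import Groth.Agent.KRRAmple.Basic
import Groth.Agent.DCohMore.TensorCoh
import Groth.Agent.VBLib.GenusOneTwo

/-!
# Serre duality for locally free modules on a regular proper curve

Every functional on `H¹(E)` comes from a map `E ⟶ Ω`.
-/

set_option autoImplicit false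
set_option backward.isDefEq.respectTransparency false
set_option linter.style.haveILetI false
set_option maxHeartbeats 1000000

universe u

open CategoryTheory CategoryTheory.Limits AlgebraicGeometry TopologicalSpace
open Groth.Agent.PullbackMod Groth.Agent.DevLib Groth.Agent.QCohLib

noncomputable section

namespace Groth.Agent.VBLib.Dual

variable (k : Type u) [Field k] {X : Scheme.{u}} [X.Over (Spec (CommRingCat.of k))]
  [IsProper (X ↘ Spec (CommRingCat.of k))]

omit [IsProper (X ↘ Spec (CommRingCat.of k))] in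
theorem hMap_comp {A B C : X.Modules} (f : A ⟶ B) (g : B ⟶ C) (n : ℕ) (z : Coh.HH X A n) :
    CurveLib.hMap (k := k) (f ≫ g) n z = CurveLib.hMap (k := k) g n (CurveLib.hMap (k := k) f n z) :=
  (congrArg (fun h => Sheaf.H.map h n z) ((QCohLib.toAbF X).map_comp f g)).trans (Sheaf.H.map_comp_apply _ _ z)

omit [IsProper (X ↘ Spec (CommRingCat.of k))] in
theorem hMap_add {A B : X.Modules} (f g : A ⟶ B) (n : ℕ) (z : Coh.HH X A n) :
    CurveLib.hMap (k := k) (f + g) n z = CurveLib.hMap (k := k) f n z + CurveLib.hMap (k := k) g n z :=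
  (congrArg (fun h => Sheaf.H.map h n z) ((QCohLib.toAbF X).map_add (f := f) (g := g))).trans
    (Sheaf.H.map_add_apply _ _ z)

omit [IsProper (X ↘ Spec (CommRingCat.of k))] in
theorem hMap_id (A : X.Modules) (n : ℕ) (z : Coh.HH X A n) : CurveLib.hMap (k := k) (𝟙 A) n z = z :=
  (congrArg (fun h => Sheaf.H.map h n z) ((QCohLib.toAbF X).map_id A)).trans (Sheaf.H.map_id_apply _)

omit [IsProper (X ↘ Spec (CommRingCat.of k))] in
theorem hMap_zero (A B : X.Modules) (n : ℕ) (z : Coh.HH X A n) : CurveLib.hMap (k := k) (0 : A ⟶ B) n z = 0 := by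
  have h := hMap_add k (0 : A ⟶ B) 0 n z
  rwa [add_zero, left_eq_add] at h

omit [IsProper (X ↘ Spec (CommRingCat.of k))] in
theorem hMap_cst (A : X.Modules) (c : k) (n : ℕ) (z : Coh.HH X A n) :
    CurveLib.hMap (k := k) (cst k A c : A ⟶ A) n z = c • z :=
  congrArg (fun h => Sheaf.H.map h n z) (FactorOne.toAb_mulEnd A _)

omit [IsProper (X ↘ Spec (CommRingCat.of k))] in
theorem stalkLin_cst (A : X.Modules) (c : k) (x : X) (z : A.presheaf.stalk x) :
    stalkLin (cst k A c : A ⟶ A) x z =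
      X.presheaf.germ ⊤ x trivial (Coh.toGlobal (X ↘ Spec (CommRingCat.of k)) c) • z := by
  obtain ⟨U, hU, m, rfl⟩ := TopCat.Presheaf.exists_germ_eq A.presheaf z
  rw [stalkLin_germ]
  show A.presheaf.germ U x hU ((FactorOne.mulEnd A _).app U m) = _
  rw [FactorOne.mulEnd_app, ParaFLib.germ_smul']
  exact congrArg (· • A.presheaf.germ U x hU m)
    (TopCat.Presheaf.germ_res_apply X.presheaf (homOfLE (le_top : U ≤ ⊤)) x hU _)

omit [IsProper (X ↘ Spec (CommRingCat.of k))] in
/-- Twisting commutes with constants. -/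
theorem tensR_map_cst (A N : X.Modules) (c : k) :
    (CurveLib.tensR N).map (cst k A c : A ⟶ A) =
      (cst k ((CurveLib.tensR N).obj A) c : (CurveLib.tensR N).obj A ⟶ _) := by
  refine PullbackMod.hom_ext_stalk fun x => LinearMap.ext fun z => ?_
  obtain ⟨w, rfl⟩ := (DCohLib.stalkTensor x A N).surjective z
  refine (DCohLib.stalkTensor_natural_left x (cst k A c : A ⟶ A) w).trans (Eq.trans ?_ (stalkLin_cst k _ c x _).symm)
  refine (congrArg (DCohLib.stalkTensor x A N) (?_ : _ = X.presheaf.germ ⊤ x trivial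
    (Coh.toGlobal (X ↘ Spec (CommRingCat.of k)) c) • w)).trans (map_smul (DCohLib.stalkTensor x A N) _ _)
  induction w using TensorProduct.induction_on with
  | zero => simp
  | tmul a b => rw [LinearMap.rTensor_tmul, stalkLin_cst, TensorProduct.smul_tmul']
  | add u v hu hv => rw [map_add, hu, hv, smul_add]

variable [IsAlgClosed k] [IsIntegral X] [IsNoetherian X] [IsRegCurve X] (hdim : topologicalKrullDim X = 1)

omit [IsAlgClosed k] in
include k in
/-- A nonzero map into a line bundle is surjective on `H¹`. -/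
theorem surjective_H1_of_ne_zero (hdim : topologicalKrullDim X ≤ 1) {K L : X.Modules} (hK : Coh.IsCoh K)
    (hL : PicF.IsInvertible L) {ψ : K ⟶ L} (hψ : ψ ≠ 0) : Function.Surjective (CurveLib.hMap (k := k) ψ 1) := by
  have hLc := CurveLib.isCoh_of_isInvertible hL
  have hLr := CurveLib.isFinLocFreeOfRank_one hL
  obtain ⟨I, a, b, hb, ha, hab, hI, -, -, -⟩ := exists_image k ψ hK hLc
  haveI := hb
  haveI := ha
  obtain ⟨hc, hr, -⟩ := coker_add k b hI hLc
  have hI0 : grk I ≠ 0 := fun h => hψ (by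
    rw [← hab, (isZero_of_mono b hI hLr h).eq_of_tgt a 0, zero_comp])
  rw [grk_of_rank hLr] at hr
  obtain ⟨-, hd⟩ := dg_eq_finrank k hdim hc (by omega)
  refine CurveLib.hMap_one_surjective hdim ψ (DevLib.isClosed_support hc) hd fun x hx z => ?_
  have h0 : stalkLin (cokernel.π b) x z = 0 :=
    @Subsingleton.elim _ (not_not.1 hx) _ _
  obtain ⟨w, rfl⟩ := (DevLib.coker_exact b x z).1 h0
  obtain ⟨v, rfl⟩ := (PullbackMod.epi_iff_stalk a).1 inferInstance x w
  exact ⟨v, by rw [← hab, stalkLin_comp]; rfl⟩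

include k hdim in
theorem nontrivial_H1_om : Nontrivial (Coh.HH X (CurveFF.om k X) 1) :=
  Module.nontrivial_of_finrank_pos (R := k) (by rw [CurveFF.omega_h1 k hdim]; exact Nat.one_pos)

include k hdim in
/-- A map to `Ω` vanishing on `H¹` vanishes. -/
theorem eq_zero_of_hMap_eq_zero {K : X.Modules} (hK : Coh.IsCoh K) {ψ : K ⟶ CurveFF.om k X}
    (h : ∀ z, CurveLib.hMap (k := k) ψ 1 z = 0) : ψ = 0 := by
  by_contra hψ
  haveI := nontrivial_H1_om k hdim
  obtain ⟨w, hw⟩ := exists_ne (0 : Coh.HH X (CurveFF.om k X) 1)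
  obtain ⟨z, rfl⟩ := surjective_H1_of_ne_zero k hdim.le hK (CurveFF.omega_invertible k hdim) hψ w
  exact hw (h z)

include k hdim in
/-- Duality for an invertible module. -/
theorem exists_hom_line {L : X.Modules} (hL : PicF.IsInvertible L)
    (l : Coh.HH X L 1 →ₗ[k] Coh.HH X (CurveFF.om k X) 1) :
    ∃ ψ : L ⟶ CurveFF.om k X, CurveLib.hMap (k := k) ψ 1 = l := by
  obtain ⟨N, hN, ⟨η⟩⟩ := AmpleEmb.exists_isInverseOf hL
  haveI := isEquivalence_tensR (AmpleLib.comm N L ≪≫ η)
  let F := CurveLib.tensR N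
  let M := CohB1.tensorMod (CurveFF.om k X) N
  have hΩ := CurveFF.omega_invertible k hdim
  let θ : Coh.HH X M 0 → (L ⟶ CurveFF.om k X) := fun c =>
    F.preimage (η.hom ≫ DCohLib.secHom M (CurveLib.secOf M c))
  have hθ : ∀ c, F.map (θ c) = η.hom ≫ DCohLib.secHom M (CurveLib.secOf M c) := fun c => F.map_preimage _
  have hadd : ∀ c d, θ (c + d) = θ c + θ d := fun c d => by
    refine F.map_injective ?_
    rw [F.map_add, hθ, hθ, hθ, ← Preadditive.comp_add]
    congr 1
    rw [← AmpleLib.secHom_sec (_ + _ : Coh.structureModule X ⟶ M)]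
    refine congrArg _ ?_
    rw [map_add]
    exact (congrArg₂ (· + ·) (AmpleLib.sec_secHom _) (AmpleLib.sec_secHom _)).symm
  have hsmul : ∀ (r : k) c, θ (r • c) = θ c ≫ (cst k (CurveFF.om k X) r : _ ⟶ _) := fun r c => by
    refine F.map_injective ?_
    rw [F.map_comp, hθ, hθ, Category.assoc]
    congr 1
    rw [tensR_map_cst, ← AmpleLib.secHom_sec (DCohLib.secHom M _ ≫ _)]
    refine congrArg _ ?_
    rw [CurveLib.secOf_smul]
    show _ = (cst k M r : M ⟶ M).app ⊤ (AmpleLib.sec (DCohLib.secHom M (CurveLib.secOf M c)))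
    rw [AmpleLib.sec_secHom]
    show _ = (FactorOne.mulEnd M _).app ⊤ _
    rw [FactorOne.mulEnd_app]
    exact congrArg (fun a : Γ(X, ⊤) => a • CurveLib.secOf M c)
      (ConcreteCategory.congr_hom (X.presheaf.map_id _) _).symm
  let Φ : Coh.HH X M 0 →ₗ[k] (Coh.HH X L 1 →ₗ[k] Coh.HH X (CurveFF.om k X) 1) :=
    { toFun := fun c => CurveLib.hMap (k := k) (θ c) 1
      map_add' := fun c d => LinearMap.ext fun z => by
        rw [hadd]
        exact hMap_add k _ _ 1 z
      map_smul' := fun r c => LinearMap.ext fun z => by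
        rw [hsmul, hMap_comp, hMap_cst]
        rfl }
  have hinj : Function.Injective Φ := by
    refine (injective_iff_map_eq_zero Φ).2 fun c hc => ?_
    have h0 : θ c = 0 := eq_zero_of_hMap_eq_zero k hdim (CurveLib.isCoh_of_isInvertible hL)
      fun z => LinearMap.congr_fun hc z
    have h1 : η.hom ≫ DCohLib.secHom M (CurveLib.secOf M c) = 0 := by rw [← hθ, h0, F.map_zero]
    rw [← comp_zero (f := η.hom), cancel_epi] at h1
    refine (CurveLib.secOf M).injective ?_
    rw [map_zero, ← AmpleLib.sec_secHom (CurveLib.secOf M c), h1]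
    rfl
  haveI := EulerIneqLib.finite_HH (k := k) (CurveLib.isCoh_of_isInvertible (AmpleLib.isInvertible_tensor hΩ hN)) 0
  haveI := EulerIneqLib.finite_HH (k := k) (CurveLib.isCoh_of_isInvertible hL) 1
  haveI := EulerIneqLib.finite_HH (k := k) (CurveLib.isCoh_of_isInvertible hΩ) 1
  have hdimeq : Module.finrank k (Coh.HH X M 0) =
      Module.finrank k (Coh.HH X L 1 →ₗ[k] Coh.HH X (CurveFF.om k X) 1) := by
    rw [Module.finrank_linearMap, CurveFF.omega_h1 k hdim, mul_one, CurveFF.h1_eq_h0_dual hdim hL ⟨η⟩]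
  obtain ⟨c, hc⟩ := (LinearMap.injective_iff_surjective_of_finrank_eq_finrank hdimeq).1 hinj l
  exact ⟨θ c, hc⟩

omit [IsAlgClosed k] [IsRegCurve X] in
include k in
/-- A locally free module is generated by finitely many maps from an invertible module. -/
theorem exists_epi_lines (hdim : topologicalKrullDim X = 1) {A : X.Modules} (hA : PicF.IsInvertible A)
    (hdA : 0 < Curv2.deg k X A 1) {n : ℕ} {E : X.Modules} (hE : FlatMod.IsFinLocFreeOfRank n E) :
    ∃ (L : X.Modules) (m : ℕ) (φ : Fin m → (L ⟶ E)), PicF.IsInvertible L ∧ Epi (biproduct.desc φ) := by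
  have hEc := isCoh_of_rank hE
  obtain ⟨N₀, hN₀⟩ := AmpleEmb.eventually_isGloballyGenerated
    ((CurveLib.isAmple_iff_deg_pos (k := k) hdim hA).2 hdA) hEc
  let P := CohB1.tensorPow A N₀
  have hP : PicF.IsInvertible P := AmpleLib.isInvertible_tensorPow hA N₀
  obtain ⟨Q, hQ, ⟨η⟩⟩ := AmpleEmb.exists_isInverseOf hP
  obtain ⟨m, p, hp⟩ := KRRAmple.exists_epi_freeMod (M := CohB1.tensorMod E P)
    (fun x => let ⟨U, hx, e⟩ := isFinLocFreeOfRank_twist hE hP x; ⟨U, n, hx, e⟩) (hN₀ N₀ le_rfl)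
  haveI := hp
  haveI := isEquivalence_tensR (AmpleLib.comm Q P ≪≫ η)
  let F := CurveLib.tensR Q
  let u : F.obj (CohB1.tensorMod E P) ≅ E := (untwist η).app E
  let q : ∀ j : Fin m, F.obj (Coh.structureModule X) ⟶ E := fun j =>
    F.map (Sigma.ι (fun _ : Fin m => Coh.structureModule X) j ≫ p) ≫ u.hom
  refine ⟨F.obj (Coh.structureModule X), m, q, AmpleLib.isInvertible_tensor ParaFLib.isInvertible_structureModule hQ,
    ⟨fun {Z} a b h => ?_⟩⟩
  rw [← cancel_epi (F.map p ≫ u.hom)]
  refine (isColimitOfPreserves F (coproductIsCoproduct fun _ : Fin m => Coh.structureModule X)).hom_ext fun ⟨j⟩ => ?_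
  have hj := congrArg (biproduct.ι (fun _ : Fin m => F.obj (Coh.structureModule X)) j ≫ ·) h
  simp only [← Category.assoc, biproduct.ι_desc] at hj
  simpa [q, Category.assoc] using hj

include k hdim in
/-- Every functional on `H¹` of a locally free module comes from a map to `Ω`. -/
theorem exists_hom {n : ℕ} {E : X.Modules} (hE : FlatMod.IsFinLocFreeOfRank n E)
    (l : Coh.HH X E 1 →ₗ[k] Coh.HH X (CurveFF.om k X) 1) :
    ∃ φ : E ⟶ CurveFF.om k X, CurveLib.hMap (k := k) φ 1 = l := by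
  classical
  obtain ⟨A, hA, hdA⟩ := CurveFF.exists_pos_deg k (X := X) hdim
  obtain ⟨L, m, φ, hL, hepi⟩ := exists_epi_lines k hdim hA hdA hE
  haveI := hepi
  have hEc := isCoh_of_rank hE
  choose ψ hψ using fun j => exists_hom_line k hdim hL (l.comp (CurveLib.hMap (k := k) (φ j) 1))
  let B : Fin m → X.Modules := fun _ => L
  let Φ : (⨁ B) ⟶ E := biproduct.desc φ
  let Ψ : (⨁ B) ⟶ CurveFF.om k X := biproduct.desc ψ
  have hkey : ∀ z, CurveLib.hMap (k := k) Ψ 1 z = l (CurveLib.hMap (k := k) Φ 1 z) := fun z => by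
    let G : ((⨁ B) ⟶ ⨁ B) →+ Coh.HH X (⨁ B) 1 :=
      AddMonoidHom.mk' (fun f => CurveLib.hMap (k := k) f 1 z) fun f g => hMap_add k f g 1 z
    have hz : z = ∑ j, CurveLib.hMap (k := k) (biproduct.ι B j) 1 (CurveLib.hMap (k := k) (biproduct.π B j) 1 z) := by
      have h := congrArg G (biproduct.total (f := B))
      rw [map_sum] at h
      refine ((hMap_id k _ 1 z).symm.trans h.symm).trans (Finset.sum_congr rfl fun j _ => ?_)
      exact hMap_comp k _ _ 1 z
    rw [hz]
    simp only [map_sum]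
    refine Finset.sum_congr rfl fun j _ => ?_
    rw [← hMap_comp, ← hMap_comp k (biproduct.ι B j) Φ, biproduct.ι_desc, biproduct.ι_desc, hψ]
    rfl
  have hBc : Coh.IsCoh (kernel Φ) := by
    have hB : Coh.IsCoh (⨁ B) := ShStabLib.isCoh_of_iso (biproduct.isoCoproduct B).symm
      (DCohMore.isCoh_sigma_fin L (CurveLib.isCoh_of_isInvertible hL) m)
    exact (isCoh_kernel_cokernel Φ hB hEc).1
  have hzero : kernel.ι Φ ≫ Ψ = 0 := eq_zero_of_hMap_eq_zero k hdim hBc fun z => by
    rw [hMap_comp, hkey, ← hMap_comp, kernel.condition, hMap_zero, map_zero]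
  refine ⟨Abelian.epiDesc Φ Ψ hzero, LinearMap.ext fun w => ?_⟩
  haveI := EulerIneqLib.isNoetherian_proper (X := X) k
  obtain ⟨z, hz⟩ := CurveLib.hMap_one_surjective (k := k) hdim.le Φ isClosed_empty
    (CurveLib.dim_le_zero_of_notMem hdim.le isClosed_empty (genericPoint_spec X) fun h => h)
    (fun x _ => (PullbackMod.epi_iff_stalk Φ).1 hepi x) w
  rw [← hz, ← hMap_comp, Abelian.comp_epiDesc, hkey]

include k hdim in
/-- Nonzero `H¹` gives a nonzero map to `Ω`. -/
theorem exists_hom_ne_zero {n : ℕ} {E : X.Modules} (hE : FlatMod.IsFinLocFreeOfRank n E)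
    (h : ¬ Subsingleton (Coh.HH X E 1)) : ∃ φ : E ⟶ CurveFF.om k X, φ ≠ 0 := by
  haveI := not_subsingleton_iff_nontrivial.1 h
  haveI := nontrivial_H1_om k hdim
  obtain ⟨v, hv⟩ := exists_ne (0 : Coh.HH X E 1)
  let b := Module.Basis.ofVectorSpace k (Coh.HH X E 1)
  obtain ⟨f, hf⟩ : ∃ f, b.repr v f ≠ 0 := by
    by_contra hall
    push Not at hall
    exact hv (b.repr.map_eq_zero_iff.1 (Finsupp.ext fun f => hall f))
  obtain ⟨w, hw⟩ := exists_ne (0 : Coh.HH X (CurveFF.om k X) 1)
  obtain ⟨φ, hφ⟩ := exists_hom k hdim hE ((b.coord f).smulRight w)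
  refine ⟨φ, fun h0 => ?_⟩
  have := LinearMap.congr_fun hφ v
  rw [h0, hMap_zero] at this
  exact smul_ne_zero hf hw this.symm

end Groth.Agent.VBLib.Dual
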