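import Groth.Agent.VBLib.CurveDual
import Groth.Agent.VBLib.TwoSections
import Groth.Agent.DCohMore.DualFlf
import Groth.Agent.ModTensor.Sheaf
import Groth.Agent.HilbObsLib.Stalk

/-!
# Degrees of duals and tensor products of locally free modules on a curve
-/

set_option autoImplicit false
set_option backward.isDefEq.respectTransparency false
set_option linter.style.haveILetI false
set_option maxHeartbeats 1000000

universe u

open CategoryTheory CategoryTheory.Limits AlgebraicGeometry TopologicalSpace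
open Groth.Agent.PullbackMod Groth.Agent.DevLib Groth.Agent.QCohLib Groth.Agent.DCohLib
open scoped TensorProduct

noncomputable section

namespace Groth.Agent.VBLib.DualDeg

variable {X : Scheme.{u}}

local instance hasHF (M : X.Modules) : ModSite.HasSheafHom (O := X.sheaf) M :=
  ModTensor.hasSheafHom (O := X.sheaf) M

/-- The dual module. -/
abbrev dd (E : X.Modules) : X.Modules := LocFreeHomLib.dualE E

theorem flf_of_rank {n : ℕ} {E : X.Modules} (hE : FlatMod.IsFinLocFreeOfRank n E) : FlatMod.IsFinLocFree E :=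
  fun x => let ⟨U, hx, e⟩ := hE x; ⟨U, n, hx, e⟩

/-- The structure sheaf at a point. -/
def oneEquiv (x : X) : X.presheaf.stalk x ≃ₗ[X.presheaf.stalk x] (Coh.structureModule X).presheaf.stalk x :=
  LinearEquiv.ofBijective (LinearMap.toSpanSingleton _ _ (LocFreeHomLib.one' x)) (ParaFLib.bijective_oneG x)

/-- The dual at a point. -/
def ddEquiv {n : ℕ} {E : X.Modules} (hE : FlatMod.IsFinLocFreeOfRank n E) (x : X) :
    (dd E).presheaf.stalk x ≃ₗ[X.presheaf.stalk x]
      (E.presheaf.stalk x →ₗ[X.presheaf.stalk x] (Coh.structureModule X).presheaf.stalk x) :=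
  LinearEquiv.ofBijective _ (LocFreeHomLib.theta_bijective_flf E (flf_of_rank hE) (Coh.structureModule X) x)

/-- The dual has the same rank. -/
theorem rank_dd {n : ℕ} {E : X.Modules} (hE : FlatMod.IsFinLocFreeOfRank n E) :
    FlatMod.IsFinLocFreeOfRank n (dd E) := by
  have hD : FlatMod.IsFinLocFree (dd E) := DCohMore.isFinLocFree_dual E (flf_of_rank hE)
  obtain ⟨hq, hfp⟩ := isQCoh_and_isFP_of_isFinLocFree _ hD
  haveI := hq
  rw [isFinLocFreeOfRank_iff_freeAt (dd E) hfp]
  intro x
  obtain ⟨e⟩ := CurveLib.freeAt_of_isFinLocFreeOfRank hE x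
  exact ⟨(ddEquiv hE x).trans (((LinearEquiv.congrRight (oneEquiv x).symm).trans
    (LinearEquiv.congrLeft (X.presheaf.stalk x) (X.presheaf.stalk x) e)).trans
    (Pi.basisFun (X.presheaf.stalk x) (Fin n)).toDualEquiv.symm)⟩

/-- The transpose of a map. -/
def tr {A B : X.Modules} (f : A ⟶ B) : dd B ⟶ dd A :=
  (ModSite.sheafHomAdj (O := X.sheaf) A).homEquiv (dd B) (Coh.structureModule X)
    (((DCoh.tensorBi (X := X)).obj (dd B)).map f ≫ StalkHomLib.ev B (Coh.structureModule X))

theorem theta_tr {A B : X.Modules} (f : A ⟶ B) (x : X) (z : (dd B).presheaf.stalk x) (a : A.presheaf.stalk x) :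
    StalkHomLib.theta A (Coh.structureModule X) x (stalkLin (tr f) x z) a =
      StalkHomLib.theta B (Coh.structureModule X) x z (stalkLin f x a) := by
  rw [StalkHomLib.theta_transpose]
  rw [show ((ModSite.sheafHomAdj (O := X.sheaf) A).homEquiv (dd B) (Coh.structureModule X)).symm (tr f) =
    ((DCoh.tensorBi (X := X)).obj (dd B)).map f ≫ StalkHomLib.ev B (Coh.structureModule X) from
      Equiv.symm_apply_apply _ _]
  refine (LinearMap.congr_fun (stalkLin_comp _ _ x) _).trans ?_
  exact congrArg (stalkLin (StalkHomLib.ev B (Coh.structureModule X)) x)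
    (stalkTensor_natural_right x f (z ⊗ₜ a))

/-- The transposed sequence. -/
theorem exists_dual_seq {S : ShortComplex X.Modules} (hS : S.ShortExact) {n₁ n₂ n₃ : ℕ}
    (h₁ : FlatMod.IsFinLocFreeOfRank n₁ S.X₁) (h₂ : FlatMod.IsFinLocFreeOfRank n₂ S.X₂)
    (h₃ : FlatMod.IsFinLocFreeOfRank n₃ S.X₃) :
    ∃ h : tr S.g ≫ tr S.f = 0, (ShortComplex.mk _ _ h).ShortExact := by
  haveI := hS.mono_f
  haveI := hS.epi_g
  have h : tr S.g ≫ tr S.f = 0 := by
    refine PullbackMod.hom_ext_stalk fun x => LinearMap.ext fun z => ?_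
    refine (LocFreeHomLib.theta_bijective_flf S.X₁ (flf_of_rank h₁) (Coh.structureModule X) x).1
      (LinearMap.ext fun a => ?_)
    rw [stalkLin_comp, LinearMap.comp_apply, theta_tr, theta_tr,
      (DevLib.stalk_exact hS x (stalkLin S.f x a)).2 ⟨a, rfl⟩, DevLib.stalkLin_zero]
    simp
  refine ⟨h, @ShortComplex.ShortExact.mk' _ _ _ _ ?_ ?_ ?_⟩
  · refine HilbObsLib.exact_of_stalk fun x z hz => ?_
    have h0 : ∀ a, StalkHomLib.theta S.X₂ (Coh.structureModule X) x z (stalkLin S.f x a) = 0 := fun a => by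
      rw [← theta_tr S.f x z a, show stalkLin (tr S.f) x z = 0 from hz]
      simp
    let φ := StalkHomLib.theta S.X₂ (Coh.structureModule X) x z
    let e := LinearMap.quotKerEquivOfSurjective (stalkLin S.g x) (DevLib.stalk_surjective hS x)
    have hle : LinearMap.ker (stalkLin S.g x) ≤ LinearMap.ker φ := fun b hb => by
      obtain ⟨a, rfl⟩ := (DevLib.stalk_exact hS x b).1 hb
      exact h0 a
    obtain ⟨w, hw⟩ := (LocFreeHomLib.theta_bijective_flf S.X₃ (flf_of_rank h₃) (Coh.structureModule X) x).2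
      ((Submodule.liftQ _ φ hle).comp e.symm.toLinearMap)
    refine ⟨w, (LocFreeHomLib.theta_bijective_flf S.X₂ (flf_of_rank h₂) (Coh.structureModule X) x).1
      (LinearMap.ext fun b => ?_)⟩
    rw [theta_tr, hw, LinearMap.comp_apply]
    show Submodule.liftQ _ φ hle (e.symm (stalkLin S.g x b)) = _
    rw [show e.symm (stalkLin S.g x b) = Submodule.Quotient.mk b from e.symm_apply_eq.2 rfl]
    rfl
  · refine (PullbackMod.mono_iff_stalk _).2 fun x z w hzw => ?_
    refine (LocFreeHomLib.theta_bijective_flf S.X₃ (flf_of_rank h₃) (Coh.structureModule X) x).1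
      (LinearMap.ext fun c => ?_)
    obtain ⟨b, rfl⟩ := DevLib.stalk_surjective hS x c
    rw [← theta_tr, ← theta_tr, hzw]
  · refine (PullbackMod.epi_iff_stalk _).2 fun x z => ?_
    obtain ⟨e₃⟩ := CurveLib.freeAt_of_isFinLocFreeOfRank h₃ x
    haveI : Module.Projective (X.presheaf.stalk x) (S.X₃.presheaf.stalk x) := Module.Projective.of_equiv e₃.symm
    obtain ⟨l, hl⟩ := Module.projective_lifting_property (stalkLin S.g x) LinearMap.id (DevLib.stalk_surjective hS x)
    obtain ⟨r, hr⟩ : ∃ r : S.X₂.presheaf.stalk x →ₗ[X.presheaf.stalk x] S.X₁.presheaf.stalk x,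
        r.comp (stalkLin S.f x) = LinearMap.id :=
      (((DevLib.stalk_exact hS x).split_tfae (DevLib.stalk_injective hS x) (DevLib.stalk_surjective hS x)).out 0 1 :
        (∃ l, stalkLin S.g x ∘ₗ l = LinearMap.id) ↔ ∃ l, l ∘ₗ stalkLin S.f x = LinearMap.id).1 ⟨l, hl⟩
    obtain ⟨w, hw⟩ := (LocFreeHomLib.theta_bijective_flf S.X₂ (flf_of_rank h₂) (Coh.structureModule X) x).2
      ((StalkHomLib.theta S.X₁ (Coh.structureModule X) x z).comp r)
    refine ⟨w, (LocFreeHomLib.theta_bijective_flf S.X₁ (flf_of_rank h₁) (Coh.structureModule X) x).1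
      (LinearMap.ext fun a => ?_)⟩
    rw [theta_tr, hw, LinearMap.comp_apply, ← LinearMap.comp_apply r, hr, LinearMap.id_apply]

variable (k : Type u) [Field k] [X.Over (Spec (CommRingCat.of k))]
  [IsProper (X ↘ Spec (CommRingCat.of k))] [IsIntegral X] [IsNoetherian X] [IsRegCurve X]

include k in
/-- A locally free module of positive rank is an extension of a locally free module by an invertible one. -/
theorem exists_line_quot [IsAlgClosed k] (hdim : topologicalKrullDim X = 1) {n : ℕ} {E : X.Modules}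
    (hE : FlatMod.IsFinLocFreeOfRank (n + 1) E) :
    ∃ (L Q : X.Modules) (f : L ⟶ E) (g : E ⟶ Q) (w : f ≫ g = 0), PicF.IsInvertible L ∧
      FlatMod.IsFinLocFreeOfRank n Q ∧ (ShortComplex.mk f g w).ShortExact := by
  have hEc := isCoh_of_rank hE
  obtain ⟨A, hA, hdA⟩ := CurveFF.exists_pos_deg k (X := X) hdim
  obtain ⟨L₀, m, φ, hL₀, hepi⟩ := Dual.exists_epi_lines k hdim hA hdA hE
  obtain ⟨j, hj⟩ : ∃ j, φ j ≠ 0 := by
    by_contra hall
    push Not at hall
    haveI := hepi
    have hd0 : biproduct.desc φ = (0 : (⨁ fun _ : Fin m => L₀) ⟶ E) :=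
      biproduct.hom_ext' _ _ fun i => by simp [hall i]
    exact nonzero_of_rank k (Nat.succ_pos n) hE
      ((IsZero.iff_id_eq_zero E).2 (by rw [← cancel_epi (biproduct.desc φ), hd0, zero_comp, zero_comp]))
  have hL₀c := CurveLib.isCoh_of_isInvertible hL₀
  have hL₀r := CurveLib.isFinLocFreeOfRank_one hL₀
  obtain ⟨I, a, b, hb, ha, hab, hI, -, h1, -⟩ := exists_image k (φ j) hL₀c hEc
  haveI := hb
  have hI0 : grk I ≠ 0 := fun hz => hj (by
    rw [← hab, (isZero_of_mono b hI hE hz).eq_of_tgt a 0, zero_comp])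
  rw [grk_of_rank hL₀r] at h1
  obtain ⟨hCc, hCr, -⟩ := coker_add k b hI hEc
  obtain ⟨Q, q, hq, hQc, hQf, hQr, -⟩ := exists_freeQuot k hdim.le hCc
  haveI := hq
  rw [grk_of_rank hE] at hCr
  rw [show grk Q = n by omega] at hQf
  let π : E ⟶ Q := cokernel.π b ≫ q
  haveI : Epi π := epi_comp _ _
  obtain ⟨hKc, hKr, -⟩ := kernel_add k π hEc hQc
  have hKf := rank_of_mono (kernel.ι π) hKc hE
  rw [grk_of_rank hE, grk_of_rank hQf] at hKr
  rw [show grk (kernel π) = 1 by omega] at hKf
  exact ⟨kernel π, Q, kernel.ι π, π, kernel.condition π, isInvertible_of_rank hKf, hQf,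
    ShortComplex.ShortExact.mk' (ShortComplex.exact_of_f_is_kernel _ (kernelIsKernel π)) inferInstance inferInstance⟩

omit [IsRegCurve X] in
theorem deg_rank_zero {M : X.Modules} (hM : FlatMod.IsFinLocFreeOfRank 0 M) : Curv2.deg k X M 0 = 0 := by
  have h := (dg_isZero k (isZero_of_mono (𝟙 M) (isCoh_of_rank hM) hM (grk_of_rank hM))).2
  rwa [dg_eq k hM] at h

omit [IsRegCurve X] in
include k in
theorem isCoh_tensor {A B : X.Modules} {a b : ℕ} (hA : FlatMod.IsFinLocFreeOfRank a A)
    (hB : FlatMod.IsFinLocFreeOfRank b B) : Coh.IsCoh (tmod A B) :=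
  CurveLib.isCoh_tmod (isCoh_of_rank hA) (isCoh_of_rank hB)

include k in
/-- `deg(A ⊗ B) = a deg B + b deg A`. -/
theorem deg_tensor [IsAlgClosed k] (hdim : topologicalKrullDim X = 1) {a b : ℕ} {A B : X.Modules}
    (hA : FlatMod.IsFinLocFreeOfRank a A) (hB : FlatMod.IsFinLocFreeOfRank b B) :
    Curv2.deg k X (tmod A B) (a * b) = a * Curv2.deg k X B b + b * Curv2.deg k X A a := by
  induction a generalizing A with
  | zero =>
    have hz : IsZero (tmod A B) :=
      (CurveLib.tensR B).map_isZero (isZero_of_mono (𝟙 A) (isCoh_of_rank hA) hA (grk_of_rank hA))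
    rw [deg_rank_zero k hA, Nat.zero_mul]
    obtain ⟨h1, h2⟩ := dg_isZero k hz
    rw [dg, h1] at h2
    simp [h2]
  | succ a ih =>
    obtain ⟨L, Q, f, g, w, hL, hQ, hS⟩ := exists_line_quot k hdim hA
    have hT := CurveLib.shortExact_tensR hS (CurveLib.freeAt_of_isFinLocFreeOfRank hB)
    have hLr := CurveLib.isFinLocFreeOfRank_one hL
    have h := CurveLib.deg_shortExact (k := k) hT (n₁ := b) (n₂ := (a + 1) * b) (n₃ := a * b)
      (isCoh_tensor k hLr hB) (isCoh_tensor k hA hB) (isCoh_tensor k hQ hB) (by ring)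
    have hd := CurveLib.deg_shortExact (k := k) hS (n₁ := 1) (n₂ := a + 1) (n₃ := a)
      (isCoh_of_rank hLr) (isCoh_of_rank hA) (isCoh_of_rank hQ) (by ring)
    have hl := CurveLib.deg_tensor_invertible (k := k) hdim.le hB hL
    have he := CurveLib.deg_iso (k := k) (CurveLib.tmodComm L B) b
    change Curv2.deg k X (tmod B L) b = _ at hl
    change Curv2.deg k X (tmod A B) ((a + 1) * b) =
      Curv2.deg k X (tmod L B) b + Curv2.deg k X (tmod Q B) (a * b) at h
    change Curv2.deg k X A (a + 1) = Curv2.deg k X L 1 + Curv2.deg k X Q a at hd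
    rw [he, hl, ih hQ] at h
    rw [h, hd]
    push_cast
    ring

include k in
/-- The dual of an invertible module has the opposite degree. -/
theorem deg_dd_line (hdim : topologicalKrullDim X ≤ 1) {L : X.Modules} (hL : PicF.IsInvertible L) :
    Curv2.deg k X (dd L) 1 = - Curv2.deg k X L 1 := by
  have hLr := CurveLib.isFinLocFreeOfRank_one hL
  have hD := isInvertible_of_rank (rank_dd hLr)
  let ev : tmod (dd L) L ⟶ Coh.structureModule X := StalkHomLib.ev L (Coh.structureModule X)
  haveI : Epi ev := DCohMore.epi_ev L (flf_of_rank hLr) fun x => by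
    obtain ⟨e⟩ := CurveLib.freeAt_of_isFinLocFreeOfRank hLr x
    exact e.toEquiv.nontrivial
  have hT : PicF.IsInvertible (tmod (dd L) L) := AmpleLib.isInvertible_tensor hD hL
  have hTr := CurveLib.isFinLocFreeOfRank_one hT
  obtain ⟨hKc, hKr, hKd⟩ := kernel_add k ev (isCoh_of_rank hTr) (isCoh_structureModule X)
  obtain ⟨h1, h2⟩ := dg_structureModule k (X := X)
  rw [grk_of_rank hTr, h1] at hKr
  have hz := (dg_isZero k (isZero_of_mono (kernel.ι ev) hKc hTr (by omega))).2
  rw [dg_eq k hTr, h2, hz] at hKd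
  have hadd := CurveLib.deg_tensor_add (k := k) hdim hD hL
  change Curv2.deg k X (tmod (dd L) L) 1 = _ at hadd
  linarith

include k in
/-- The dual has the opposite degree. -/
theorem deg_dd [IsAlgClosed k] (hdim : topologicalKrullDim X = 1) {n : ℕ} {E : X.Modules}
    (hE : FlatMod.IsFinLocFreeOfRank n E) : Curv2.deg k X (dd E) n = - Curv2.deg k X E n := by
  induction n generalizing E with
  | zero => rw [deg_rank_zero k hE, deg_rank_zero k (rank_dd hE), neg_zero]
  | succ n ih =>
    obtain ⟨L, Q, f, g, w, hL, hQ, hS⟩ := exists_line_quot k hdim hE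
    have hLr := CurveLib.isFinLocFreeOfRank_one hL
    obtain ⟨h, hT⟩ := exists_dual_seq hS hLr hE hQ
    have hd := CurveLib.deg_shortExact (k := k) hS (n₁ := 1) (n₂ := n + 1) (n₃ := n)
      (isCoh_of_rank hLr) (isCoh_of_rank hE) (isCoh_of_rank hQ) (by ring)
    have hd' := CurveLib.deg_shortExact (k := k) hT (n₁ := n) (n₂ := n + 1) (n₃ := 1)
      (isCoh_of_rank (rank_dd hQ)) (isCoh_of_rank (rank_dd hE)) (isCoh_of_rank (rank_dd hLr)) rfl
    change Curv2.deg k X E (n + 1) = Curv2.deg k X L 1 + Curv2.deg k X Q n at hd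
    change Curv2.deg k X (dd E) (n + 1) = Curv2.deg k X (dd Q) n + Curv2.deg k X (dd L) 1 at hd'
    rw [deg_dd_line k hdim.le hL, ih hQ] at hd'
    rw [hd, hd']
    ring

include k in
/-- A pair of bundles with positive pairing has a nonzero map. -/
theorem exists_map_ne_zero [IsAlgClosed k] (hdim : topologicalKrullDim X = 1) {q n : ℕ} {Q F : X.Modules}
    (hQ : FlatMod.IsFinLocFreeOfRank q Q) (hF : FlatMod.IsFinLocFreeOfRank n F)
    (h : (n : ℤ) * Curv2.deg k X Q q <
      q * Curv2.deg k X F n + (q : ℤ) * n * (1 - (Curv2.genus k X : ℤ))) :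
    ∃ φ : Q ⟶ F, φ ≠ 0 := by
  let G := tmod F (dd Q)
  have hG := deg_tensor k hdim hF (rank_dd hQ)
  rw [deg_dd k hdim hQ] at hG
  have hO : Curv2.euler k X (Coh.structureModule X) = 1 - (Curv2.genus k X : ℤ) := by
    rw [CurveLib.euler_eq_sub (k := k) hdim.le, CurveLib.finrank_H0_structure]
    rfl
  unfold Curv2.deg at hG h
  push_cast [hO] at hG h
  have hle := euler_le_finrank k hdim.le G
  haveI : Nontrivial (Coh.HH X G 0) := Module.nontrivial_of_finrank_pos (R := k) (by
    change Curv2.euler k X (tmod F (dd Q)) ≤ _ at hle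
    have : (0 : ℤ) < Module.finrank k (Coh.HH X G 0) := by
      change (0 : ℤ) < Module.finrank k (Coh.HH X (tmod F (dd Q)) 0)
      nlinarith
    exact_mod_cast this)
  obtain ⟨s, hs⟩ := CurveLib.exists_hom_ne_zero G
  haveI := LocFreeHomLib.isIso_alpha Q (flf_of_rank hQ) F
  let adj := ModSite.sheafHomAdj (O := X.sheaf) Q
  refine ⟨(CurveLib.tmodUnit Q).inv ≫ (adj.homEquiv _ F).symm (s ≫ LocFreeHomLib.alpha Q F), fun h0 => hs ?_⟩
  have h1 := Preadditive.IsIso.comp_left_eq_zero (f := (CurveLib.tmodUnit Q).inv)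
    ((adj.homEquiv (Coh.structureModule X) F).symm (s ≫ LocFreeHomLib.alpha Q F)) |>.1 h0
  rw [← cancel_mono (LocFreeHomLib.alpha Q F), zero_comp]
  haveI : ((DCoh.tensorBi (X := X)).flip.obj Q).Additive := ModTensor.additive_tensorBi_flip X.sheaf Q
  refine (adj.homEquiv (Coh.structureModule X) F).symm.injective (h1.trans ?_)
  rw [adj.homEquiv_counit]
  exact (by rw [Functor.map_zero, zero_comp])

include k in
/-- A degree zero bundle without maps to some bundle of slope `g - 1` is semistable. -/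
theorem isSlopeSemistable_of_hom_eq_zero [IsAlgClosed k] (hdim : topologicalKrullDim X = 1) {r n : ℕ} (hn : 0 < n)
    {E F : X.Modules} (hE : FlatMod.IsFinLocFreeOfRank r E) (hd : Curv2.deg k X E r = 0)
    (hF : FlatMod.IsFinLocFreeOfRank n F)
    (hdF : (n : ℤ) * ((Curv2.genus k X : ℤ) - 1) ≤ Curv2.deg k X F n) (hhom : ∀ φ : E ⟶ F, φ = 0) :
    ModFun.IsSlopeSemistable k X E r := by
  intro G s i hi hs hG
  haveI := hi
  rw [hd, zero_mul]
  refine mul_nonpos_of_nonpos_of_nonneg ?_ (Int.natCast_nonneg r)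
  by_contra hpos
  push Not at hpos
  have hEc := isCoh_of_rank hE
  obtain ⟨hCc, hCr, hCd⟩ := coker_add k i (isCoh_of_rank hG) hEc
  obtain ⟨Q, q, hq, hQc, hQf, hQr, hQd⟩ := exists_freeQuot k hdim.le hCc
  haveI := hq
  rw [dg_eq k hE, dg_eq k hG, hd] at hCd
  rw [dg_eq k hQf] at hQd
  have hQneg : Curv2.deg k X Q (grk Q) < 0 := by linarith
  have hQpos : 0 < grk Q := by
    by_contra h0
    obtain h0 : grk Q = 0 := by omega
    rw [h0] at hQf hQneg
    rw [deg_rank_zero k hQf] at hQneg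
    exact lt_irrefl _ hQneg
  obtain ⟨φ, hφ⟩ := exists_map_ne_zero k hdim hQf hF (by nlinarith)
  haveI : Epi (cokernel.π i ≫ q) := epi_comp _ _
  exact hφ (by rw [← cancel_epi (cokernel.π i ≫ q), hhom ((cokernel.π i ≫ q) ≫ φ), comp_zero])

end Groth.Agent.VBLib.DualDeg
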