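import Groth.Agent.VBLib.Point
import Groth.Agent.SingRRLib.RatPointPow
import Groth.Agent.CurveFF.RatPoint

/-!
# The ideal of a rational point
-/

set_option autoImplicit false
set_option backward.isDefEq.respectTransparency false
set_option backward.isDefEq.respectTransparency.types false
set_option linter.style.haveILetI false

universe u

open CategoryTheory CategoryTheory.Limits AlgebraicGeometry TopologicalSpace
open Groth.Agent.PullbackMod Groth.Agent.DevLib Groth.Agent.QCohLib

noncomputable section

namespace Groth.Agent.VBLib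

variable (k : Type u) [Field k] {X : Scheme.{u}} [X.Over (Spec (CommRingCat.of k))]
  [IsProper (X ↘ Spec (CommRingCat.of k))] [IsIntegral X] [IsNoetherian X] [IsRegCurve X]

include k in
/-- The ideal of a rational point: invertible of degree `-1`, with `h⁰(O/I) = 1`. -/
theorem exists_rat_point_sub [Smooth (X ↘ Spec (CommRingCat.of k))] (hdim : topologicalKrullDim X = 1)
    (s : Spec (CommRingCat.of k) ⟶ X) (hs : s ≫ (X ↘ Spec (CommRingCat.of k)) = 𝟙 _) :
    ∃ (P : X.Modules) (i : P ⟶ Coh.structureModule X), Mono i ∧ PicF.IsInvertible P ∧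
      Curv2.deg k X P 1 = -1 := by
  let p := s (IsLocalRing.closedPoint k)
  have hp : IsClosed ({p} : Set X) := CurveFF.isClosed_point_of_section s hs
  have hrat : Function.Surjective (Curv2.resMap k X p) := (CurveFF.resMap_bijective_of_section s hs).2
  haveI hreg : IsRegularLocalRing (X.presheaf.stalk p) := CurveLib.isRegularLocalRing_stalk_of_smooth (k := k) p
  let Z := Scheme.IdealSheafData.vanishingIdeal (⟨{p}, hp⟩ : Closeds X) ^ 1
  have hQ : Coh.IsCoh (ClSub.quotMod Z) := IntLib.isCoh_quotMod Z
  have hgen : genericPoint X ∉ CohB1.support (ClSub.quotMod Z) := fun h => by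
    have h1 := IntLib.support_quotMod_subset Z h
    rw [Scheme.IdealSheafData.support_pow_succ, Scheme.IdealSheafData.coe_support_vanishingIdeal] at h1
    change genericPoint X ∈ ({p} : Set X) at h1
    have h2 : (Set.univ : Set X) ⊆ {p} := by
      rw [← (genericPoint_spec X).def, h1]
      exact hp.closure_eq.le
    haveI : Subsingleton X := ⟨fun a b => (h2 (Set.mem_univ a)).trans (h2 (Set.mem_univ b)).symm⟩
    have : topologicalKrullDim X ≤ 0 := topologicalKrullDim_zero_of_discreteTopology X
    rw [hdim] at this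
    exact absurd this (by norm_num)
  have hQ0 : grk (ClSub.quotMod Z) = 0 := (grk_eq_zero_iff hQ).2 hgen
  have hQ1 : dg k (ClSub.quotMod Z) = 1 := by
    rw [(dg_eq_finrank k hdim.le hQ hQ0).1, SingRRLib.finrank_quot_pow hp hrat hdim hreg 1]
    rfl
  haveI : Epi (ClSub.toSubscheme Z) := HilbObsLib.epi_toSubscheme Z
  obtain ⟨hK, hr, hd⟩ := kernel_add k (ClSub.toSubscheme Z) (isCoh_structureModule X) hQ
  have hr' : grk (Coh.structureModule X) = grk (kernel (ClSub.toSubscheme Z)) + grk (ClSub.quotMod Z) := hr
  have hd' : dg k (Coh.structureModule X) = dg k (kernel (ClSub.toSubscheme Z)) + dg k (ClSub.quotMod Z) := hd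
  rw [hQ0] at hr'
  rw [hQ1] at hd'
  obtain ⟨h1, h2⟩ := dg_structureModule k (X := X)
  have hKf : FlatMod.IsFinLocFreeOfRank 1 (kernel (ClSub.toSubscheme Z)) := by
    have h := rank_of_mono (kernel.ι (ClSub.toSubscheme Z)) hK
      (CurveLib.isFinLocFreeOfRank_one ParaFLib.isInvertible_structureModule)
    rwa [show grk (kernel (ClSub.toSubscheme Z)) = 1 by omega] at h
  exact ⟨_, kernel.ι (ClSub.toSubscheme Z), inferInstance, isInvertible_of_rank hKf,
    (dg_eq k hKf).symm.trans (by omega)⟩

end Groth.Agent.VBLib
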