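import Groth.Agent.VBLib.CurveDual
import Groth.Agent.CurveFF.BC
import Groth.Agent.AmpleLib.Pullback
import Groth.Agent.SingRRLib.GenusOne

/-!
# Serre duality for smooth proper curves over any field
-/

set_option autoImplicit false
set_option backward.isDefEq.respectTransparency false
set_option linter.style.haveILetI false
set_option maxHeartbeats 1000000

universe u

open CategoryTheory CategoryTheory.Limits AlgebraicGeometry TopologicalSpace
open Groth.Agent.PullbackMod Groth.Agent.DevLib Groth.Agent.QCohLib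
open Groth.Agent.VBLib.Dual (hMap_comp hMap_add hMap_id hMap_zero hMap_cst tensR_map_cst surjective_H1_of_ne_zero exists_epi_lines)

noncomputable section

namespace Groth.Agent.VBLib.SDual

variable (k : Type u) [Field k] {X : Scheme.{u}} [X.Over (Spec (CommRingCat.of k))]
  [IsProper (X ↘ Spec (CommRingCat.of k))] [Smooth (X ↘ Spec (CommRingCat.of k))]
  [IsIntegral X] [IsNoetherian X] [IsRegCurve X] (hdim : topologicalKrullDim X = 1)
  (h0 : Module.finrank k (Coh.HH X (Coh.structureModule X) 0) = 1)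

include k hdim h0 in
theorem omega_invertible : PicF.IsInvertible (CurveFF.om k X) :=
  CurveFF.omega_invertible_of_smooth k hdim h0

include k hdim h0 in
/-- `h¹(L) = h⁰(Ω ⊗ L⁻¹)`, by extension to the algebraic closure. -/
theorem h1_eq_h0_dual {L M : X.Modules} (hL : PicF.IsInvertible L) (hM : ClSub.IsInverseOf L M) :
    Module.finrank k (Coh.HH X L 1) = Module.finrank k (Coh.HH X (CohB1.tensorMod (CurveFF.om k X) M) 0) := by
  let K := AlgebraicClosure k
  obtain ⟨_, _, _, hd⟩ := CurveFF.setup_bc k hdim h0 K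
  obtain ⟨φ⟩ := CurveFF.nonempty_omega_bc (k := k) (X := X) K
  have hMi := CurveFF.isInvertible_of_isInverseOf_right hM
  haveI := (CurveLib.isCoh_of_isInvertible hL).1
  haveI := (CurveLib.isCoh_of_isInvertible (AmpleLib.isInvertible_tensor (omega_invertible k hdim h0) hMi)).1
  let p := Curv2.bcFst k X K
  obtain ⟨η⟩ := hM
  have hM' : ClSub.IsInverseOf (ShBCLib.bcPull k K L) (ShBCLib.bcPull k K M) :=
    ⟨(AmpleLib.pullTensor p L M).symm ≪≫ (Scheme.Modules.pullback p).mapIso η ≪≫ AmpleLib.pullO p⟩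
  have h := CurveFF.h1_eq_h0_dual (k := K) hd (AmpleLib.isInvertible_pullback p hL) hM'
  rw [ShBCLib.finrank_HH_bc k K L 1] at h
  rw [h, ← ShBCLib.finrank_HH_bc k K (CohB1.tensorMod (CurveFF.om k X) M) 0]
  exact ShBCLib.finrank_HH_iso (AmpleLib.tIso φ.symm (Iso.refl _) ≪≫ (AmpleLib.pullTensor p (CurveFF.om k X) M).symm) 0

include k hdim h0 in
theorem omega_h1 : Module.finrank k (Coh.HH X (CurveFF.om k X) 1) = 1 := by
  obtain ⟨M, hM, ⟨η⟩⟩ := AmpleEmb.exists_isInverseOf (omega_invertible k hdim h0)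
  rw [h1_eq_h0_dual k hdim h0 (omega_invertible k hdim h0) ⟨η⟩]
  exact ((LinearEquiv.ofBijective _ (CurveLib.hMap_bijective_iso (k := k) η 0)).finrank_eq).trans h0

include k hdim h0 in
theorem nontrivial_H1_om : Nontrivial (Coh.HH X (CurveFF.om k X) 1) :=
  Module.nontrivial_of_finrank_pos (R := k) (by rw [omega_h1 k hdim h0]; exact Nat.one_pos)

include k hdim h0 in
/-- A map to `Ω` vanishing on `H¹` vanishes. -/
theorem eq_zero_of_hMap_eq_zero {K : X.Modules} (hK : Coh.IsCoh K) {ψ : K ⟶ CurveFF.om k X}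
    (h : ∀ z, CurveLib.hMap (k := k) ψ 1 z = 0) : ψ = 0 := by
  by_contra hψ
  haveI := nontrivial_H1_om k hdim h0
  obtain ⟨w, hw⟩ := exists_ne (0 : Coh.HH X (CurveFF.om k X) 1)
  obtain ⟨z, rfl⟩ := surjective_H1_of_ne_zero k hdim.le hK (omega_invertible k hdim h0) hψ w
  exact hw (h z)

include k hdim h0 in
/-- Duality for an invertible module. -/
theorem exists_hom_line {L : X.Modules} (hL : PicF.IsInvertible L)
    (l : Coh.HH X L 1 →ₗ[k] Coh.HH X (CurveFF.om k X) 1) :
    ∃ ψ : L ⟶ CurveFF.om k X, CurveLib.hMap (k := k) ψ 1 = l := by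
  obtain ⟨N, hN, ⟨η⟩⟩ := AmpleEmb.exists_isInverseOf hL
  haveI := isEquivalence_tensR (AmpleLib.comm N L ≪≫ η)
  let F := CurveLib.tensR N
  let M := CohB1.tensorMod (CurveFF.om k X) N
  have hΩ := omega_invertible k hdim h0
  let θ : Coh.HH X M 0 → (L ⟶ CurveFF.om k X) := fun c =>
    F.preimage (η.hom ≫ DCohLib.secHom M (CurveLib.secOf M c))
  have hθ : ∀ c, F.map (θ c) = η.hom ≫ DCohLib.secHom M (CurveLib.secOf M c) := fun c => F.map_preimage _
  have hadd : ∀ c d, θ (c + d) = θ c + θ d := fun c d => by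
    refine F.map_injective ?_
    rw [F.map_add, hθ, hθ, hθ, ← Preadditive.comp_add]
    congr 1
    rw [← AmpleLib.secHom_sec (_ + _ : Coh.structureModule X ⟶ M)]
    refine congrArg _ ?_
    rw [map_add]
    exact (congrArg₂ (· + ·) (AmpleLib.sec_secHom _) (AmpleLib.sec_secHom _)).symm
  have hsmul : ∀ (r : k) c, θ (r • c) = θ c ≫ (cst k (CurveFF.om k X) r : _ ⟶ _) := fun r c => by
    refine F.map_injective ?_
    rw [F.map_comp, hθ, hθ, Category.assoc]
    congr 1
    rw [tensR_map_cst, ← AmpleLib.secHom_sec (DCohLib.secHom M _ ≫ _)]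
    refine congrArg _ ?_
    rw [CurveLib.secOf_smul]
    show _ = (cst k M r : M ⟶ M).app ⊤ (AmpleLib.sec (DCohLib.secHom M (CurveLib.secOf M c)))
    rw [AmpleLib.sec_secHom]
    show _ = (FactorOne.mulEnd M _).app ⊤ _
    rw [FactorOne.mulEnd_app]
    exact congrArg (fun a : Γ(X, ⊤) => a • CurveLib.secOf M c)
      (ConcreteCategory.congr_hom (X.presheaf.map_id _) _).symm
  let Φ : Coh.HH X M 0 →ₗ[k] (Coh.HH X L 1 →ₗ[k] Coh.HH X (CurveFF.om k X) 1) :=
    { toFun := fun c => CurveLib.hMap (k := k) (θ c) 1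
      map_add' := fun c d => LinearMap.ext fun z => by
        rw [hadd]
        exact hMap_add k _ _ 1 z
      map_smul' := fun r c => LinearMap.ext fun z => by
        rw [hsmul, hMap_comp, hMap_cst]
        rfl }
  have hinj : Function.Injective Φ := by
    refine (injective_iff_map_eq_zero Φ).2 fun c hc => ?_
    have h0 : θ c = 0 := eq_zero_of_hMap_eq_zero k hdim h0 (CurveLib.isCoh_of_isInvertible hL)
      fun z => LinearMap.congr_fun hc z
    have h1 : η.hom ≫ DCohLib.secHom M (CurveLib.secOf M c) = 0 := by rw [← hθ, h0, F.map_zero]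
    rw [← comp_zero (f := η.hom), cancel_epi] at h1
    refine (CurveLib.secOf M).injective ?_
    rw [map_zero, ← AmpleLib.sec_secHom (CurveLib.secOf M c), h1]
    rfl
  haveI := EulerIneqLib.finite_HH (k := k) (CurveLib.isCoh_of_isInvertible (AmpleLib.isInvertible_tensor hΩ hN)) 0
  haveI := EulerIneqLib.finite_HH (k := k) (CurveLib.isCoh_of_isInvertible hL) 1
  haveI := EulerIneqLib.finite_HH (k := k) (CurveLib.isCoh_of_isInvertible hΩ) 1
  have hdimeq : Module.finrank k (Coh.HH X M 0) =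
      Module.finrank k (Coh.HH X L 1 →ₗ[k] Coh.HH X (CurveFF.om k X) 1) := by
    rw [Module.finrank_linearMap, omega_h1 k hdim h0, mul_one, h1_eq_h0_dual k hdim h0 hL ⟨η⟩]
  obtain ⟨c, hc⟩ := (LinearMap.injective_iff_surjective_of_finrank_eq_finrank hdimeq).1 hinj l
  exact ⟨θ c, hc⟩

include k hdim h0 in
/-- Every functional on `H¹` of a locally free module comes from a map to `Ω`. -/
theorem exists_hom {n : ℕ} {E : X.Modules} (hE : FlatMod.IsFinLocFreeOfRank n E)
    (l : Coh.HH X E 1 →ₗ[k] Coh.HH X (CurveFF.om k X) 1) :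
    ∃ φ : E ⟶ CurveFF.om k X, CurveLib.hMap (k := k) φ 1 = l := by
  classical
  obtain ⟨A, hA, hdA⟩ := CurveFF.exists_pos_deg k (X := X) hdim
  obtain ⟨L, m, φ, hL, hepi⟩ := exists_epi_lines k hdim hA hdA hE
  haveI := hepi
  have hEc := isCoh_of_rank hE
  choose ψ hψ using fun j => exists_hom_line k hdim h0 hL (l.comp (CurveLib.hMap (k := k) (φ j) 1))
  let B : Fin m → X.Modules := fun _ => L
  let Φ : (⨁ B) ⟶ E := biproduct.desc φ
  let Ψ : (⨁ B) ⟶ CurveFF.om k X := biproduct.desc ψ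
  have hkey : ∀ z, CurveLib.hMap (k := k) Ψ 1 z = l (CurveLib.hMap (k := k) Φ 1 z) := fun z => by
    let G : ((⨁ B) ⟶ ⨁ B) →+ Coh.HH X (⨁ B) 1 :=
      AddMonoidHom.mk' (fun f => CurveLib.hMap (k := k) f 1 z) fun f g => hMap_add k f g 1 z
    have hz : z = ∑ j, CurveLib.hMap (k := k) (biproduct.ι B j) 1 (CurveLib.hMap (k := k) (biproduct.π B j) 1 z) := by
      have h := congrArg G (biproduct.total (f := B))
      rw [map_sum] at h
      refine ((hMap_id k _ 1 z).symm.trans h.symm).trans (Finset.sum_congr rfl fun j _ => ?_)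
      exact hMap_comp k _ _ 1 z
    rw [hz]
    simp only [map_sum]
    refine Finset.sum_congr rfl fun j _ => ?_
    rw [← hMap_comp, ← hMap_comp k (biproduct.ι B j) Φ, biproduct.ι_desc, biproduct.ι_desc, hψ]
    rfl
  have hBc : Coh.IsCoh (kernel Φ) := by
    have hB : Coh.IsCoh (⨁ B) := ShStabLib.isCoh_of_iso (biproduct.isoCoproduct B).symm
      (DCohMore.isCoh_sigma_fin L (CurveLib.isCoh_of_isInvertible hL) m)
    exact (isCoh_kernel_cokernel Φ hB hEc).1
  have hzero : kernel.ι Φ ≫ Ψ = 0 := eq_zero_of_hMap_eq_zero k hdim h0 hBc fun z => by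
    rw [hMap_comp, hkey, ← hMap_comp, kernel.condition, hMap_zero, map_zero]
  refine ⟨Abelian.epiDesc Φ Ψ hzero, LinearMap.ext fun w => ?_⟩
  haveI := EulerIneqLib.isNoetherian_proper (X := X) k
  obtain ⟨z, hz⟩ := CurveLib.hMap_one_surjective (k := k) hdim.le Φ isClosed_empty
    (CurveLib.dim_le_zero_of_notMem hdim.le isClosed_empty (genericPoint_spec X) fun h => h)
    (fun x _ => (PullbackMod.epi_iff_stalk Φ).1 hepi x) w
  rw [← hz, ← hMap_comp, Abelian.comp_epiDesc, hkey]

include k hdim h0 in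
/-- Nonzero `H¹` gives a nonzero map to `Ω`. -/
theorem exists_hom_ne_zero {n : ℕ} {E : X.Modules} (hE : FlatMod.IsFinLocFreeOfRank n E)
    (h : ¬ Subsingleton (Coh.HH X E 1)) : ∃ φ : E ⟶ CurveFF.om k X, φ ≠ 0 := by
  haveI := not_subsingleton_iff_nontrivial.1 h
  haveI := nontrivial_H1_om k hdim h0
  obtain ⟨v, hv⟩ := exists_ne (0 : Coh.HH X E 1)
  let b := Module.Basis.ofVectorSpace k (Coh.HH X E 1)
  obtain ⟨f, hf⟩ : ∃ f, b.repr v f ≠ 0 := by
    by_contra hall
    push Not at hall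
    exact hv (b.repr.map_eq_zero_iff.1 (Finsupp.ext fun f => hall f))
  obtain ⟨w, hw⟩ := exists_ne (0 : Coh.HH X (CurveFF.om k X) 1)
  obtain ⟨φ, hφ⟩ := exists_hom k hdim h0 hE ((b.coord f).smulRight w)
  refine ⟨φ, fun h0 => ?_⟩
  have := LinearMap.congr_fun hφ v
  rw [h0, hMap_zero] at this
  exact smul_ne_zero hf hw this.symm

end Groth.Agent.VBLib.SDual
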