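import Groth.Agent.VBLib.CurveDual
import Groth.Agent.VBLib.GenusOne
import Groth.Agent.CurveFF.Sect
import Groth.Agent.AmpleEmb.Generated

/-!
# Vanishing and generation from slopes on a regular proper curve
-/

set_option autoImplicit false
set_option backward.isDefEq.respectTransparency false
set_option linter.style.haveILetI false
set_option maxHeartbeats 1000000

universe u

open CategoryTheory CategoryTheory.Limits AlgebraicGeometry TopologicalSpace
open Groth.Agent.PullbackMod Groth.Agent.DevLib Groth.Agent.QCohLib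

noncomputable section

namespace Groth.Agent.VBLib.Dual

variable (k : Type u) [Field k] {X : Scheme.{u}} [X.Over (Spec (CommRingCat.of k))]
  [IsProper (X ↘ Spec (CommRingCat.of k))] [IsAlgClosed k] [IsIntegral X] [IsNoetherian X] [IsRegCurve X]
  (hdim : topologicalKrullDim X = 1)

include k hdim in
/-- Nonzero `H¹` gives a submodule of corank one of large degree. -/
theorem exists_sub_of_H1 {r : ℕ} {E : X.Modules} (hE : FlatMod.IsFinLocFreeOfRank r E)
    (h : ¬ Subsingleton (Coh.HH X E 1)) :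
    ∃ (K : X.Modules) (j : K ⟶ E), Mono j ∧ 1 ≤ r ∧ FlatMod.IsFinLocFreeOfRank (r - 1) K ∧
      (r = 1 → Curv2.deg k X K (r - 1) = 0) ∧
      Curv2.deg k X E r - (2 * (Curv2.genus k X : ℤ) - 2) ≤ Curv2.deg k X K (r - 1) := by
  obtain ⟨φ, hφ⟩ := exists_hom_ne_zero k hdim hE h
  have hΩ := CurveFF.omega_invertible k (X := X) hdim
  have hΩc := CurveLib.isCoh_of_isInvertible hΩ
  have hΩr := CurveLib.isFinLocFreeOfRank_one hΩ
  obtain ⟨I, a, b, hb, ha, hab, hI, hK, h1, h2⟩ := exists_image k φ (isCoh_of_rank hE) hΩc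
  haveI := hb
  haveI := ha
  have hI0 : grk I ≠ 0 := fun hz => hφ (by rw [← hab, (isZero_of_mono b hI hΩr hz).eq_of_tgt a 0, zero_comp])
  obtain ⟨-, hr', -⟩ := coker_add k b hI hΩc
  rw [grk_of_rank hΩr] at hr'
  have hle := dg_le_of_mono k hdim.le b hI hΩc (by rw [grk_of_rank hΩr]; omega)
  rw [dg_eq k hΩr, CurveFF.omega_deg k hdim] at hle
  rw [grk_of_rank hE] at h1
  have hKr := rank_of_mono (kernel.ι φ) hK hE
  rw [show grk (kernel φ) = r - 1 by omega] at hKr
  rw [dg_eq k hE, dg_eq k hKr] at h2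
  refine ⟨kernel φ, kernel.ι φ, inferInstance, by omega, hKr, fun hr1 => ?_, by linarith [hle.1]⟩
  have := (dg_isZero k (isZero_of_mono (kernel.ι φ) hK hE (by omega))).2
  rwa [dg_eq k hKr] at this

include k hdim in
/-- `H¹` vanishes above slope `2g - 2`. -/
theorem subsingleton_H1_of_slope {r : ℕ} {E : X.Modules} (hE : FlatMod.IsFinLocFreeOfRank r E)
    (hss : ∀ (F : X.Modules) (r' : ℕ) (i : F ⟶ E), Mono i → 0 < r' → FlatMod.IsFinLocFreeOfRank r' F →
      Curv2.deg k X F r' * (r : ℤ) ≤ Curv2.deg k X E r * (r' : ℤ))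
    (hdeg : (r : ℤ) * (2 * (Curv2.genus k X : ℤ) - 2) < Curv2.deg k X E r) :
    Subsingleton (Coh.HH X E 1) := by
  by_contra h
  obtain ⟨K, j, hj, hr, hK, hK1, hd⟩ := exists_sub_of_H1 k hdim hE h
  rcases Nat.eq_zero_or_pos (r - 1) with h0 | h0
  · obtain rfl : r = 1 := by omega
    have := hK1 rfl
    push_cast at hdeg
    linarith
  · have h2 := hss K (r - 1) j hj h0 hK
    rw [Nat.cast_sub hr, Nat.cast_one] at h2
    nlinarith [mul_le_mul_of_nonneg_right hd (Int.natCast_nonneg r)]

include k hdim in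
/-- For stable modules of rank at least two also at slope `2g - 2`. -/
theorem subsingleton_H1_of_stable {r : ℕ} (hr : 2 ≤ r) {E : X.Modules} (hE : FlatMod.IsFinLocFreeOfRank r E)
    (hst : ∀ (F : X.Modules) (r' : ℕ) (i : F ⟶ E), Mono i → 0 < r' → r' < r → FlatMod.IsFinLocFreeOfRank r' F →
      Curv2.deg k X F r' * (r : ℤ) < Curv2.deg k X E r * (r' : ℤ))
    (hdeg : (r : ℤ) * (2 * (Curv2.genus k X : ℤ) - 2) ≤ Curv2.deg k X E r) :
    Subsingleton (Coh.HH X E 1) := by
  by_contra h
  obtain ⟨K, j, hj, hr', hK, -, hd⟩ := exists_sub_of_H1 k hdim hE h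
  have h2 := hst K (r - 1) j hj (by omega) (by omega) hK
  rw [Nat.cast_sub hr', Nat.cast_one] at h2
  nlinarith [mul_le_mul_of_nonneg_right hd (Int.natCast_nonneg r)]

omit [IsAlgClosed k] in
include k in
/-- Submodules of a twist are twists of submodules. -/
theorem exists_untwist_deg (hdim : topologicalKrullDim X ≤ 1) {r r' : ℕ} {E P F : X.Modules}
    (hE : FlatMod.IsFinLocFreeOfRank r E) (hP : PicF.IsInvertible P) (i : F ⟶ CohB1.tensorMod E P) [Mono i]
    (hF : FlatMod.IsFinLocFreeOfRank r' F) :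
    ∃ (G : X.Modules) (j : G ⟶ E), Mono j ∧ FlatMod.IsFinLocFreeOfRank r' G ∧
      Curv2.deg k X F r' = Curv2.deg k X G r' + r' * Curv2.deg k X P 1 := by
  obtain ⟨G, j, e, hj, hG, -⟩ := exists_untwist hP i (isCoh_of_rank hF)
  haveI := hj
  have hGr := rank_of_mono j hG hE
  rw [show grk G = r' from ((grk_twist hP G).symm.trans (grk_iso e)).trans (grk_of_rank hF)] at hGr
  exact ⟨G, j, hj, hGr, ((CurveLib.deg_iso (k := k) e r').symm.trans
    (CurveLib.deg_tensor_invertible (k := k) hdim hGr hP))⟩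

include k hdim in
/-- Vanishing of `H¹` of all twists by ideals of points gives generation. -/
theorem isGloballyGenerated_of_H1 {r : ℕ} {E : X.Modules} (hE : FlatMod.IsFinLocFreeOfRank r E)
    (h : ∀ P : X.Modules, PicF.IsInvertible P → Curv2.deg k X P 1 = -1 → Subsingleton (Coh.HH X (CohB1.tensorMod E P) 1)) :
    Curv2.IsGloballyGenerated E := by
  have hEc := isCoh_of_rank hE
  let F : X.Modules := DCohLib.tmod (Coh.structureModule X) E
  let eF : F ≅ E := CurveLib.tmodUnit E
  have hFc : Coh.IsCoh F := ShStabLib.isCoh_of_iso eF.symm hEc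
  refine AmpleLib.isGloballyGenerated_of_iso eF ?_
  -- generation at closed points
  have key : ∀ x : X, IsClosed ({x} : Set X) →
      Submodule.span (X.presheaf.stalk x) (Set.range fun s : Γ(F, ⊤) => F.presheaf.germ ⊤ x trivial s) = ⊤ := by
    intro x hxc
    obtain ⟨P, i, hi, hP, hdP, hsupp⟩ := exists_point_sub_at k hdim hxc
    haveI := hi
    haveI h0 : Subsingleton (Coh.HH X (CohB1.tensorMod E P) 1) := h P hP hdP
    let T : ShortComplex X.Modules := (cokerSeq i).map (CurveLib.tensR E)
    have hS : T.ShortExact :=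
      CurveLib.shortExact_tensR (cokerSeq_shortExact i) (CurveLib.freeAt_of_isFinLocFreeOfRank hE)
    haveI := hS.mono_f
    haveI := hS.epi_g
    let e₁ : T.X₁ ≅ CohB1.tensorMod E P := CurveLib.tmodComm P E
    have hT1 : Coh.IsCoh T.X₁ :=
      ShStabLib.isCoh_of_iso e₁.symm (CurveLib.isCoh_tmod hEc (CurveLib.isCoh_of_isInvertible hP))
    let eC : cokernel T.f ≅ T.X₃ := IsColimit.coconePointUniqueUpToIso (cokernelIsCokernel T.f) hS.gIsCokernel
    have hT3 : Coh.IsCoh T.X₃ := ShStabLib.isCoh_of_iso eC (isCoh_kernel_cokernel T.f hT1 hFc).2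
    have hg' : grk T.X₂ = grk T.X₁ + grk T.X₃ := grk_add hS hT1 hT3
    change grk F = _ at hg'
    rw [grk_iso eF, grk_iso e₁, grk_twist hP E, grk_of_rank hE] at hg'
    obtain ⟨-, hd3⟩ := dg_eq_finrank k hdim.le hT3 (by omega)
    haveI : Subsingleton (Coh.HH X T.X₁ 1) :=
      (CurveLib.hMap_bijective_iso (k := k) e₁ 1).1.subsingleton
    have hsurj : Function.Surjective (CurveLib.hMap (k := k) T.g 0) := fun z => by
      have hz : z ∈ LinearMap.ker (CurveLib.hδ (k := k) hS 0) := LinearMap.mem_ker.2 (Subsingleton.elim _ _)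
      exact (CurveLib.range_hMap_g (k := k) hS 0).ge hz
    -- the point ideal lies in the maximal ideal
    have hne : ¬ Function.Surjective (stalkLin i x) := by
      intro hsur
      have hz : IsZero (cokernel i) := isZero_of_support_empty (Set.eq_empty_of_forall_notMem fun y hy => hy (by
        by_cases hyx : y = x
        · subst hyx
          refine subsingleton_of_forall_eq 0 fun z => ?_
          obtain ⟨w, rfl⟩ := DevLib.coker_surjective i y z
          obtain ⟨v, rfl⟩ := hsur w
          exact (DevLib.coker_exact i y _).2 ⟨v, rfl⟩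
        · exact hsupp y hyx))
      obtain ⟨-, hr, hdd⟩ := coker_add k i (CurveLib.isCoh_of_isInvertible hP) (isCoh_structureModule X)
      rw [(dg_structureModule k (X := X)).2, dg_eq k (CurveLib.isFinLocFreeOfRank_one hP), hdP,
        (dg_isZero k hz).2] at hdd
      omega
    obtain ⟨eO⟩ := CurveLib.freeAt_one_of_isInvertible (ParaFLib.isInvertible_structureModule (X := X)) x
    have hm : ∀ p, ∃ a ∈ IsLocalRing.maximalIdeal (X.presheaf.stalk x),
        stalkLin i x p = a • eO.symm (fun _ => 1) := by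
      intro p
      refine ⟨eO (stalkLin i x p) 0, ?_, eO.injective (funext fun q => ?_)⟩
      · by_contra hu
        rw [IsLocalRing.mem_maximalIdeal, mem_nonunits_iff, not_not] at hu
        obtain ⟨b, hb⟩ := hu.exists_left_inv
        refine hne fun y => ⟨(eO y 0 * b) • p, eO.injective (funext fun q => ?_)⟩
        rw [map_smul, map_smul, Pi.smul_apply, smul_eq_mul, Fin.fin_one_eq_zero q, mul_assoc, hb, mul_one]
      · rw [map_smul, LinearEquiv.apply_symm_apply, Pi.smul_apply, smul_eq_mul, mul_one, Fin.fin_one_eq_zero q]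
    haveI := hFc.1
    haveI := finite_stalk_of_isFT (M := F) hFc.2 x
    refine top_le_iff.1 (Submodule.le_of_le_smul_of_le_jacobson_bot Module.Finite.fg_top
      (IsLocalRing.maximalIdeal_le_jacobson _) fun z _ => ?_)
    obtain ⟨τ, hτ, -⟩ := CurveLib.exists_global_germ' (DevLib.isClosed_support hT3) hd3 T.X₃ subset_rfl x
      (stalkLin T.g x z)
    obtain ⟨c, hc⟩ := hsurj ((CurveLib.secOf T.X₃).symm τ)
    have hdiff : stalkLin T.g x (z - F.presheaf.germ ⊤ x trivial (CurveLib.secOf F c)) = 0 := by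
      have h1 : stalkLin T.g x (F.presheaf.germ ⊤ x trivial (CurveLib.secOf F c)) = stalkLin T.g x z := by
        refine (Eq.trans (stalkLin_germ (U := ⊤) (hx := trivial) T.g ..) ?_)
        rw [show T.g.app ⊤ (CurveLib.secOf F c) = τ from
          (CurveLib.secOf_hMap (k := k) T.g c).symm.trans (by rw [hc, AddEquiv.apply_symm_apply])]
        exact hτ
      rw [map_sub, h1, sub_self]
    obtain ⟨w, hw⟩ := (stalk_exact hS x _).1 hdiff
    rw [Submodule.mem_sup]
    refine ⟨_, Submodule.subset_span ⟨CurveLib.secOf F c, rfl⟩, z - F.presheaf.germ ⊤ x trivial (CurveLib.secOf F c),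
      ?_, add_sub_cancel _ _⟩
    rw [← hw]
    clear hw hdiff
    obtain ⟨w, rfl⟩ := (DCohLib.stalkTensor x P E).surjective w
    induction w using TensorProduct.induction_on with
    | zero => simp
    | add u v hu hv => rw [map_add, map_add]; exact Submodule.add_mem _ hu hv
    | tmul p v =>
      obtain ⟨a, ha, hpa⟩ := hm p
      have h1 : stalkLin T.f x (DCohLib.stalkTensor x P E (p ⊗ₜ v)) =
          DCohLib.stalkTensor x (Coh.structureModule X) E (stalkLin i x p ⊗ₜ v) :=
        DCohLib.stalkTensor_natural_left x i (p ⊗ₜ v)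
      rw [h1, hpa, ← TensorProduct.smul_tmul', map_smul]
      exact Submodule.smul_mem_smul ha Submodule.mem_top
  -- generation everywhere
  refine AmpleEmb.isGloballyGenerated_of_span (ι := Γ(F, ⊤)) id fun x => ?_
  by_cases hx : IsClosed ({x} : Set X)
  · exact key x hx
  obtain rfl := CurveFF.eq_generic_of_not_closed k hdim hx
  rw [eq_top_iff]
  intro z _
  obtain ⟨U, hU, t, rfl⟩ := TopCat.Presheaf.exists_germ_eq F.presheaf z
  haveI : JacobsonSpace X := LocallyOfFiniteType.jacobsonSpace (X ↘ Spec (CommRingCat.of k))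
  obtain ⟨y, hyU, hy⟩ := nonempty_inter_closedPoints (Z := (U : Set X)) ⟨_, hU⟩ U.isOpen.isLocallyClosed
  rw [← CurveFF.spec_germ F hyU hU t]
  have hmem : F.presheaf.germ U y hyU t ∈
      Submodule.span (X.presheaf.stalk y) (Set.range fun s : Γ(F, ⊤) => F.presheaf.germ ⊤ y trivial s) := by
    rw [key y hy]; trivial
  generalize F.presheaf.germ U y hyU t = q at hmem ⊢
  induction hmem using Submodule.span_induction with
  | mem w hw =>
    obtain ⟨s, rfl⟩ := hw
    rw [CurveFF.spec_germ F (U := ⊤) trivial trivial s]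
    exact Submodule.subset_span ⟨s, rfl⟩
  | zero => rw [map_zero]; exact zero_mem _
  | add u v _ _ hu hv => rw [map_add]; exact add_mem hu hv
  | smul a w _ hw => rw [CurveFF.spec_smul]; exact Submodule.smul_mem _ _ hw

include k hdim in
/-- Semistable modules of slope above `2g - 1` are generated by their sections. -/
theorem isGloballyGenerated_of_slope {r : ℕ} {E : X.Modules} (hE : FlatMod.IsFinLocFreeOfRank r E)
    (hss : ∀ (F : X.Modules) (r' : ℕ) (i : F ⟶ E), Mono i → 0 < r' → FlatMod.IsFinLocFreeOfRank r' F →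
      Curv2.deg k X F r' * (r : ℤ) ≤ Curv2.deg k X E r * (r' : ℤ))
    (hdeg : (r : ℤ) * (2 * (Curv2.genus k X : ℤ) - 1) < Curv2.deg k X E r) :
    Curv2.IsGloballyGenerated E := by
  refine isGloballyGenerated_of_H1 k hdim hE fun P hP hdP => ?_
  have hd := CurveLib.deg_tensor_invertible (k := k) hdim.le hE hP
  change Curv2.deg k X (CohB1.tensorMod E P) r = _ at hd
  rw [hdP] at hd
  refine subsingleton_H1_of_slope k hdim (isFinLocFreeOfRank_twist hE hP) (fun F r' i hi h0 hF => ?_) (by linarith)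
  haveI := hi
  obtain ⟨G, j, hj, hG, hdF⟩ := exists_untwist_deg k hdim.le hE hP i hF
  have := hss G r' j hj h0 hG
  rw [hdF, hdP, hd]
  linarith

include k hdim in
/-- Stable modules of rank at least two and slope at least `2g - 1` are generated by their sections. -/
theorem isGloballyGenerated_of_stable {r : ℕ} (hr : 2 ≤ r) {E : X.Modules} (hE : FlatMod.IsFinLocFreeOfRank r E)
    (hst : ∀ (F : X.Modules) (r' : ℕ) (i : F ⟶ E), Mono i → 0 < r' → r' < r → FlatMod.IsFinLocFreeOfRank r' F →
      Curv2.deg k X F r' * (r : ℤ) < Curv2.deg k X E r * (r' : ℤ))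
    (hdeg : (r : ℤ) * (2 * (Curv2.genus k X : ℤ) - 1) ≤ Curv2.deg k X E r) :
    Curv2.IsGloballyGenerated E := by
  refine isGloballyGenerated_of_H1 k hdim hE fun P hP hdP => ?_
  have hd := CurveLib.deg_tensor_invertible (k := k) hdim.le hE hP
  change Curv2.deg k X (CohB1.tensorMod E P) r = _ at hd
  rw [hdP] at hd
  refine subsingleton_H1_of_stable k hdim hr (isFinLocFreeOfRank_twist hE hP) (fun F r' i hi h0 hlt hF => ?_)
    (by linarith)
  haveI := hi
  obtain ⟨G, j, hj, hG, hdF⟩ := exists_untwist_deg k hdim.le hE hP i hF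
  have := hst G r' j hj h0 hlt hG
  rw [hdF, hdP, hd]
  linarith

end Groth.Agent.VBLib.Dual
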