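import Groth.Agent.VBLib.Point
/-!
Invertible modules of degree `g - 1` without cohomology.
-/

set_option autoImplicit false
set_option backward.isDefEq.respectTransparency false
set_option linter.style.haveILetI false

universe u

open CategoryTheory CategoryTheory.Limits AlgebraicGeometry TopologicalSpace
open Groth.Agent.PullbackMod Groth.Agent.DevLib Groth.Agent.QCohLib

noncomputable section

namespace Groth.Agent.VBLib

variable (k : Type u) [Field k] [IsAlgClosed k] {X : Scheme.{u}} [X.Over (Spec (CommRingCat.of k))]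
  [IsProper (X ↘ Spec (CommRingCat.of k))] [IsIntegral X] [IsNoetherian X] [IsRegCurve X]

include k in
/-- Subtracting a general point kills one section and keeps `H¹ = 0`. -/
theorem exists_drop (hdim : topologicalKrullDim X = 1) {L : X.Modules} (hL : PicF.IsInvertible L)
    [Subsingleton (Coh.HH X L 1)] [Nontrivial (Coh.HH X L 0)] :
    ∃ L' : X.Modules, PicF.IsInvertible L' ∧ Subsingleton (Coh.HH X L' 1) ∧
      Curv2.deg k X L' 1 = Curv2.deg k X L 1 - 1 := by
  obtain ⟨s, hs⟩ := CurveLib.exists_hom_ne_zero L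
  obtain ⟨-, hC, hd, hQs, hm⟩ :=
    CurveLib.deg_eq_add_coker (k := k) hdim.le ParaFLib.isInvertible_structureModule hL hs
  haveI := hm
  obtain ⟨x, hxC, hxc⟩ : ∃ x ∈ (CohB1.support (cokernel s))ᶜ, IsClosed ({x} : Set X) := by
    haveI : JacobsonSpace X := LocallyOfFiniteType.jacobsonSpace (X ↘ Spec (CommRingCat.of k))
    obtain ⟨x, hx, hxc⟩ := nonempty_inter_closedPoints (Z := (CohB1.support (cokernel s))ᶜ)
      ⟨genericPoint X, CurveLib.genericPoint_notMem_support ParaFLib.isInvertible_structureModule hL hs⟩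
      hC.isOpen_compl.isLocallyClosed
    exact ⟨x, hx, hxc⟩
  obtain ⟨P, i, hi, hP, hdP, hsupp⟩ := exists_point_sub_at k hdim hxc
  haveI := hi
  let T : ShortComplex X.Modules := (cokerSeq i).map (CurveLib.tensR L)
  have hS : T.ShortExact :=
    CurveLib.shortExact_tensR (cokerSeq_shortExact i) (CurveLib.freeAt_one_of_isInvertible hL)
  haveI := hS.mono_f
  haveI := hS.epi_g
  let e₂ : T.X₂ ≅ L := CurveLib.tmodUnit L
  have hT1 : PicF.IsInvertible T.X₁ :=
    AmpleLib.isInvertible_tensor hP hL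
  have hT1c : Coh.IsCoh T.X₁ := CurveLib.isCoh_of_isInvertible hT1
  have hT2 : Coh.IsCoh T.X₂ := ShStabLib.isCoh_of_iso e₂.symm (CurveLib.isCoh_of_isInvertible hL)
  have hdT : Curv2.deg k X T.X₁ 1 = Curv2.deg k X L 1 - 1 := by
    refine (CurveLib.deg_tensor_add (k := k) hdim.le hP hL).trans ?_
    rw [hdP]
    ring
  refine ⟨T.X₁, hT1, ?_, hdT⟩
  let eC : cokernel T.f ≅ T.X₃ := IsColimit.coconePointUniqueUpToIso (cokernelIsCokernel T.f) hS.gIsCokernel
  have hT3 : Coh.IsCoh T.X₃ := ShStabLib.isCoh_of_iso eC (isCoh_kernel_cokernel T.f hT1c hT2).2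
  have hg := grk_add hS hT1c hT3
  have ha := dg_add k hS hT1c hT2 hT3
  rw [dg_iso k e₂, dg_eq k (CurveLib.isFinLocFreeOfRank_one hT1), hdT,
    dg_eq k (CurveLib.isFinLocFreeOfRank_one hL)] at ha
  rw [grk_iso e₂, grk_of_rank (CurveLib.isFinLocFreeOfRank_one hT1),
    grk_of_rank (CurveLib.isFinLocFreeOfRank_one hL)] at hg
  have h31 := (dg_eq_finrank k hdim.le hT3 (by omega)).1
  have hne : (s ≫ e₂.inv) ≫ T.g ≠ 0 := by
    intro h0
    have hz : IsZero T.X₃ := isZero_of_support_empty (Set.eq_empty_of_forall_notMem fun y hy => hy ?_)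
    · have := (dg_isZero k hz).2
      omega
    by_cases hyx : y = x
    · subst hyx
      haveI : Subsingleton ((cokernel s).presheaf.stalk y) := not_not.1 hxC
      have h1 : Function.Surjective (stalkLin (s ≫ e₂.inv) y) := by
        rw [stalkLin_comp]
        exact ((isIso_iff_stalk e₂.inv).1 inferInstance y).2.comp
          fun z => (DevLib.coker_exact s y z).1 (Subsingleton.elim _ _)
      refine subsingleton_of_forall_eq 0 fun z => ?_
      obtain ⟨w, rfl⟩ := (epi_iff_stalk T.g).1 inferInstance y z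
      obtain ⟨v, rfl⟩ := h1 w
      rw [← LinearMap.comp_apply, ← stalkLin_comp, h0, DevLib.stalkLin_zero]
      rfl
    · haveI : Subsingleton ((cokerSeq i).X₃.presheaf.stalk y) := hsupp y hyx
      exact (DCohLib.stalkTensor y (cokerSeq i).X₃ L).symm.toEquiv.subsingleton
  haveI := EulerIneqLib.finite_HH (k := k) hT3 0
  have hsurj : Function.Surjective (CurveLib.hMap (k := k) T.g 0) := by
    let c := (CurveLib.secOf T.X₂).symm (AmpleLib.sec (s ≫ e₂.inv))
    have hc : CurveLib.hMap (k := k) T.g 0 c ≠ 0 := fun h => hne (by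
      have h1 : T.g.app ⊤ (AmpleLib.sec (s ≫ e₂.inv)) = 0 := by
        rw [← (CurveLib.secOf T.X₂).apply_symm_apply (AmpleLib.sec (s ≫ e₂.inv)), ← CurveLib.secOf_hMap (k := k),
          h, map_zero]
      rw [← AmpleLib.secHom_sec ((s ≫ e₂.inv) ≫ T.g), ← AmpleLib.secHom_sec (0 : Coh.structureModule X ⟶ T.X₃)]
      exact congrArg _ h1)
    have h1 : Module.finrank k (Coh.HH X T.X₃ 0) = 1 := by omega
    intro z
    obtain ⟨a, ha⟩ := (finrank_eq_one_iff_of_nonzero' _ hc).1 h1 z
    exact ⟨a • c, by rw [map_smul, ha]⟩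
  haveI : Subsingleton (Coh.HH X T.X₂ 1) :=
    (CurveLib.hMap_bijective_iso (k := k) e₂ 1).1.subsingleton
  have hinj : Function.Injective (CurveLib.hMap (k := k) T.f 1) := by
    rw [← LinearMap.ker_eq_bot, ← CurveLib.range_hδ (k := k) hS 0, LinearMap.range_eq_bot]
    refine LinearMap.ext fun z => ?_
    exact LinearMap.mem_ker.1 ((CurveLib.range_hMap_g (k := k) hS 0).le (hsurj z))
  exact hinj.subsingleton

end Groth.Agent.VBLib
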