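import Groth.Agent.VBLib.SmoothDual
import Groth.Agent.VBLib.HomPair
import Groth.Agent.VBLib.Max
import Groth.Agent.VBLib.Slope
import Groth.Agent.VBLib.Ext
import Groth.Agent.CurveLib.MaxSections

/-!
# Bundles on smooth genus one curves over any field
-/

set_option autoImplicit false
set_option backward.isDefEq.respectTransparency false
set_option linter.style.haveILetI false
set_option maxHeartbeats 1000000

universe u

open CategoryTheory CategoryTheory.Limits AlgebraicGeometry TopologicalSpace
open Groth.Agent.PullbackMod Groth.Agent.DevLib Groth.Agent.QCohLib Groth.Agent.DCohLib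
open Groth.Agent.VBLib.DualDeg Groth.Agent.VBLib.HomPair

noncomputable section

namespace Groth.Agent.VBLib.GenusAny

variable (k : Type u) [Field k] {X : Scheme.{u}} [X.Over (Spec (CommRingCat.of k))]
  [IsProper (X ↘ Spec (CommRingCat.of k))] [Smooth (X ↘ Spec (CommRingCat.of k))]
  [IsIntegral X] [IsNoetherian X] [IsRegCurve X] (hdim : topologicalKrullDim X = 1)
  (hg : Curv2.genus k X = 1)

attribute [local irreducible] dg grk

include hdim hg in
/-- The canonical module is trivial. -/
theorem nonempty_omega_iso : Nonempty (CurveFF.om k X ≅ Coh.structureModule X) := by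
  have h0 := SingRRLib.h0_eq_one_of_genus_one (k := k) hdim.le hg
  obtain ⟨hd, hh⟩ := CurveFF.omega_deg_h0 k hdim h0
  rw [hg] at hd hh
  haveI : Nontrivial (Coh.HH X (CurveFF.om k X) 0) := Module.nontrivial_of_finrank_pos (R := k) (by omega)
  obtain ⟨s, hs⟩ := CurveLib.exists_hom_ne_zero (CurveFF.om k X)
  exact CurveLib.nonempty_iso_structureModule (k := k) hdim.le (SDual.omega_invertible k hdim h0) s hs
    (by rw [hd]; norm_num)

include hdim hg in
/-- A nonzero extension class space gives a nonzero map. -/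
theorem exists_map_ne_zero {a b : ℕ} {A B : X.Modules} (hA : FlatMod.IsFinLocFreeOfRank a A)
    (hB : FlatMod.IsFinLocFreeOfRank b B) (hne : ¬ Subsingleton (Coh.HH X (tmod A (dd B)) 1)) :
    ∃ ψ : A ⟶ B, ψ ≠ 0 := by
  have h0 := SingRRLib.h0_eq_one_of_genus_one (k := k) hdim.le hg
  obtain ⟨φ, hφ⟩ := SDual.exists_hom_ne_zero k hdim h0 (rank_tensor hA (rank_dd hB)) hne
  obtain ⟨η⟩ := nonempty_omega_iso k hdim hg
  exact exists_map_of_dual_map hB (φ := φ ≫ η.hom) (fun h => hφ (by rwa [← cancel_mono η.hom, zero_comp]))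

omit [Smooth (X ↘ Spec (CommRingCat.of k))] in
include k in
/-- There are no maps from a semistable bundle to one of smaller slope. -/
theorem eq_zero_of_slope_lt {a b : ℕ} {A B : X.Modules} (hA : FlatMod.IsFinLocFreeOfRank a A)
    (hB : FlatMod.IsFinLocFreeOfRank b B) (ha : SlopeLE k A (dg k A) a) (hb : SlopeLE k B (dg k B) b)
    (hlt : dg k B * a < dg k A * b) (f : A ⟶ B) : f = 0 := by
  by_contra hf
  obtain ⟨I, p, i, hi, -, hpi, hI, hK, h1, h2⟩ := exists_image k f (isCoh_of_rank hA) (isCoh_of_rank hB)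
  haveI := hi
  have hI0 : grk I ≠ 0 := fun hz => hf (by
    rw [← hpi, (isZero_of_mono i hI hB hz).eq_of_tgt p 0, zero_comp])
  have q1 := slopeLE_all k hA ha (kernel.ι f) hK
  have q2 := slopeLE_all k hB hb i hI
  rw [grk_of_rank hA] at h1
  have e1 : (a : ℤ) = grk (kernel f) + grk I := by exact_mod_cast h1
  have q3 : dg k A * grk I ≤ dg k I * a := by
    rw [h2]
    rw [h2] at q1
    rw [e1] at q1 ⊢
    linarith
  have hpos : (0 : ℤ) < grk I := by
    have := Nat.pos_of_ne_zero hI0
    exact_mod_cast this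
  have q4 := mul_le_mul_of_nonneg_left q3 (Int.natCast_nonneg b)
  have q5 := mul_le_mul_of_nonneg_left q2 (Int.natCast_nonneg a)
  have q6 := mul_lt_mul_of_pos_right hlt hpos
  linarith

include hdim hg in
/-- An extension of semistable bundles by one of larger slope splits. -/
theorem isSplitEpi_of_slope_lt {a b : ℕ} {T : ShortComplex X.Modules} (hT : T.ShortExact)
    (hA : FlatMod.IsFinLocFreeOfRank a T.X₁) (hB : FlatMod.IsFinLocFreeOfRank b T.X₃)
    (ha : SlopeLE k T.X₁ (dg k T.X₁) a) (hb : SlopeLE k T.X₃ (dg k T.X₃) b)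
    (hlt : dg k T.X₃ * a < dg k T.X₁ * b) : IsSplitEpi T.g := by
  refine isSplitEpi_of_subsingleton k hT hA hB ?_
  by_contra hne
  obtain ⟨ψ, hψ⟩ := exists_map_ne_zero k hdim hg hA hB hne
  exact hψ (eq_zero_of_slope_lt k hA hB ha hb hlt ψ)

include hdim hg in
/-- Indecomposable bundles on a curve of genus one are semistable. -/
theorem slopeLE_of_indecomposable {r : ℕ} (hr : 0 < r) {E : X.Modules} (hE : FlatMod.IsFinLocFreeOfRank r E)
    (hind : ∀ (E₁ E₂ : X.Modules), Nonempty (E ≅ E₁ ⊞ E₂) → IsZero E₁ ∨ IsZero E₂) :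
    SlopeLE k E (dg k E) r := by
  by_contra hns
  have hEc := isCoh_of_rank hE
  obtain ⟨G, i, hi, hG, hGpos, hmax⟩ := exists_maxSlope k hdim.le hEc (by rw [grk_of_rank hE]; exact hr)
  haveI := hi
  have hbig : dg k E * grk G < dg k G * r := by
    by_contra hle
    push Not at hle
    refine hns fun H j hj hH hpos => ?_
    have h := (hmax H j hj hH hpos).1
    have h0 : (0 : ℤ) < grk G := by exact_mod_cast hGpos
    refine le_of_mul_le_mul_right ?_ h0
    have q1 := mul_le_mul_of_nonneg_left h (Int.natCast_nonneg r)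
    have q2 := mul_le_mul_of_nonneg_left hle (Int.natCast_nonneg (grk H))
    linarith
  obtain ⟨hCc, hCr, hCd⟩ := coker_add k i hG hEc
  obtain ⟨Q, q, hq, hQc, hQf, hQr, hQd⟩ := exists_freeQuot k hdim.le hCc
  haveI := hq
  let π : E ⟶ Q := cokernel.π i ≫ q
  haveI : Epi π := epi_comp _ _
  obtain ⟨hKc, hKr, hKd⟩ := kernel_add k π hEc hQc
  rw [grk_of_rank hE] at hCr hKr
  have hQpos : 0 < grk Q := by
    by_contra h0
    have hd1 := (dg_le_of_mono k hdim.le i hG hEc (by rw [grk_of_rank hE]; omega)).1
    rw [show grk G = r by omega] at hbig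
    nlinarith
  have hKG : grk (kernel π) = grk G := by omega
  have hKf := rank_of_mono (kernel.ι π) hKc hE
  have hK := hmax (kernel π) (kernel.ι π) inferInstance hKc (by omega)
  have hKdg : dg k (kernel π) = dg k G := by
    have h := hK.1
    rw [hKG] at h
    have h0 : (0 : ℤ) < grk G := by exact_mod_cast hGpos
    have := le_of_mul_le_mul_right h h0
    omega
  -- subsheaves of the quotient have smaller slope
  have hQs : ∀ (H : X.Modules) (j : H ⟶ Q), Mono j → Coh.IsCoh H → 0 < grk H →
      dg k H * grk G < dg k G * grk H := by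
    intro H j hj hH hpos
    haveI := hj
    obtain ⟨hDc, hDr, hDd⟩ := coker_add k j hH hQc
    haveI : Epi (π ≫ cokernel.π j) := epi_comp _ _
    obtain ⟨hPc, hPr, hPd⟩ := kernel_add k (π ≫ cokernel.π j) hEc hDc
    rw [grk_of_rank hE] at hPr
    have h := hmax (kernel (π ≫ cokernel.π j)) (kernel.ι _) inferInstance hPc (by omega)
    have e1 : dg k (kernel (π ≫ cokernel.π j)) = dg k G + dg k H := by omega
    have e2 : grk (kernel (π ≫ cokernel.π j)) = grk G + grk H := by omega
    rw [e1, e2] at h
    push_cast at h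
    refine lt_of_le_of_ne (by linarith [h.1]) fun he => ?_
    have := h.2 (by linarith)
    omega
  have hsub : Subsingleton (Coh.HH X (tmod (kernel π) (dd Q)) 1) := by
    by_contra hne
    obtain ⟨ψ, hψ⟩ := exists_map_ne_zero k hdim hg hKf hQf hne
    have hKss : SlopeLE k (kernel π) (dg k (kernel π)) (grk (kernel π)) := by
      intro H j hj hH hpos
      haveI := hj
      have h := (hmax H (j ≫ kernel.ι π) (mono_comp _ _) hH hpos).1
      rwa [hKdg, hKG]
    obtain ⟨I, p, b, hb, -, -, hI, hI0, hle, -⟩ := exists_image_slope k hKf hQf hψ hKss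
    have h := hQs I b hb hI hI0
    rw [hKdg, hKG] at hle
    linarith
  let S : ShortComplex X.Modules := ShortComplex.mk (kernel.ι π) π (kernel.condition π)
  have hS : S.ShortExact :=
    ShortComplex.ShortExact.mk' (ShortComplex.exact_of_f_is_kernel _ (kernelIsKernel π)) inferInstance inferInstance
  haveI := isSplitEpi_of_subsingleton k hS hKf hQf hsub
  haveI : Mono S.f := hS.mono_f
  let sp : S.Splitting := ShortComplex.Splitting.ofExactOfSection S hS.exact (section_ S.g) (IsSplitEpi.id S.g) inferInstance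
  rcases hind _ _ ⟨sp.isoBinaryBiproduct⟩ with hz | hz
  · exact nonzero_of_rank k (show 0 < grk (kernel π) by omega) hKf hz
  · exact nonzero_of_rank k hQpos hQf hz

end Groth.Agent.VBLib.GenusAny
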