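import Groth.Agent.VBLib.OddDet
import Groth.Agent.VBLib.GenusAny

/-!
# Indecomposable rank two bundles of degree zero with a section
-/

set_option autoImplicit false
set_option backward.isDefEq.respectTransparency false
set_option linter.style.haveILetI false
set_option maxHeartbeats 1000000

universe u

open CategoryTheory CategoryTheory.Limits AlgebraicGeometry TopologicalSpace
open Groth.Agent.PullbackMod Groth.Agent.DevLib Groth.Agent.QCohLib Groth.Agent.DCohLib
open Groth.Agent.VBLib.DualDeg Groth.Agent.VBLib.HomPair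

noncomputable section

namespace Groth.Agent.VBLib.SelfExt

variable (k : Type u) [Field k] {X : Scheme.{u}} [X.Over (Spec (CommRingCat.of k))]
  [IsProper (X ↘ Spec (CommRingCat.of k))] [IsIntegral X] [IsNoetherian X] [IsRegCurve X]
  [IsAlgClosed k] (hdim : topologicalKrullDim X = 1) (hg : Curv2.genus k X = 1)

attribute [local irreducible] dg grk

local notation "𝒪" => Coh.structureModule X

include hdim hg in
/-- An indecomposable rank two bundle of degree zero with a section is a nonsplit extension of `O` by `O`. -/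
theorem exists_selfExt_structure {E : X.Modules} (hE : FlatMod.IsFinLocFreeOfRank 2 E)
    (hind : ∀ (E₁ E₂ : X.Modules), Nonempty (E ≅ E₁ ⊞ E₂) → IsZero E₁ ∨ IsZero E₂)
    (hd : Curv2.deg k X E 2 = 0) (h0 : Nontrivial (Coh.HH X E 0)) :
    ∃ (f : 𝒪 ⟶ E) (g : E ⟶ 𝒪) (w : f ≫ g = 0), (ShortComplex.mk f g w).ShortExact ∧ ¬ IsSplitEpi g := by
  haveI := h0
  have hEc := isCoh_of_rank hE
  have hOr := CurveLib.isFinLocFreeOfRank_one (ParaFLib.isInvertible_structureModule (X := X))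
  have hOc := isCoh_of_rank hOr
  obtain ⟨o1, o2⟩ := dg_structureModule k (X := X)
  have hss : SlopeLE k E (dg k E) 2 := Atiyah.slopeLE_of_indecomposable k hdim hg two_pos hE hind
  rw [dg_eq k hE, hd] at hss
  obtain ⟨j, hj⟩ := CurveLib.exists_hom_ne_zero E
  haveI : Mono j := by
    obtain ⟨I, p, i, hi, -, hpi, hI, hK, h1, -⟩ := exists_image k j hOc hEc
    haveI := hi
    have hI0 : grk I ≠ 0 := fun hz => hj (by
      rw [← hpi, (isZero_of_mono i hI hE hz).eq_of_tgt p 0, zero_comp])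
    rw [o1] at h1
    exact Preadditive.mono_of_isZero_kernel j (isZero_of_mono (kernel.ι j) hK hOr (by omega))
  obtain ⟨hCc, hCr, hCd⟩ := coker_add k j hOc hEc
  obtain ⟨Q, p, hp, hQc, hQf, hQr, hQd⟩ := exists_freeQuot k hdim.le hCc
  haveI := hp
  let π : E ⟶ Q := cokernel.π j ≫ p
  haveI : Epi π := epi_comp _ _
  obtain ⟨hKc, hKr, hKd⟩ := kernel_add k π hEc hQc
  rw [grk_of_rank hE] at hCr hKr
  rw [o1] at hCr
  rw [dg_eq k hE, hd, o2] at hCd
  rw [dg_eq k hE, hd] at hKd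
  have hK1 : grk (kernel π) = 1 := by omega
  have hKss := hss (kernel π) (kernel.ι π) inferInstance hKc (by omega)
  rw [hK1] at hKss
  push_cast at hKss
  let l : 𝒪 ⟶ kernel π := kernel.lift π j (by simp [π])
  haveI : Mono l := mono_of_mono_fac (kernel.lift_ι π j _)
  haveI : IsIso l := (dg_le_of_mono k hdim.le l hOc hKc (by rw [o1, hK1])).2 (by rw [o2]; omega)
  rw [show grk Q = 1 by omega] at hQf
  let T : ShortComplex X.Modules := ShortComplex.mk (kernel.ι π) π (kernel.condition π)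
  have hT : T.ShortExact :=
    ShortComplex.ShortExact.mk' (ShortComplex.exact_of_f_is_kernel _ (kernelIsKernel π)) inferInstance inferInstance
  have w : j ≫ π = 0 := by simp [π]
  have hS : (ShortComplex.mk j π w).ShortExact :=
    ShortComplex.shortExact_of_iso (show T ≅ ShortComplex.mk j π w from
      ShortComplex.isoMk (asIso l).symm (Iso.refl E) (Iso.refl Q)
        (by simp [T, l]) (by simp [T])) hT
  have hns : ¬ IsSplitEpi π := fun hsp => by
    haveI := hsp
    let sp : (ShortComplex.mk j π w).Splitting :=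
      ShortComplex.Splitting.ofExactOfSection (ShortComplex.mk j π w) hS.exact (section_ π) (IsSplitEpi.id π) inferInstance
    rcases hind _ _ ⟨sp.isoBinaryBiproduct⟩ with hz | hz
    · exact nonzero_of_rank k one_pos hOr hz
    · exact nonzero_of_rank k one_pos hQf hz
  have hne : ¬ Subsingleton (Coh.HH X (tmod 𝒪 (dd Q)) 1) := fun h =>
    hns (isSplitEpi_of_subsingleton k hS hOr hQf h)
  obtain ⟨φ, hφ⟩ := Dual.exists_hom_ne_zero k hdim (rank_tensor hOr (rank_dd hQf)) hne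
  haveI := Dual.nontrivial_H1_om k hdim (X := X)
  obtain ⟨η⟩ := nonempty_iso_structure k hdim hg (CurveFF.omega_invertible k (X := X) hdim)
    (by rw [CurveFF.omega_deg k hdim, hg]; norm_num) (not_subsingleton _)
  obtain ⟨ψ, hψ⟩ := exists_map_of_dual_map hQf (φ := φ ≫ η.hom)
    (fun h0 => hφ (by rwa [← cancel_mono η.hom, zero_comp]))
  haveI := CurveLib.mono_of_ne_zero ParaFLib.isInvertible_structureModule (isInvertible_of_rank hQf) hψ
  haveI : IsIso ψ := (dg_le_of_mono k hdim.le ψ hOc hQc (by rw [o1, grk_of_rank hQf])).2 (by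
    rw [o2]
    omega)
  have w2 : j ≫ π ≫ inv ψ = 0 := by rw [← Category.assoc, w, zero_comp]
  refine ⟨j, π ≫ inv ψ, w2,
    ShortComplex.shortExact_of_iso (show ShortComplex.mk j π w ≅ ShortComplex.mk j (π ≫ inv ψ) w2 from
      ShortComplex.isoMk (Iso.refl _) (Iso.refl E) (asIso ψ).symm (by simp) (by simp)) hS,
    fun hsp => hns ?_⟩
  obtain ⟨⟨σ, hσ⟩⟩ := hsp
  refine ⟨⟨⟨inv ψ ≫ σ, ?_⟩⟩⟩
  rw [← cancel_mono (inv ψ), Category.assoc, Category.assoc, hσ, Category.comp_id, Category.id_comp]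

omit [IsAlgClosed k] in
include k in
/-- An extension of maps of the kernels of self-extensions is an isomorphism. -/
theorem nonempty_iso_of_lift (hdim : topologicalKrullDim X ≤ 1) {E E' P : X.Modules}
    {f : 𝒪 ⟶ E} {g : E ⟶ 𝒪} {w : f ≫ g = 0} (hS : (ShortComplex.mk f g w).ShortExact) (hns : ¬ IsSplitEpi g)
    {f' : 𝒪 ⟶ E'} {g' : E' ⟶ 𝒪} {w' : f' ≫ g' = 0} (hS' : (ShortComplex.mk f' g' w').ShortExact)
    {a : E ⟶ P} {a' : E' ⟶ P} (hsq : f ≫ a = f' ≫ a') {q : P ⟶ 𝒪} {z : a' ≫ q = 0}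
    (hT : (ShortComplex.mk a' q z).ShortExact) (hq : a ≫ q = g) {s : 𝒪 ⟶ P} (hs : s ≫ q ≠ 0) :
    Nonempty (E ≅ E') := by
  have hO := ParaFLib.isInvertible_structureModule (X := X)
  have hOc := isCoh_of_rank (CurveLib.isFinLocFreeOfRank_one hO)
  haveI := hT.mono_f
  haveI : Mono f := hS.mono_f
  haveI : Epi g := hS.epi_g
  haveI : Mono f' := hS'.mono_f
  have hiso : ∀ {u : 𝒪 ⟶ 𝒪}, u ≠ 0 → IsIso u := fun {u} hu => by
    haveI := CurveLib.mono_of_ne_zero hO hO hu
    exact (dg_le_of_mono k hdim u hOc hOc rfl).2 le_rfl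
  haveI := hiso hs
  let σ : 𝒪 ⟶ P := inv (s ≫ q) ≫ s
  have hσ : σ ≫ q = 𝟙 _ := by simp [σ]
  have h0 : (a - g ≫ σ) ≫ q = 0 := by rw [Preadditive.sub_comp, Category.assoc, hσ, Category.comp_id, hq, sub_self]
  obtain ⟨φ, hφ⟩ : ∃ φ, φ ≫ a' = a - g ≫ σ :=
    ⟨hT.exact.lift (a - g ≫ σ) h0, hT.exact.lift_f (a - g ≫ σ) h0⟩
  have hfφ : f ≫ φ = f' := by
    rw [← cancel_mono a', Category.assoc, hφ, Preadditive.comp_sub, ← Category.assoc, w, zero_comp, sub_zero, hsq]
  haveI : Epi (ShortComplex.mk f g w).g := ‹Epi g›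
  have h1 : f ≫ φ ≫ g' = 0 := by rw [← Category.assoc, hfφ, w']
  obtain ⟨ψ, hψ⟩ : ∃ ψ, g ≫ ψ = φ ≫ g' := ⟨hS.exact.desc (φ ≫ g') h1, hS.exact.g_desc (φ ≫ g') h1⟩
  have hψ0 : ψ ≠ 0 := fun hz => hns (by
    haveI : Mono (ShortComplex.mk f' g' w').f := ‹Mono f'›
    have h2 : φ ≫ g' = 0 := by rw [← hψ, hz, comp_zero]
    obtain ⟨ρ, hρ⟩ : ∃ ρ, ρ ≫ f' = φ := ⟨hS'.exact.lift φ h2, hS'.exact.lift_f φ h2⟩
    have h3 : f ≫ ρ = 𝟙 _ := by rw [← cancel_mono f', Category.assoc, hρ, hfφ, Category.id_comp]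
    let sp : (ShortComplex.mk f g w).Splitting :=
      ShortComplex.Splitting.ofExactOfRetraction (ShortComplex.mk f g w) hS.exact ρ h3 ‹Epi g›
    exact ⟨⟨⟨sp.s, sp.s_g⟩⟩⟩)
  haveI := hiso hψ0
  let m : ShortComplex.mk f g w ⟶ ShortComplex.mk f' g' w' :=
    { τ₁ := 𝟙 _, τ₂ := φ, τ₃ := ψ, comm₁₂ := by simp [hfφ], comm₂₃ := hψ.symm }
  haveI : IsIso m.τ₁ := inferInstanceAs (IsIso (𝟙 _))
  haveI : IsIso m.τ₃ := inferInstanceAs (IsIso ψ)
  haveI : IsIso φ := ShortComplex.isIso₂_of_shortExact_of_isIso₁₃ m hS hS'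
  exact ⟨asIso φ⟩

open H0SS in
include hdim hg in
/-- Two nonsplit self-extensions of `O` are isomorphic. -/
theorem nonempty_iso_of_selfExt {E E' : X.Modules}
    (hE : FlatMod.IsFinLocFreeOfRank 2 E) (hE' : FlatMod.IsFinLocFreeOfRank 2 E')
    {f : 𝒪 ⟶ E} {g : E ⟶ 𝒪} {w : f ≫ g = 0} (hS : (ShortComplex.mk f g w).ShortExact) (hns : ¬ IsSplitEpi g)
    {f' : 𝒪 ⟶ E'} {g' : E' ⟶ 𝒪} {w' : f' ≫ g' = 0} (hS' : (ShortComplex.mk f' g' w').ShortExact)
    (hns' : ¬ IsSplitEpi g') : Nonempty (E ≅ E') := by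
  have hO := ParaFLib.isInvertible_structureModule (X := X)
  have hOr := CurveLib.isFinLocFreeOfRank_one hO
  have hOc := isCoh_of_rank hOr
  obtain ⟨o1, o2⟩ := dg_structureModule k (X := X)
  haveI : Mono f := hS.mono_f
  haveI : Mono f' := hS'.mono_f
  haveI : Epi g := hS.epi_g
  haveI : Epi g' := hS'.epi_g
  let a : E ⟶ pushout f f' := pushout.inl f f'
  let a' : E' ⟶ pushout f f' := pushout.inr f f'
  let q₁ : pushout f f' ⟶ 𝒪 := pushout.desc g 0 (by rw [w, comp_zero])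
  let q₂ : pushout f f' ⟶ 𝒪 := pushout.desc 0 g' (by rw [w', comp_zero])
  have hq₁ : a ≫ q₁ = g := pushout.inl_desc _ _ _
  have hq₁' : a' ≫ q₁ = 0 := pushout.inr_desc _ _ _
  have hq₂ : a ≫ q₂ = 0 := pushout.inl_desc _ _ _
  have hq₂' : a' ≫ q₂ = g' := pushout.inr_desc _ _ _
  haveI : Epi q₁ := epi_of_epi_fac hq₁
  haveI : Epi q₂ := epi_of_epi_fac hq₂'
  have hT₁ : (ShortComplex.mk a' q₁ hq₁').ShortExact :=
    ShortComplex.ShortExact.mk' (ShortComplex.exact_of_g_is_cokernel _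
      (CokernelCofork.IsColimit.ofπ' q₁ hq₁' fun {Z} h (hh : a' ≫ h = 0) => by
        have e : f ≫ a ≫ h = 0 := by
          rw [← Category.assoc, show f ≫ a = f' ≫ a' from pushout.condition, Category.assoc, hh, comp_zero]
        haveI : Epi (ShortComplex.mk f g w).g := ‹Epi g›
        refine ⟨hS.exact.desc (a ≫ h) e, pushout.hom_ext ?_ ?_⟩
        · rw [← Category.assoc, hq₁]
          exact hS.exact.g_desc (a ≫ h) e
        · rw [← Category.assoc, hq₁', zero_comp]
          exact hh.symm)) inferInstance inferInstance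
  have hT₂ : (ShortComplex.mk a q₂ hq₂).ShortExact :=
    ShortComplex.ShortExact.mk' (ShortComplex.exact_of_g_is_cokernel _
      (CokernelCofork.IsColimit.ofπ' q₂ hq₂ fun {Z} h (hh : a ≫ h = 0) => by
        have e : f' ≫ a' ≫ h = 0 := by
          rw [← Category.assoc, show f' ≫ a' = f ≫ a from pushout.condition.symm, Category.assoc, hh, comp_zero]
        haveI : Epi (ShortComplex.mk f' g' w').g := ‹Epi g'›
        refine ⟨hS'.exact.desc (a' ≫ h) e, pushout.hom_ext ?_ ?_⟩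
        · rw [← Category.assoc, hq₂, zero_comp]
          exact hh.symm
        · rw [← Category.assoc, hq₂']
          exact hS'.exact.g_desc (a' ≫ h) e)) inferInstance inferInstance
  have hPc : Coh.IsCoh (pushout f f') := QCohLib.isCoh_X₂ hT₁ (isCoh_of_rank hE') hOc
  have hP : FlatMod.IsFinLocFreeOfRank (2 + 1) (pushout f f') := rank_mid hT₁ hE' hOr hPc
  have hdP := dg_add k hT₁ (isCoh_of_rank hE') hPc hOc
  have hdE' := dg_add k hS' hOc (isCoh_of_rank hE') hOc
  change dg k (pushout f f') = dg k E' + dg k 𝒪 at hdP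
  change dg k E' = dg k 𝒪 + dg k 𝒪 at hdE'
  rw [o2] at hdE' hdP
  let q : pushout f f' ⟶ 𝒪 ⊞ 𝒪 := biprod.lift q₁ q₂
  haveI : Epi q := ⟨fun {Z} u v huv => by
    refine biprod.hom_ext' _ _ ?_ ?_
    · have h1 : a ≫ q = g ≫ biprod.inl := by
        refine biprod.hom_ext _ _ ?_ ?_
        · simp only [q, Category.assoc, biprod.lift_fst, biprod.inl_fst, Category.comp_id, hq₁]
        · simp only [q, Category.assoc, biprod.lift_snd, biprod.inl_snd, comp_zero, hq₂]
      rw [← cancel_epi g, ← Category.assoc, ← Category.assoc, ← h1, Category.assoc, Category.assoc, huv]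
    · have h1 : a' ≫ q = g' ≫ biprod.inr := by
        refine biprod.hom_ext _ _ ?_ ?_
        · simp only [q, Category.assoc, biprod.lift_fst, biprod.inr_fst, comp_zero, hq₁']
        · simp only [q, Category.assoc, biprod.lift_snd, biprod.inr_snd, Category.comp_id, hq₂']
      rw [← cancel_epi g', ← Category.assoc, ← Category.assoc, ← h1, Category.assoc, Category.assoc, huv]⟩
  haveI := EulerIneqLib.finite_HH (k := k) hPc 1
  haveI := EulerIneqLib.finite_HH (k := k) hPc 0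
  haveI := EulerIneqLib.finite_HH (k := k) hOc 1
  haveI := EulerIneqLib.finite_HH (k := k) hOc 0
  haveI : Nontrivial (Coh.HH X 𝒪 1) :=
    Module.nontrivial_of_finrank_pos (R := k) (show 0 < Curv2.genus k X by omega)
  have h1 := OddDet.two_le_finrank_H1 k hdim q
  have h0 := deg_genus_one k hdim hg (pushout f f') (2 + 1)
  rw [← dg_eq k hP] at h0
  by_cases hall : ∀ c : Coh.HH X (pushout f f') 0, sH c ≫ q₁ = 0 ∧ sH c ≫ q₂ = 0
  · exfalso
    have hsurj : Function.Surjective (CurveLib.hMap (k := k) (f' ≫ a') 0) := fun c => by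
      obtain ⟨e1, e2⟩ := hall c
      haveI : Mono (ShortComplex.mk a' q₁ hq₁').f := hT₁.mono_f
      haveI : Mono (ShortComplex.mk f' g' w').f := ‹Mono f'›
      obtain ⟨l, hl⟩ : ∃ l : 𝒪 ⟶ E', l ≫ a' = sH c := ⟨hT₁.exact.lift (sH c) e1, hT₁.exact.lift_f (sH c) e1⟩
      have e3 : l ≫ g' = 0 := by rw [← hq₂', ← Category.assoc, hl, e2]
      obtain ⟨t, ht⟩ : ∃ t : 𝒪 ⟶ 𝒪, t ≫ f' = l := ⟨hS'.exact.lift l e3, hS'.exact.lift_f l e3⟩
      refine ⟨(CurveLib.secOf 𝒪).symm (AmpleLib.sec t), sH_injective ?_⟩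
      rw [sH_hMap, show sH ((CurveLib.secOf 𝒪).symm (AmpleLib.sec t)) = t by
        rw [sH, AddEquiv.apply_symm_apply, AmpleLib.secHom_sec], ← Category.assoc, ht, hl]
    have hle := LinearMap.finrank_le_finrank_of_surjective hsurj
    rw [CurveLib.finrank_H0_structure] at hle
    omega
  · push Not at hall
    obtain ⟨c, hc⟩ := hall
    by_cases hc1 : sH c ≫ q₁ = 0
    · obtain ⟨e⟩ := nonempty_iso_of_lift k hdim.le hS' hns' hS (pushout.condition.symm) hT₂ hq₂' (hc hc1)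
      exact ⟨e.symm⟩
    · exact nonempty_iso_of_lift k hdim.le hS hns hS' pushout.condition hT₁ hq₁ hc1

end Groth.Agent.VBLib.SelfExt
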