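import Groth.Agent.VBLib.Point
import Groth.Agent.VBLib.Twist
import Groth.Agent.CurveLib.CurveVanish
/-!
Weil finite invertible modules on a curve.
-/

set_option autoImplicit false
set_option backward.isDefEq.respectTransparency false
set_option linter.style.haveILetI false

universe w v u

open CategoryTheory CategoryTheory.Limits AlgebraicGeometry TopologicalSpace
open Groth.Agent.PullbackMod Groth.Agent.DevLib Groth.Agent.QCohLib

noncomputable section

namespace Groth.Agent.VBLib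

section Cat

variable {C : Type w} [Category.{v} C] [Preadditive C]

/-- A finite family with inclusions and projections. -/
structure Deco (S : C) (A : ℕ → C) where
  ι : ∀ i, A i ⟶ S
  π : ∀ i, S ⟶ A i
  ι_π : ∀ i, ι i ≫ π i = 𝟙 _
  s : Finset ℕ
  total : ∑ i ∈ s, π i ≫ ι i = 𝟙 S

theorem diag_inverse {S T : C} {A B : ℕ → C} (dS : Deco S A) (dT : Deco T B) (e : S ≅ T) (w : ℕ → ℤ)
    (hw : Function.Injective w) (h : ∀ i j, i ≠ j → w j ≤ w i →
      (∀ f : A i ⟶ B j, f = 0) ∧ (∀ f : B i ⟶ A j, f = 0)) (i : ℕ) :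
    (dS.ι i ≫ e.hom ≫ dT.π i) ≫ dT.ι i ≫ e.inv ≫ dS.π i = 𝟙 (A i) := by
  have h0 : ∑ l ∈ dT.s, (dS.ι i ≫ e.hom ≫ dT.π l) ≫ (dT.ι l ≫ e.inv ≫ dS.π i) = 𝟙 (A i) := by
    have : ∀ l, (dS.ι i ≫ e.hom ≫ dT.π l) ≫ (dT.ι l ≫ e.inv ≫ dS.π i) =
        (dS.ι i ≫ e.hom) ≫ (dT.π l ≫ dT.ι l) ≫ (e.inv ≫ dS.π i) := fun l => by simp only [Category.assoc]
    rw [Finset.sum_congr rfl fun l _ => this l, ← Preadditive.comp_sum, ← Preadditive.sum_comp, dT.total]
    simp [dS.ι_π]
  have hz : ∀ l, l ≠ i → (dS.ι i ≫ e.hom ≫ dT.π l) ≫ (dT.ι l ≫ e.inv ≫ dS.π i) = 0 := fun l hl => by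
    rcases le_total (w l) (w i) with hle | hle
    · rw [(h i l hl.symm hle).1 (dS.ι i ≫ e.hom ≫ dT.π l), zero_comp]
    · rw [(h l i hl hle).2 (dT.ι l ≫ e.inv ≫ dS.π i), comp_zero]
  by_cases hi : i ∈ dT.s
  · rwa [Finset.sum_eq_single i (fun l _ hl => hz l hl) (fun h' => absurd hi h')] at h0
  · rw [Finset.sum_eq_zero fun l hl => hz l fun hli => hi (hli ▸ hl)] at h0
    exact (IsZero.iff_id_eq_zero _).2 h0.symm |>.eq_of_src _ _

def diag_iso {S T : C} {A B : ℕ → C} (dS : Deco S A) (dT : Deco T B) (e : S ≅ T) (w : ℕ → ℤ)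
    (hw : Function.Injective w) (h : ∀ i j, i ≠ j → w j ≤ w i →
      (∀ f : A i ⟶ B j, f = 0) ∧ (∀ f : B i ⟶ A j, f = 0)) (i : ℕ) : A i ≅ B i where
  hom := dS.ι i ≫ e.hom ≫ dT.π i
  inv := dT.ι i ≫ e.inv ≫ dS.π i
  hom_inv_id := diag_inverse dS dT e w hw h i
  inv_hom_id := diag_inverse dT dS e.symm w hw (fun i j hij hle => (h i j hij hle).symm) i

/-- A finite coproduct, padded by zeros. -/
def decoSigma (n : ℕ) (A : ℕ → C) (hA : ∀ i, n ≤ i → IsZero (A i)) [HasCoproduct fun i : Fin n => A i] :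
    Deco (∐ fun i : Fin n => A i) A where
  ι i := if h : i < n then Sigma.ι (fun i : Fin n => A i) ⟨i, h⟩ else 0
  π i := Sigma.desc fun l : Fin n => if h : (l : ℕ) = i then eqToHom (congrArg A h) else 0
  ι_π i := by
    by_cases h : i < n
    · rw [dif_pos h, Sigma.ι_desc]
      simp
    · exact (hA i (not_lt.1 h)).eq_of_src _ _
  s := Finset.range n
  total := by
    refine Sigma.hom_ext _ _ fun l => ?_
    rw [Category.comp_id, Preadditive.comp_sum, Finset.sum_eq_single (l : ℕ)]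
    · rw [Sigma.ι_desc_assoc, dif_pos rfl, dif_pos l.2]
      simp
    · intro b _ hb
      rw [Sigma.ι_desc_assoc, dif_neg (Ne.symm hb), zero_comp]
    · exact fun h => absurd (Finset.mem_range.2 l.2) h

theorem isZero_sigma_fin_zero (M : C) {n : ℕ} (h : n = 0) [HasCoproduct fun _ : Fin n => M] :
    IsZero (∐ fun _ : Fin n => M) := by
  subst h
  exact (IsZero.iff_id_eq_zero _).2 (Sigma.hom_ext _ _ fun i => i.elim0)

theorem hom_sigma_copies {M N : C} {n m : ℕ} [HasCoproduct fun _ : Fin n => M] [HasCoproduct fun _ : Fin m => N]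
    (h : ∀ f : M ⟶ N, f = 0) (f : (∐ fun _ : Fin n => M) ⟶ ∐ fun _ : Fin m => N) : f = 0 := by
  refine Sigma.hom_ext _ _ fun a => ?_
  have hid : 𝟙 (∐ fun _ : Fin m => N) = ∑ b : Fin m,
      (Sigma.desc fun l : Fin m => if l = b then 𝟙 N else 0) ≫ Sigma.ι (fun _ : Fin m => N) b := by
    refine Sigma.hom_ext _ _ fun l => ?_
    rw [Category.comp_id, Preadditive.comp_sum, Finset.sum_eq_single l]
    · simp
    · intro b _ hb
      simp [Ne.symm hb]
    · exact fun h => absurd (Finset.mem_univ l) h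
  rw [comp_zero, ← Category.comp_id (Sigma.ι _ a ≫ f), hid, Preadditive.comp_sum]
  refine Finset.sum_eq_zero fun b _ => ?_
  rw [← Category.assoc, h ((Sigma.ι (fun _ : Fin n => M) a ≫ f) ≫
    Sigma.desc fun l : Fin m => if l = b then 𝟙 N else 0), zero_comp]

theorem nonempty_iso_single {S : C} {A : ℕ → C} (d : Deco S A) (i : ℕ) (h : ∀ j, j ≠ i → IsZero (A j))
    (hi : i ∈ d.s) : Nonempty (S ≅ A i) :=
  ⟨{ hom := d.π i
     inv := d.ι i
     inv_hom_id := d.ι_π i
     hom_inv_id := by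
      have := d.total
      rwa [Finset.sum_eq_single i (fun j _ hj => by rw [(h j hj).eq_of_tgt (d.π j) 0, zero_comp])
        (fun h' => absurd hi h')] at this }⟩

end Cat

variable {X : Scheme.{u}}

theorem isFinLocFreeOfRank_sigma_copies {L : X.Modules} (hL : PicF.IsInvertible L) (n : ℕ) :
    FlatMod.IsFinLocFreeOfRank n (∐ fun _ : Fin n => L) := fun x => by
  obtain ⟨U, hx, ⟨e⟩⟩ := hL x
  haveI : PreservesColimitsOfSize.{0, 0} (Scheme.Modules.restrictFunctor U.ι) :=
    (Scheme.Modules.restrictAdjunction U.ι).leftAdjoint_preservesColimits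
  exact ⟨U, hx, ⟨PreservesCoproduct.iso (Scheme.Modules.restrictFunctor U.ι) _ ≪≫ Sigma.mapIso fun _ => e⟩⟩

/-- Cancel a common power. -/
theorem tensorPow_cancel [IsLocallyNoetherian X] {L : X.Modules} (hL : PicF.IsInvertible L) :
    ∀ i j : ℕ, i ≤ j → (CohB1.tensorPow L i ≅ CohB1.tensorPow L j) →
      Nonempty (CohB1.tensorPow L (j - i) ≅ Coh.structureModule X)
  | 0, j, _, e => ⟨e.symm⟩
  | i + 1, 0, h, _ => absurd h (Nat.not_succ_le_zero i)
  | i + 1, j + 1, h, e => by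
    obtain ⟨N, hN, ⟨η⟩⟩ := AmpleEmb.exists_isInverseOf hL
    haveI := isEquivalence_tensR η
    rw [Nat.add_sub_add_right]
    exact tensorPow_cancel hL i j (Nat.le_of_succ_le_succ h)
      ((CurveLib.tensR L).preimageIso (show (CurveLib.tensR L).obj (CohB1.tensorPow L i) ≅
        (CurveLib.tensR L).obj (CohB1.tensorPow L j) from e))

/-- `P(M)` for a monomial `P`. -/
theorem nonempty_eval_monomial (M : ℕ → X.Modules) {P : Polynomial ℕ} {m : ℕ} (hm : P.coeff m = 1)
    (h : ∀ j, j ≠ m → P.coeff j = 0) :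
    Nonempty ((∐ fun i : Fin (P.natDegree + 1) => ∐ fun _ : Fin (P.coeff ↑i) => M ↑i) ≅ M m) := by
  let A : ℕ → X.Modules := fun i => ∐ fun _ : Fin (P.coeff i) => M i
  have hA : ∀ i, P.natDegree + 1 ≤ i → IsZero (A i) := fun i hi =>
    isZero_sigma_fin_zero _ (P.coeff_eq_zero_of_natDegree_lt hi)
  obtain ⟨f⟩ := nonempty_iso_single (decoSigma _ A hA) m (fun j hj => isZero_sigma_fin_zero _ (h j hj))
    (Finset.mem_range.2 (Nat.lt_succ_of_le (Polynomial.le_natDegree_of_ne_zero (by rw [hm]; exact one_ne_zero))))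
  haveI : Unique (Fin (P.coeff m)) := hm ▸ inferInstance
  exact ⟨f ≪≫ coproductUniqueIso fun _ : Fin (P.coeff m) => M m⟩

variable (k : Type u) [Field k] [X.Over (Spec (CommRingCat.of k))]
  [IsProper (X ↘ Spec (CommRingCat.of k))] [IsIntegral X] [IsNoetherian X] [IsRegCurve X]

include k in
/-- A nonzero map of invertible modules does not lower the degree. -/
theorem deg_le_of_ne_zero (hdim : topologicalKrullDim X ≤ 1) {M N : X.Modules} (hM : PicF.IsInvertible M)
    (hN : PicF.IsInvertible N) {f : M ⟶ N} (hf : f ≠ 0) :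
    Curv2.deg k X M 1 ≤ Curv2.deg k X N 1 ∧ (Curv2.deg k X N 1 ≤ Curv2.deg k X M 1 → IsIso f) := by
  haveI := CurveLib.mono_of_ne_zero hM hN hf
  have hMf := CurveLib.isFinLocFreeOfRank_one hM
  have hNf := CurveLib.isFinLocFreeOfRank_one hN
  have h := dg_le_of_mono k hdim f (isCoh_of_rank hMf) (isCoh_of_rank hNf) (by rw [grk_of_rank hMf, grk_of_rank hNf])
  rw [dg_eq k hMf, dg_eq k hNf] at h
  exact h

include k in
/-- A Weil finite invertible module is torsion. -/
theorem exists_tensorPow_trivial_of_weilFinite (hdim : topologicalKrullDim X ≤ 1) {L : X.Modules}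
    (hL : PicF.IsInvertible L) {P Q : Polynomial ℕ} (hPQ : P ≠ Q)
    (e : (∐ fun i : Fin (P.natDegree + 1) => ∐ fun _ : Fin (P.coeff ↑i) => CohB1.tensorPow L ↑i) ≅
      (∐ fun i : Fin (Q.natDegree + 1) => ∐ fun _ : Fin (Q.coeff ↑i) => CohB1.tensorPow L ↑i)) :
    ∃ m : ℕ, 0 < m ∧ Nonempty (CohB1.tensorPow L m ≅ Coh.structureModule X) := by
  by_contra hne
  push_neg at hne
  have hT := AmpleLib.isInvertible_tensorPow hL
  have hiso : ∀ i j, i ≠ j → IsEmpty (CohB1.tensorPow L i ≅ CohB1.tensorPow L j) := fun i j hij => ⟨fun f => by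
    rcases lt_or_gt_of_ne hij with h | h
    · obtain ⟨g⟩ := tensorPow_cancel hL i j h.le f
      exact (hne (j - i) (Nat.sub_pos_of_lt h)).false g
    · obtain ⟨g⟩ := tensorPow_cancel hL j i h.le f.symm
      exact (hne (i - j) (Nat.sub_pos_of_lt h)).false g⟩
  let d := Curv2.deg k X L 1
  have hd := CurveLib.deg_tensorPow (k := k) hdim hL
  let w : ℕ → ℤ := fun i => if d = 0 then (i : ℤ) else i * d
  have hw : Function.Injective w := fun a b hab => by
    by_cases h : d = 0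
    · simpa [w, h] using hab
    · simpa [w, h] using hab
  have hzero : ∀ i j, i ≠ j → w j ≤ w i → ∀ f : CohB1.tensorPow L i ⟶ CohB1.tensorPow L j, f = 0 := by
    intro i j hij hle f
    by_contra hf
    obtain ⟨h1, h2⟩ := deg_le_of_ne_zero k hdim (hT i) (hT j) hf
    have h3 : Curv2.deg k X (CohB1.tensorPow L j) 1 ≤ Curv2.deg k X (CohB1.tensorPow L i) 1 := by
      rw [hd, hd]
      by_cases h : d = 0
      · simp [show Curv2.deg k X L 1 = 0 from h]
      · simpa [w, h] using hle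
    haveI := h2 h3
    exact (hiso i j hij).false (asIso f)
  let A : Polynomial ℕ → ℕ → X.Modules := fun R i => ∐ fun _ : Fin (R.coeff i) => CohB1.tensorPow L i
  have hA : ∀ (R : Polynomial ℕ) (i : ℕ), R.natDegree + 1 ≤ i → IsZero (A R i) := fun R i hi =>
    isZero_sigma_fin_zero _ (R.coeff_eq_zero_of_natDegree_lt hi)
  refine hPQ (Polynomial.ext fun i => ?_)
  have f : A P i ≅ A Q i := diag_iso (decoSigma _ _ (hA P)) (decoSigma _ _ (hA Q)) e w hw
    (fun i j hij hle => ⟨hom_sigma_copies (hzero i j hij hle), hom_sigma_copies (hzero i j hij hle)⟩) i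
  rw [← grk_of_rank (isFinLocFreeOfRank_sigma_copies (hT i) (P.coeff i)),
    ← grk_of_rank (isFinLocFreeOfRank_sigma_copies (hT i) (Q.coeff i))]
  exact grk_iso f

end Groth.Agent.VBLib
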