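import Mathlib.CategoryTheory.Preadditive.Biproducts
import Mathlib.RingTheory.LocalRing.Basic
import Mathlib.CategoryTheory.Endomorphism
import Mathlib.CategoryTheory.Limits.Shapes.BinaryBiproducts
import Mathlib.Data.Multiset.MapFold

/-!
# Krull–Schmidt uniqueness
-/

set_option autoImplicit false
set_option linter.style.haveILetI false

universe w v

open CategoryTheory CategoryTheory.Limits

noncomputable section

namespace Groth.Agent.VBLib.KS

variable {C : Type w} [Category.{v} C] [Preadditive C] [HasBinaryBiproducts C]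

/-- An object with local endomorphism ring. -/
def Ind (M : C) : Prop := ¬ IsZero M ∧ IsLocalRing (End M)

/-- The class of an object. -/
abbrev cl (M : C) : Quotient (isIsomorphicSetoid C) := Quotient.mk (isIsomorphicSetoid C) M

theorem cl_eq_iff {M N : C} : cl M = cl N ↔ Nonempty (M ≅ N) := Quotient.eq

theorem isIso_or {J : C} [IsLocalRing (End J)] {f g : J ⟶ J} (h : f + g = 𝟙 J) : IsIso f ∨ IsIso g :=
  (IsLocalRing.isUnit_or_isUnit_of_add_one (R := End J) (a := f) (b := g) h).imp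
    (isUnit_iff_isIso _).1 (isUnit_iff_isIso _).1

theorem isIso_add {J : C} [IsLocalRing (End J)] {f g : J ⟶ J} (hf : ¬ IsIso f) (hg : IsIso g) : IsIso (f + g) := by
  let F : End J := f
  let G : End J := g
  have h : IsUnit (F + G + -F) := by
    rw [add_neg_cancel_comm]
    exact (isUnit_iff_isIso _).2 hg
  rcases IsLocalRing.isUnit_or_isUnit_of_isUnit_add h with h1 | h1
  · exact (isUnit_iff_isIso _).1 h1
  · exact absurd ((isUnit_iff_isIso _).1 ((IsUnit.neg_iff _).1 h1)) hf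

/-- A retraction pair between indecomposable objects consists of isomorphisms. -/
theorem isIso_of_retract {J K : C} (hJ : Ind J) (hK : Ind K) (u : J ⟶ K) (v : K ⟶ J) (h : u ≫ v = 𝟙 J) :
    IsIso u := by
  haveI := hK.2
  rcases isIso_or (add_sub_cancel (v ≫ u) (𝟙 K)) with he | he
  · haveI := he
    refine ⟨v, h, ?_⟩
    rw [← cancel_mono (v ≫ u), Category.id_comp, Category.assoc, reassoc_of% h]
  · haveI := he
    have hu : u = 0 := by
      rw [← cancel_mono (𝟙 K - v ≫ u), zero_comp, Preadditive.comp_sub, Category.comp_id, ← Category.assoc, h,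
        Category.id_comp, sub_self]
    exact absurd ((IsZero.iff_id_eq_zero J).2 (by rw [← h, hu, zero_comp])) hJ.1

/-- An indecomposable retract of a sum is a retract of a summand. -/
theorem retract_biprod {J A B : C} (hJ : Ind J) (u : J ⟶ A ⊞ B) (v : A ⊞ B ⟶ J) (h : u ≫ v = 𝟙 J) :
    (∃ (p : J ⟶ A) (q : A ⟶ J), p ≫ q = 𝟙 J) ∨ (∃ (p : J ⟶ B) (q : B ⟶ J), p ≫ q = 𝟙 J) := by
  haveI := hJ.2
  have hsum : (u ≫ biprod.fst) ≫ biprod.inl ≫ v + (u ≫ biprod.snd) ≫ biprod.inr ≫ v = 𝟙 J := by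
    calc (u ≫ biprod.fst) ≫ biprod.inl ≫ v + (u ≫ biprod.snd) ≫ biprod.inr ≫ v
        = u ≫ (biprod.fst ≫ biprod.inl + biprod.snd ≫ biprod.inr) ≫ v := by
          simp only [Preadditive.add_comp, Preadditive.comp_add, Category.assoc]
      _ = 𝟙 J := by rw [biprod.total, Category.id_comp, h]
  rcases isIso_or hsum with hu | hu
  · haveI : IsIso ((u ≫ biprod.fst) ≫ biprod.inl ≫ v) := hu
    exact Or.inl ⟨u ≫ biprod.fst, (biprod.inl ≫ v) ≫ inv ((u ≫ biprod.fst) ≫ biprod.inl ≫ v),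
      by rw [← Category.assoc, IsIso.hom_inv_id]⟩
  · haveI : IsIso ((u ≫ biprod.snd) ≫ biprod.inr ≫ v) := hu
    exact Or.inr ⟨u ≫ biprod.snd, (biprod.inr ≫ v) ≫ inv ((u ≫ biprod.snd) ≫ biprod.inr ≫ v),
      by rw [← Category.assoc, IsIso.hom_inv_id]⟩

/-- An indecomposable summand cancels. -/
theorem cancel {S A B : C} (hS : Ind S) (e : S ⊞ A ≅ S ⊞ B) : Nonempty (A ≅ B) := by
  haveI := hS.2
  let a : S ⟶ S := biprod.inl ≫ e.hom ≫ biprod.fst
  let b : S ⟶ B := biprod.inl ≫ e.hom ≫ biprod.snd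
  let α : S ⟶ S := biprod.inl ≫ e.inv ≫ biprod.fst
  let γ : B ⟶ S := biprod.inr ≫ e.inv ≫ biprod.fst
  by_cases ha : IsIso a
  · haveI : IsIso (biprod.inl ≫ e.hom ≫ biprod.fst) := ha
    exact ⟨Biprod.isoElim e⟩
  have hsum : a ≫ α + b ≫ γ = 𝟙 S := by
    calc a ≫ α + b ≫ γ
        = biprod.inl ≫ e.hom ≫ (biprod.fst ≫ biprod.inl + biprod.snd ≫ biprod.inr) ≫ e.inv ≫ biprod.fst := by
          simp only [Preadditive.add_comp, Preadditive.comp_add, Category.assoc, a, b, α, γ]
      _ = 𝟙 S := by rw [biprod.total, Category.id_comp, e.hom_inv_id_assoc, biprod.inl_fst]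
  rcases isIso_or hsum with hu | hu
  · haveI : IsIso (a ≫ α) := hu
    exact absurd (isIso_of_retract hS hS a (α ≫ inv (a ≫ α)) (by rw [← Category.assoc, IsIso.hom_inv_id])) ha
  · let ψ : S ⊞ B ≅ S ⊞ B :=
      { hom := biprod.desc biprod.inl (γ ≫ biprod.inl + biprod.inr)
        inv := biprod.desc biprod.inl (-(γ ≫ biprod.inl) + biprod.inr)
        hom_inv_id := by ext <;> simp
        inv_hom_id := by ext <;> simp }
    have hnew : biprod.inl ≫ (e ≪≫ ψ).hom ≫ biprod.fst = a + b ≫ γ := by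
      have hd : e.hom ≫ biprod.desc biprod.inl (γ ≫ biprod.inl + biprod.inr) ≫ biprod.fst =
          e.hom ≫ biprod.fst + e.hom ≫ biprod.snd ≫ γ := by
        rw [← Preadditive.comp_add]
        congr 1
        ext <;> simp
      rw [Iso.trans_hom, Category.assoc, hd, Preadditive.comp_add]
      simp only [a, b, Category.assoc]
    haveI : IsIso (biprod.inl ≫ (e ≪≫ ψ).hom ≫ biprod.fst) := by
      rw [hnew]
      exact isIso_add ha hu
    exact ⟨Biprod.isoElim (e ≪≫ ψ)⟩

variable [HasZeroObject C]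

open scoped ZeroObject

/-- A finite sum. -/
def sumL : List C → C
  | [] => 0
  | A :: l => A ⊞ sumL l

/-- The classes of a list. -/
def ms (l : List C) : Multiset (Quotient (isIsomorphicSetoid C)) := (l.map cl : List _)

theorem ms_cons (A : C) (l : List C) : ms (A :: l) = cl A ::ₘ ms l := rfl

theorem ms_nil : ms ([] : List C) = 0 := rfl

theorem ms_append (l l' : List C) : ms (l ++ l') = ms l + ms l' := by
  rw [ms, List.map_append, ← Multiset.coe_add]
  rfl

theorem mem_ms {c : Quotient (isIsomorphicSetoid C)} {l : List C} : c ∈ ms l ↔ ∃ A ∈ l, cl A = c := by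
  rw [ms, Multiset.mem_coe, List.mem_map]

/-- The sum of a concatenation. -/
theorem nonempty_sumL_append : ∀ l l' : List C, Nonempty (sumL (l ++ l') ≅ sumL l ⊞ sumL l')
  | [], l' => ⟨{ hom := biprod.inr
                 inv := biprod.snd
                 hom_inv_id := biprod.inr_snd
                 inv_hom_id := biprod.hom_ext' _ _ ((isZero_zero C).eq_of_src _ _) (by simp [sumL]) }⟩
  | A :: l, l' => by
    obtain ⟨e⟩ := nonempty_sumL_append l l'
    exact ⟨biprod.mapIso (Iso.refl A) e ≪≫ (biprod.associator A (sumL l) (sumL l')).symm⟩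

/-- Pull a summand of a given class to the front. -/
theorem extract {J : C} : ∀ {l : List C}, cl J ∈ ms l →
    ∃ l' : List C, (∀ A ∈ l', A ∈ l) ∧ ms l = cl J ::ₘ ms l' ∧ Nonempty (sumL l ≅ J ⊞ sumL l') := by
  intro l
  induction l with
  | nil => intro h; simp [ms_nil] at h
  | cons A t ih =>
    intro h
    by_cases hA : cl A = cl J
    · obtain ⟨e⟩ := cl_eq_iff.1 hA
      exact ⟨t, fun B hB => List.mem_cons_of_mem _ hB, by rw [ms_cons, hA], ⟨biprod.mapIso e (Iso.refl _)⟩⟩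
    · rw [ms_cons, Multiset.mem_cons] at h
      obtain ⟨l', hsub, hms, ⟨e⟩⟩ := ih (h.resolve_left (Ne.symm hA))
      refine ⟨A :: l', fun B hB => ?_, by rw [ms_cons, ms_cons, hms, Multiset.cons_swap], ⟨?_⟩⟩
      · rcases List.mem_cons.1 hB with rfl | hB
        · exact List.mem_cons_self
        · exact List.mem_cons_of_mem _ (hsub B hB)
      · exact biprod.mapIso (Iso.refl A) e ≪≫ (biprod.associator A J (sumL l')).symm ≪≫
          biprod.mapIso (biprod.braiding A J) (Iso.refl _) ≪≫ biprod.associator J A (sumL l')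

/-- An indecomposable retract of a sum of indecomposables is one of them. -/
theorem mem_of_retract {J : C} (hJ : Ind J) : ∀ {l : List C}, (∀ A ∈ l, Ind A) →
    ∀ (u : J ⟶ sumL l) (v : sumL l ⟶ J), u ≫ v = 𝟙 J → cl J ∈ ms l := by
  intro l
  induction l with
  | nil =>
    intro _ u v h
    have hu : u = 0 := (isZero_zero C).eq_of_tgt u 0
    subst hu
    exact absurd ((IsZero.iff_id_eq_zero J).2 (h.symm.trans zero_comp)) hJ.1
  | cons A t ih =>
    intro hl u v h
    rw [ms_cons, Multiset.mem_cons]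
    rcases retract_biprod hJ u v h with ⟨p, q, hpq⟩ | ⟨p, q, hpq⟩
    · haveI := isIso_of_retract hJ (hl A List.mem_cons_self) p q hpq
      exact Or.inl (cl_eq_iff.2 ⟨asIso p⟩)
    · exact Or.inr (ih (fun B hB => hl B (List.mem_cons_of_mem _ hB)) p q hpq)

/-- Isomorphic sums of indecomposables have the same classes. -/
theorem ms_eq_of_iso : ∀ {l l' : List C}, (∀ A ∈ l, Ind A) → (∀ A ∈ l', Ind A) → (sumL l ≅ sumL l') → ms l = ms l' := by
  intro l
  induction l with
  | nil =>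
    intro l' _ hl' e
    cases l' with
    | nil => rfl
    | cons B t =>
      exfalso
      have := mem_of_retract (hl' B List.mem_cons_self) (l := []) (by simp)
        ((biprod.inl : B ⟶ B ⊞ sumL t) ≫ e.inv) (e.hom ≫ (biprod.fst : B ⊞ sumL t ⟶ B))
        ((Category.assoc _ _ _).trans ((congrArg (biprod.inl ≫ ·) (e.inv_hom_id_assoc _)).trans biprod.inl_fst))
      simp [ms_nil] at this
  | cons A t ih =>
    intro l' hl hl' e
    have hA := hl A List.mem_cons_self
    have hm := mem_of_retract hA hl' ((biprod.inl : A ⟶ A ⊞ sumL t) ≫ e.hom)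
      (e.inv ≫ (biprod.fst : A ⊞ sumL t ⟶ A))
      ((Category.assoc _ _ _).trans ((congrArg (biprod.inl ≫ ·) (e.hom_inv_id_assoc _)).trans biprod.inl_fst))
    obtain ⟨t', hsub, hms, ⟨f⟩⟩ := extract hm
    obtain ⟨g⟩ := cancel hA (e ≪≫ f)
    rw [ms_cons, hms, ih (fun B hB => hl B (List.mem_cons_of_mem _ hB)) (fun B hB => hl' B (hsub B hB)) g]

/-- Sums with the same classes are isomorphic. -/
theorem nonempty_iso_of_ms_eq : ∀ {l l' : List C}, ms l = ms l' → Nonempty (sumL l ≅ sumL l') := by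
  intro l
  induction l with
  | nil =>
    intro l' h
    have : l' = [] := by
      have := congrArg Multiset.card h
      simp [ms] at this
      exact List.length_eq_zero_iff.1 this.symm
    exact ⟨this ▸ Iso.refl _⟩
  | cons A t ih =>
    intro l' h
    have hm : cl A ∈ ms l' := by rw [← h, ms_cons]; exact Multiset.mem_cons_self _ _
    obtain ⟨t', -, hms, ⟨f⟩⟩ := extract hm
    rw [hms, ms_cons, Multiset.cons_inj_right] at h
    obtain ⟨g⟩ := ih h
    exact ⟨biprod.mapIso (Iso.refl A) g ≪≫ f.symm⟩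

open Classical in
/-- The classes of the indecomposable summands. -/
def dec (M : C) : Multiset (Quotient (isIsomorphicSetoid C)) :=
  if h : ∃ l : List C, (∀ A ∈ l, Ind A) ∧ Nonempty (M ≅ sumL l) then ms h.choose else 0

/-- An object which is a sum of indecomposables. -/
def Dec (M : C) : Prop := ∃ l : List C, (∀ A ∈ l, Ind A) ∧ Nonempty (M ≅ sumL l)

theorem dec_eq {M : C} {l : List C} (hl : ∀ A ∈ l, Ind A) (e : M ≅ sumL l) : dec M = ms l := by
  have h : ∃ l : List C, (∀ A ∈ l, Ind A) ∧ Nonempty (M ≅ sumL l) := ⟨l, hl, ⟨e⟩⟩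
  rw [dec, dif_pos h]
  exact ms_eq_of_iso h.choose_spec.1 hl (h.choose_spec.2.some.symm ≪≫ e)

theorem dec_iso {M N : C} (hM : Dec M) (e : M ≅ N) : dec M = dec N := by
  obtain ⟨l, hl, ⟨f⟩⟩ := hM
  rw [dec_eq hl f, dec_eq hl (e.symm ≪≫ f)]

theorem Dec.of_iso {M N : C} (hM : Dec M) (e : M ≅ N) : Dec N := by
  obtain ⟨l, hl, ⟨f⟩⟩ := hM
  exact ⟨l, hl, ⟨e.symm ≪≫ f⟩⟩

theorem dec_biprod {M N : C} (hM : Dec M) (hN : Dec N) : Dec (M ⊞ N) ∧ dec (M ⊞ N) = dec M + dec N := by
  obtain ⟨l, hl, ⟨f⟩⟩ := hM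
  obtain ⟨l', hl', ⟨f'⟩⟩ := hN
  obtain ⟨g⟩ := nonempty_sumL_append l l'
  have h : ∀ A ∈ l ++ l', Ind A := fun A hA => (List.mem_append.1 hA).elim (hl A) (hl' A)
  exact ⟨⟨_, h, ⟨biprod.mapIso f f' ≪≫ g.symm⟩⟩,
    by rw [dec_eq h (biprod.mapIso f f' ≪≫ g.symm), dec_eq hl f, dec_eq hl' f', ms_append]⟩

theorem dec_isZero {M : C} (hM : IsZero M) : Dec M ∧ dec M = 0 := by
  have h : ∀ A ∈ ([] : List C), Ind A := by simp
  exact ⟨⟨[], h, ⟨hM.iso (isZero_zero C)⟩⟩, (dec_eq h (hM.iso (isZero_zero C))).trans ms_nil⟩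

theorem dec_ind {M : C} (hM : Ind M) : Dec M ∧ dec M = {cl M} := by
  have h : ∀ A ∈ [M], Ind A := by simp [hM]
  let e : M ≅ sumL [M] :=
    { hom := biprod.inl
      inv := biprod.fst
      hom_inv_id := biprod.inl_fst
      inv_hom_id := biprod.hom_ext' _ _ (by simp [sumL]) ((isZero_zero C).eq_of_src _ _) }
  exact ⟨⟨[M], h, ⟨e⟩⟩, dec_eq h e⟩

theorem nonempty_iso_of_dec_eq {M N : C} (hM : Dec M) (hN : Dec N) (h : dec M = dec N) : Nonempty (M ≅ N) := by
  obtain ⟨l, hl, ⟨f⟩⟩ := hM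
  obtain ⟨l', hl', ⟨f'⟩⟩ := hN
  rw [dec_eq hl f, dec_eq hl' f'] at h
  obtain ⟨g⟩ := nonempty_iso_of_ms_eq h
  exact ⟨f ≪≫ g ≪≫ f'.symm⟩

end Groth.Agent.VBLib.KS
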