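import Groth.Agent.VBLib.WeilFinite
import Groth.Agent.VBLib.KrullSchmidt
import Groth.Agent.VBLib.Fitting

/-!
# Weil finiteness and the indecomposable summands of tensor powers
-/

set_option autoImplicit false
set_option backward.isDefEq.respectTransparency false
set_option linter.style.haveILetI false
set_option maxHeartbeats 1000000

universe u

open CategoryTheory CategoryTheory.Limits AlgebraicGeometry TopologicalSpace
open Groth.Agent.PullbackMod Groth.Agent.DevLib Groth.Agent.QCohLib Groth.Agent.DCohLib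
open Groth.Agent.VBLib.DualDeg Groth.Agent.VBLib.HomPair Groth.Agent.VBLib.KS
open scoped Polynomial

noncomputable section

namespace Groth.Agent.VBLib.WeilAlgebra

attribute [local instance] Classical.decEq

variable (k : Type u) [Field k] {X : Scheme.{u}} [X.Over (Spec (CommRingCat.of k))]
  [IsProper (X ↘ Spec (CommRingCat.of k))] [IsIntegral X] [IsNoetherian X] [IsRegCurve X]
  (hdim : topologicalKrullDim X ≤ 1)

attribute [local irreducible] dg grk

/-- A bundle. -/
def Bdl {X : Scheme.{u}} (M : X.Modules) : Prop := ∃ r, FlatMod.IsFinLocFreeOfRank r M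

/-- A polynomial evaluated at a module. -/
def ev {X : Scheme.{u}} (E : X.Modules) (P : ℕ[X]) : X.Modules :=
  ∐ fun i : Fin (P.natDegree + 1) => ∐ fun _ : Fin (P.coeff ↑i) => CohB1.tensorPow E ↑i

/-- Finiteness in the sense of Weil. -/
def Weil {X : Scheme.{u}} (E : X.Modules) : Prop :=
  ∃ P Q : ℕ[X], P ≠ Q ∧ Nonempty (ev E P ≅ ev E Q)

omit [IsProper (X ↘ Spec (CommRingCat.of k))] [IsIntegral X] [IsRegCurve X] [X.Over (Spec (CommRingCat.of k))] in
theorem isCoh_of_retract {E A : X.Modules} (hE : Coh.IsCoh E) (i : A ⟶ E) (r : E ⟶ A) (h : i ≫ r = 𝟙 A) :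
    Coh.IsCoh A := by
  have w : (𝟙 E - r ≫ i) ≫ r = 0 := by
    rw [Preadditive.sub_comp, Category.assoc, h, Category.comp_id, Category.id_comp, sub_self]
  haveI : IsSplitEpi r := ⟨⟨⟨i, h⟩⟩⟩
  have hc : IsColimit (CokernelCofork.ofπ r w) :=
    CokernelCofork.IsColimit.ofπ' r w fun {Z} u (hu : (𝟙 E - r ≫ i) ≫ u = 0) => ⟨i ≫ u, by
      rw [Preadditive.sub_comp, sub_eq_zero, Category.id_comp, Category.assoc] at hu
      exact hu.symm⟩
  exact ShStabLib.isCoh_of_iso (IsColimit.coconePointUniqueUpToIso (cokernelIsCokernel _) hc)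
    (QCohLib.isCoh_kernel_cokernel _ hE hE).2

omit [X.Over (Spec (CommRingCat.of k))] [IsProper (X ↘ Spec (CommRingCat.of k))] in
theorem bdl_of_retract {E A : X.Modules} (hE : Bdl E) (i : A ⟶ E) (r : E ⟶ A) (h : i ≫ r = 𝟙 A) :
    Bdl A := by
  obtain ⟨n, hn⟩ := hE
  haveI : IsSplitMono i := ⟨⟨⟨r, h⟩⟩⟩
  exact ⟨_, rank_of_mono i (isCoh_of_retract (isCoh_of_rank hn) i r h) hn⟩

omit [X.Over (Spec (CommRingCat.of k))] [IsProper (X ↘ Spec (CommRingCat.of k))] in
theorem bdl_iso {E A : X.Modules} (hE : Bdl E) (e : E ≅ A) : Bdl A :=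
  bdl_of_retract hE e.inv e.hom e.inv_hom_id

omit [X.Over (Spec (CommRingCat.of k))] [IsProper (X ↘ Spec (CommRingCat.of k))] in
theorem bdl_biprod {A B : X.Modules} (hA : Bdl A) (hB : Bdl B) : Bdl (A ⊞ B) := by
  obtain ⟨a, ha⟩ := hA
  obtain ⟨b, hb⟩ := hB
  exact ⟨_, rank_mid (S := ShortComplex.mk (biprod.inl : A ⟶ A ⊞ B) biprod.snd biprod.inl_snd)
    (ShortComplex.Splitting.ofHasBinaryBiproduct A B).shortExact ha hb
    (DevLib.isCoh_biprod (isCoh_of_rank ha) (isCoh_of_rank hb))⟩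

omit [X.Over (Spec (CommRingCat.of k))] [IsProper (X ↘ Spec (CommRingCat.of k))] [IsRegCurve X] in
theorem bdl_tensor {A B : X.Modules} (hA : Bdl A) (hB : Bdl B) : Bdl (tmod A B) := by
  obtain ⟨a, ha⟩ := hA
  obtain ⟨b, hb⟩ := hB
  exact ⟨_, rank_tensor ha hb⟩

omit [X.Over (Spec (CommRingCat.of k))] [IsProper (X ↘ Spec (CommRingCat.of k))] [IsRegCurve X] [IsIntegral X] in
theorem bdl_pow {E : X.Modules} (hE : Bdl E) (n : ℕ) : Bdl (CohB1.tensorPow E n) := by
  obtain ⟨r, hr⟩ := hE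
  exact ⟨_, WeilFinite.rank_tensorPow hr n⟩

include k hdim in
/-- Indecomposable bundles have local endomorphism rings. -/
theorem ind_of_indecomposable {r : ℕ} {E : X.Modules} (hE : FlatMod.IsFinLocFreeOfRank r E) (hne : ¬ IsZero E)
    (hind : ∀ (E₁ E₂ : X.Modules), Nonempty (E ≅ E₁ ⊞ E₂) → IsZero E₁ ∨ IsZero E₂) : Ind E := by
  haveI : Nontrivial (End E) := ⟨⟨𝟙 E, 0, fun h => hne ((IsZero.iff_id_eq_zero E).2 h)⟩⟩
  refine ⟨hne, IsLocalRing.of_isUnit_or_isUnit_one_sub_self fun a => ?_⟩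
  rcases isNilpotent_or_isIso k hdim hE hind a with h | h
  · exact Or.inr h.isUnit_one_sub
  · exact Or.inl ((isUnit_iff_isIso _).2 h)

include k hdim in
/-- Bundles are sums of indecomposables. -/
theorem dec_bdl {E : X.Modules} (hE : Bdl E) : Dec E := by
  obtain ⟨r, hr⟩ := hE
  induction r using Nat.strong_induction_on generalizing E with
  | h r ih =>
    by_cases hz : IsZero E
    · exact (dec_isZero hz).1
    by_cases hind : ∀ (E₁ E₂ : X.Modules), Nonempty (E ≅ E₁ ⊞ E₂) → IsZero E₁ ∨ IsZero E₂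
    · exact (dec_ind (ind_of_indecomposable k hdim hr hz hind)).1
    push Not at hind
    obtain ⟨E₁, E₂, ⟨e⟩, h1, h2⟩ := hind
    have hc1 := isCoh_of_retract (isCoh_of_rank hr) (biprod.inl ≫ e.inv) (e.hom ≫ biprod.fst) (by simp)
    have hc2 := isCoh_of_retract (isCoh_of_rank hr) (biprod.inr ≫ e.inv) (e.hom ≫ biprod.snd) (by simp)
    haveI : Mono (biprod.inl ≫ e.inv) := mono_comp _ _
    haveI : Mono (biprod.inr ≫ e.inv) := mono_comp _ _
    have hsum := grk_add (S := ShortComplex.mk (biprod.inl : E₁ ⟶ E₁ ⊞ E₂) biprod.snd (by simp))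
      (ShortComplex.Splitting.ofHasBinaryBiproduct E₁ E₂).shortExact hc1 hc2
    change grk (E₁ ⊞ E₂) = grk E₁ + grk E₂ at hsum
    rw [← grk_iso e, grk_of_rank hr] at hsum
    have hp1 : grk E₁ ≠ 0 := fun h => h1 (isZero_of_mono (biprod.inl ≫ e.inv) hc1 hr h)
    have hp2 : grk E₂ ≠ 0 := fun h => h2 (isZero_of_mono (biprod.inr ≫ e.inv) hc2 hr h)
    exact ((dec_biprod (ih _ (by omega) (rank_of_mono (biprod.inl ≫ e.inv) hc1 hr))
      (ih _ (by omega) (rank_of_mono (biprod.inr ≫ e.inv) hc2 hr))).1).of_iso e.symm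

omit [X.Over (Spec (CommRingCat.of k))] [IsProper (X ↘ Spec (CommRingCat.of k))] [IsIntegral X] [IsRegCurve X] [AlgebraicGeometry.IsNoetherian X] in
theorem exists_retract_sumL {A : X.Modules} :
    ∀ {l : List X.Modules}, A ∈ l → ∃ (i : A ⟶ sumL l) (r : sumL l ⟶ A), i ≫ r = 𝟙 A := by
  intro l
  induction l with
  | nil => intro h; simp at h
  | cons B t ih =>
    intro h
    rcases List.mem_cons.1 h with rfl | h
    · exact ⟨biprod.inl, biprod.fst, biprod.inl_fst⟩
    · obtain ⟨i, r, hir⟩ := ih h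
      exact ⟨i ≫ biprod.inr, biprod.snd ≫ r, (Category.assoc _ _ _).trans ((congrArg (i ≫ ·)
        (biprod.inr_snd_assoc r)).trans hir)⟩

include k hdim in
/-- Summands of the image of a sum under an additive functor. -/
theorem mem_dec_map (F : X.Modules ⥤ X.Modules) [F.Additive] (hF : ∀ M, Bdl M → Bdl (F.obj M))
    {M : X.Modules} (hM : Bdl M) {c : Quotient (isIsomorphicSetoid X.Modules)} (hc : c ∈ dec (F.obj M)) :
    ∃ a ∈ dec M, Bdl a.out ∧ c ∈ dec (F.obj a.out) := by
  obtain ⟨l, hl, ⟨e⟩⟩ := dec_bdl k hdim hM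
  have hS : Bdl (sumL l) := bdl_iso hM e
  rw [dec_iso (dec_bdl k hdim (hF M hM)) (F.mapIso e)] at hc
  rw [dec_eq hl e]
  clear e hM M
  induction l with
  | nil =>
    rw [(dec_isZero (F.map_isZero (isZero_zero X.Modules) : IsZero (F.obj (sumL [])))).2] at hc
    simp at hc
  | cons A t ih =>
    have hA : Bdl A := bdl_of_retract hS biprod.inl biprod.fst biprod.inl_fst
    have ht : Bdl (sumL t) := bdl_of_retract hS biprod.inr biprod.snd biprod.inr_snd
    haveI := preservesBinaryBiproducts_of_preservesBiproducts F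
    have e : F.obj (sumL (A :: t)) ≅ F.obj A ⊞ F.obj (sumL t) := F.mapBiprod A (sumL t)
    rw [dec_iso (dec_bdl k hdim (hF _ hS)) e,
      (dec_biprod (dec_bdl k hdim (hF A hA)) (dec_bdl k hdim (hF _ ht))).2, Multiset.mem_add] at hc
    rcases hc with hc | hc
    · obtain ⟨f⟩ : Nonempty ((cl A).out ≅ A) := cl_eq_iff.1 (Quotient.out_eq (cl A))
      refine ⟨cl A, by rw [ms_cons]; exact Multiset.mem_cons_self _ _, bdl_iso hA f.symm, ?_⟩
      rwa [dec_iso (dec_bdl k hdim (hF _ (bdl_iso hA f.symm))) (F.mapIso f)]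
    · obtain ⟨a, ha, h⟩ := ih hc (fun B hB => hl B (List.mem_cons_of_mem _ hB)) ht
      exact ⟨a, by rw [ms_cons]; exact Multiset.mem_cons_of_mem ha, h⟩

include k hdim in
/-- Summands of a tensor product. -/
theorem mem_dec_tensor {M N : X.Modules} (hM : Bdl M) (hN : Bdl N)
    {c : Quotient (isIsomorphicSetoid X.Modules)} (hc : c ∈ dec (tmod M N)) :
    ∃ a ∈ dec M, ∃ b ∈ dec N, c ∈ dec (tmod a.out b.out) := by
  haveI : (CurveLib.tensR N).Additive := CurveLib.additive_tensR N
  obtain ⟨a, ha, hab, h⟩ := mem_dec_map k hdim (CurveLib.tensR N) (fun A hA => bdl_tensor hA hN) hM hc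
  haveI : (tensL a.out).Additive := additive_tensL a.out
  obtain ⟨b, hb, -, h'⟩ := mem_dec_map k hdim (tensL a.out) (fun A hA => bdl_tensor hab hA) hN h
  exact ⟨a, ha, b, hb, h'⟩

include k hdim in
/-- Summands of the image of a finite coproduct. -/
theorem dec_sigma (F : X.Modules ⥤ X.Modules) [F.Additive] {n : ℕ} : ∀ (f : Fin n → X.Modules),
    (∀ i, Bdl (f i)) → (∀ M, Bdl M → Bdl (F.obj M)) →
    Bdl (∐ f) ∧ dec (F.obj (∐ f)) = ∑ i, dec (F.obj (f i)) := by
  induction n with
  | zero =>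
    intro f _ _
    have hz : IsZero (∐ f) := (IsZero.iff_id_eq_zero _).2 (Sigma.hom_ext _ _ fun i => i.elim0)
    refine ⟨⟨0, ?_⟩, by rw [(dec_isZero (F.map_isZero hz)).2, Finset.univ_eq_empty, Finset.sum_empty]⟩
    exact rank_zero_of_isZero hz
  | succ n ih =>
    intro f hf hF
    let g : Fin n → X.Modules := fun i => f i.succ
    obtain ⟨hg, hgd⟩ := ih g (fun i => hf i.succ) hF
    let e : (∐ f) ≅ f 0 ⊞ (∐ g) :=
      { hom := Limits.Sigma.desc (Fin.cases (biprod.inl : f 0 ⟶ f 0 ⊞ ∐ g) fun i => Sigma.ι g i ≫ biprod.inr)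
        inv := biprod.desc (Sigma.ι f 0) (Limits.Sigma.desc fun i => Sigma.ι f i.succ)
        hom_inv_id := Sigma.hom_ext _ _ fun j => by
          refine Fin.cases ?_ (fun i => ?_) j <;> simp [g]
        inv_hom_id := biprod.hom_ext' _ _ (by simp) (by
          rw [biprod.inr_desc_assoc, Category.comp_id]
          exact Sigma.hom_ext _ _ fun i => by simp [g]) }
    haveI := preservesBinaryBiproducts_of_preservesBiproducts F
    have hb : Bdl (∐ f) := bdl_iso (bdl_biprod (hf 0) hg) e.symm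
    refine ⟨hb, ?_⟩
    rw [dec_iso (dec_bdl k hdim (hF _ hb)) (F.mapIso e ≪≫ F.mapBiprod (f 0) (∐ g)),
      (dec_biprod (dec_bdl k hdim (hF _ (hf 0))) (dec_bdl k hdim (hF _ hg))).2, hgd, Fin.sum_univ_succ]
where
  rank_zero_of_isZero {Z : X.Modules} (hZ : IsZero Z) : FlatMod.IsFinLocFreeOfRank 0 Z := by
    have hO := CurveLib.isFinLocFreeOfRank_one (ParaFLib.isInvertible_structureModule (X := X))
    haveI : Mono (0 : Z ⟶ Coh.structureModule X) := ⟨fun a b _ => hZ.eq_of_tgt a b⟩
    have h := rank_of_mono (0 : Z ⟶ Coh.structureModule X)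
      (isCoh_of_retract (isCoh_of_rank hO) 0 0 (hZ.eq_of_src _ _)) hO
    rwa [(dg_isZero k hZ).1] at h

/-- The classes occurring in the tensor powers lie in a finite set. -/
def SF {X : Scheme.{u}} (E : X.Modules) : Prop :=
  ∃ S : Finset (Quotient (isIsomorphicSetoid X.Modules)), ∀ n, ∀ c ∈ dec (CohB1.tensorPow E n), c ∈ S

include k hdim in
theorem count_ev_tensor {E W : X.Modules} (hE : Bdl E) (hW : Bdl W) (R : ℕ[X])
    (c : Quotient (isIsomorphicSetoid X.Modules)) :
    Bdl (ev E R) ∧ (dec ((CurveLib.tensR W).obj (ev E R))).count c =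
      ∑ i ∈ Finset.range (R.natDegree + 1), R.coeff i * (dec (tmod (CohB1.tensorPow E i) W)).count c := by
  haveI : (CurveLib.tensR W).Additive := CurveLib.additive_tensR W
  have hF : ∀ M, Bdl M → Bdl ((CurveLib.tensR W).obj M) := fun M hM => bdl_tensor hM hW
  have h1 := fun i : Fin (R.natDegree + 1) => dec_sigma k hdim (CurveLib.tensR W)
    (fun _ : Fin (R.coeff ↑i) => CohB1.tensorPow E ↑i) (fun _ => bdl_pow hE ↑i) hF
  obtain ⟨h2, h3⟩ := dec_sigma k hdim (CurveLib.tensR W)
    (fun i : Fin (R.natDegree + 1) => ∐ fun _ : Fin (R.coeff ↑i) => CohB1.tensorPow E ↑i) (fun i => (h1 i).1) hF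
  refine ⟨h2, ?_⟩
  rw [show dec ((CurveLib.tensR W).obj (ev E R)) = _ from h3, Multiset.count_sum',
    ← Fin.sum_univ_eq_sum_range]
  refine Finset.sum_congr rfl fun i _ => ?_
  rw [(h1 i).2, Finset.sum_const, Finset.card_univ, Fintype.card_fin, Multiset.count_nsmul]
  rfl

include k hdim in
/-- Weil finiteness bounds the summands of the tensor powers. -/
theorem sf_of_weil {E : X.Modules} (hE : Bdl E) (h : Weil E) : SF E := by
  obtain ⟨P, Q, hPQ, ⟨e⟩⟩ := h
  obtain ⟨N, hN, htop⟩ : ∃ N, P.coeff N ≠ Q.coeff N ∧ ∀ i, N < i → P.coeff i = Q.coeff i := by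
    let S := (Finset.range (max P.natDegree Q.natDegree + 1)).filter fun i => P.coeff i ≠ Q.coeff i
    obtain ⟨j, hj⟩ : ∃ j, P.coeff j ≠ Q.coeff j := by
      by_contra h
      push Not at h
      exact hPQ (Polynomial.ext h)
    have hmem : ∀ i, P.coeff i ≠ Q.coeff i → i ∈ S := fun i hi => by
      refine Finset.mem_filter.2 ⟨Finset.mem_range.2 ?_, hi⟩
      by_contra h
      exact hi (by rw [P.coeff_eq_zero_of_natDegree_lt (by omega), Q.coeff_eq_zero_of_natDegree_lt (by omega)])
    have hS : S.Nonempty := ⟨j, hmem j hj⟩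
    refine ⟨S.max' hS, (Finset.mem_filter.1 (S.max'_mem hS)).2, fun i hi => ?_⟩
    by_contra h
    exact absurd (S.le_max' i (hmem i h)) (not_le.2 hi)
  let W : ℕ → X.Modules := fun m => Nat.rec (Coh.structureModule X) (fun _ Wm => tmod E Wm) m
  have hW : ∀ m, Bdl (W m) := by
    intro m
    induction m with
    | zero => exact ⟨1, CurveLib.isFinLocFreeOfRank_one ParaFLib.isInvertible_structureModule⟩
    | succ m ih => exact bdl_tensor hE ih
  refine ⟨(Finset.range N).biUnion fun i => (dec (CohB1.tensorPow E i)).toFinset, fun n c hc => ?_⟩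
  by_contra hnot
  simp only [Finset.mem_biUnion, Finset.mem_range, Multiset.mem_toFinset, not_exists, not_and] at hnot
  let b : ℕ → ℕ := fun i => (dec (CohB1.tensorPow E i)).count c
  have hshift : ∀ m i, (dec (tmod (CohB1.tensorPow E i) (W m))).count c = b (i + m) := by
    intro m
    induction m with
    | zero =>
      intro i
      exact congrArg (Multiset.count c)
        (dec_iso (dec_bdl k hdim (bdl_tensor (bdl_pow hE i) (hW 0))) (AmpleLib.unitR (CohB1.tensorPow E i)))
    | succ m ih =>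
      intro i
      rw [show i + (m + 1) = i + 1 + m by omega, ← ih (i + 1)]
      exact congrArg (Multiset.count c) (dec_iso (dec_bdl k hdim (bdl_tensor (bdl_pow hE i) (hW (m + 1))))
        (AmpleLib.assoc (CohB1.tensorPow E i) E (W m)).symm)
  have hb := WeilFinite.eq_zero_of_recurrence b hN htop
    (fun i hi => Multiset.count_eq_zero.2 (hnot i hi)) (fun m => ?_) n
  · exact Multiset.count_eq_zero.1 hb hc
  · obtain ⟨hP, hP'⟩ := count_ev_tensor k hdim hE (hW m) P c
    obtain ⟨-, hQ'⟩ := count_ev_tensor k hdim hE (hW m) Q c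
    simp only [hshift] at hP' hQ'
    rw [← hP', ← hQ']
    exact congrArg (Multiset.count c) (dec_iso (dec_bdl k hdim (bdl_tensor hP (hW m))) ((CurveLib.tensR (W m)).mapIso e))

include k hdim in
/-- Boundedly many summands give Weil finiteness. -/
theorem weil_of_sf {E : X.Modules} (hE : Bdl E) (h : SF E) : Weil E := by
  obtain ⟨S, hS⟩ := h
  let v : Fin (S.card + 1) → (S → ℤ) := fun i c => ((dec (CohB1.tensorPow E ↑i)).count c.1 : ℤ)
  have hdep : ¬ LinearIndependent ℤ v := fun hli => by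
    have h := hli.fintype_card_le_finrank
    simp at h
  obtain ⟨g, hg, j, hj⟩ := Fintype.not_linearIndependent_iff.1 hdep
  let mk : (Fin (S.card + 1) → ℕ) → ℕ[X] := fun a => ∑ i : Fin (S.card + 1), Polynomial.monomial (i : ℕ) (a i)
  have hmk : ∀ a (i : Fin (S.card + 1)), (mk a).coeff ↑i = a i := fun a i => by
    simp [mk, Polynomial.finsetSum_coeff, Polynomial.coeff_monomial, ← Fin.ext_iff]
  have hhigh : ∀ a i, S.card + 1 ≤ i → (mk a).coeff i = 0 := fun a i hi => by
    simp only [mk, Polynomial.finsetSum_coeff, Polynomial.coeff_monomial]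
    exact Finset.sum_eq_zero fun l _ => if_neg (by omega)
  let a : Fin (S.card + 1) → ℕ := fun i => (g i).toNat
  let a' : Fin (S.card + 1) → ℕ := fun i => (-g i).toNat
  refine ⟨mk a, mk a', fun h => hj ?_, ?_⟩
  · have := congrArg (fun p => p.coeff (↑j : ℕ)) h
    simp only [hmk, a, a'] at this
    omega
  · have hO : Bdl (Coh.structureModule X) :=
      ⟨1, CurveLib.isFinLocFreeOfRank_one ParaFLib.isInvertible_structureModule⟩
    have hcount : ∀ (b : Fin (S.card + 1) → ℕ) c, Bdl (ev E (mk b)) ∧ (dec (ev E (mk b))).count c =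
        ∑ i : Fin (S.card + 1), b i * (dec (CohB1.tensorPow E ↑i)).count c := by
      intro b c
      obtain ⟨h1, h2⟩ := count_ev_tensor k hdim hE hO (mk b) c
      refine ⟨h1, ?_⟩
      rw [dec_iso (dec_bdl k hdim h1) (AmpleLib.unitR (ev E (mk b))).symm]
      refine Eq.trans h2 ?_
      have hu : ∀ i, (dec (tmod (CohB1.tensorPow E i) (Coh.structureModule X))).count c =
          (dec (CohB1.tensorPow E i)).count c := fun i => congrArg (Multiset.count c)
        (dec_iso (dec_bdl k hdim (bdl_tensor (bdl_pow hE i) hO)) (AmpleLib.unitR (CohB1.tensorPow E i)))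
      simp only [hu]
      have hdeg : (mk b).natDegree + 1 ≤ S.card + 1 := by
        refine Nat.succ_le_succ (Polynomial.natDegree_le_iff_coeff_eq_zero.2 fun i hi => hhigh b i (by omega))
      rw [Finset.sum_subset (Finset.range_mono hdeg) (fun i _ hi => by
        rw [(mk b).coeff_eq_zero_of_natDegree_lt (by rw [Finset.mem_range] at hi; omega), Nat.zero_mul]),
        ← Fin.sum_univ_eq_sum_range]
      exact Finset.sum_congr rfl fun i _ => by rw [hmk]
    refine nonempty_iso_of_dec_eq (dec_bdl k hdim (hcount a (cl E)).1) (dec_bdl k hdim (hcount a' (cl E)).1)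
      (Multiset.ext.2 fun c => ?_)
    rw [(hcount a c).2, (hcount a' c).2]
    by_cases hc : c ∈ S
    · have h0 := congrFun hg ⟨c, hc⟩
      simp only [Finset.sum_apply, Pi.smul_apply, smul_eq_mul, Pi.zero_apply, v] at h0
      zify
      rw [← sub_eq_zero, ← Finset.sum_sub_distrib, ← h0]
      refine Finset.sum_congr rfl fun i _ => ?_
      rw [← sub_mul]
      congr 1
      simp only [a, a', Int.toNat_sub_toNat_neg]
    · refine Finset.sum_congr rfl fun i _ => ?_
      rw [Multiset.count_eq_zero.2 fun hm => hc (hS _ c hm), Nat.mul_zero, Nat.mul_zero]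

include k hdim in
/-- The sum and the tensor product of bundles with few summands in their powers. -/
theorem sf_biprod_tensor {A B : X.Modules} (hA : Bdl A) (hB : Bdl B) (hA' : SF A) (hB' : SF B) :
    SF (A ⊞ B) ∧ SF (tmod A B) := by
  obtain ⟨S, hS⟩ := hA'
  obtain ⟨T, hT⟩ := hB'
  let U := (S ×ˢ T).biUnion fun p => (dec (tmod p.1.out p.2.out)).toFinset
  have key : ∀ i j, ∀ c ∈ dec (tmod (CohB1.tensorPow A i) (CohB1.tensorPow B j)), c ∈ U := by
    intro i j c hc
    obtain ⟨a, ha, b, hb, h⟩ := mem_dec_tensor k hdim (bdl_pow hA i) (bdl_pow hB j) hc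
    exact Finset.mem_biUnion.2 ⟨(a, b), Finset.mem_product.2 ⟨hS i a ha, hT j b hb⟩, Multiset.mem_toFinset.2 h⟩
  have hO : Bdl (Coh.structureModule X) :=
    ⟨1, CurveLib.isFinLocFreeOfRank_one ParaFLib.isInvertible_structureModule⟩
  refine ⟨⟨U, ?_⟩, ⟨U, fun n c hc => key n n c ?_⟩⟩
  · have main : ∀ n i j, ∀ c ∈ dec (tmod (CohB1.tensorPow (A ⊞ B) n)
        (tmod (CohB1.tensorPow A i) (CohB1.tensorPow B j))), c ∈ U := by
      intro n
      induction n with
      | zero =>
        intro i j c hc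
        refine key i j c ?_
        rwa [dec_iso (dec_bdl k hdim (bdl_tensor (bdl_pow (bdl_biprod hA hB) 0)
          (bdl_tensor (bdl_pow hA i) (bdl_pow hB j))))
          (show tmod (CohB1.tensorPow (A ⊞ B) 0) _ ≅ _ from
            AmpleLib.unitL (CohB1.tensorMod (CohB1.tensorPow A i) (CohB1.tensorPow B j)))] at hc
      | succ n ih =>
        intro i j c hc
        let M := CohB1.tensorPow (A ⊞ B) n
        let W := tmod (CohB1.tensorPow A i) (CohB1.tensorPow B j)
        haveI : (CurveLib.tensR W).Additive := CurveLib.additive_tensR W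
        haveI : (tensL M).Additive := additive_tensL M
        haveI := preservesBinaryBiproducts_of_preservesBiproducts (CurveLib.tensR W)
        haveI := preservesBinaryBiproducts_of_preservesBiproducts (tensL M)
        let e : tmod (CohB1.tensorPow (A ⊞ B) (n + 1)) W ≅
            tmod M (tmod (CohB1.tensorPow A (i + 1)) (CohB1.tensorPow B j)) ⊞
              tmod M (tmod (CohB1.tensorPow A i) (CohB1.tensorPow B (j + 1))) :=
          AmpleLib.assoc M (A ⊞ B) W ≪≫ (tensL M).mapIso ((CurveLib.tensR W).mapBiprod A B) ≪≫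
            (tensL M).mapBiprod (tmod A W) (tmod B W) ≪≫
            biprod.mapIso ((tensL M).mapIso ((AmpleLib.assoc A _ _).symm ≪≫
                AmpleLib.tIso (AmpleLib.comm A (CohB1.tensorPow A i)) (Iso.refl _)))
              ((tensL M).mapIso (AmpleLib.comm B W ≪≫ AmpleLib.assoc _ _ _))
        have hM := bdl_pow (bdl_biprod hA hB) n
        have h1 := bdl_tensor hM (bdl_tensor (bdl_pow hA (i + 1)) (bdl_pow hB j))
        have h2 := bdl_tensor hM (bdl_tensor (bdl_pow hA i) (bdl_pow hB (j + 1)))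
        rw [dec_iso (dec_bdl k hdim (bdl_tensor (bdl_pow (bdl_biprod hA hB) (n + 1))
            (bdl_tensor (bdl_pow hA i) (bdl_pow hB j)))) e,
          (dec_biprod (dec_bdl k hdim h1) (dec_bdl k hdim h2)).2, Multiset.mem_add] at hc
        exact hc.elim (ih (i + 1) j c) (ih i (j + 1) c)
    intro n c hc
    refine main n 0 0 c ?_
    rw [dec_iso (dec_bdl k hdim (bdl_tensor (bdl_pow (bdl_biprod hA hB) n)
      (bdl_tensor (bdl_pow hA 0) (bdl_pow hB 0))))
      (AmpleLib.tIso (Iso.refl _) (show tmod (CohB1.tensorPow A 0) (CohB1.tensorPow B 0) ≅ Coh.structureModule X from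
        AmpleLib.unitR _) ≪≫ AmpleLib.unitR (CohB1.tensorPow (A ⊞ B) n))]
    exact hc
  · rwa [dec_iso (dec_bdl k hdim (bdl_pow (bdl_tensor hA hB) n)) (AmpleLib.powTensor A B n)] at hc

include k hdim in
/-- A summand has few summands in its powers. -/
theorem sf_of_summand {A B : X.Modules} (hA : Bdl A) (hB : Bdl B) (h : SF (A ⊞ B)) : SF A := by
  obtain ⟨S, hS⟩ := h
  refine ⟨S, fun n c hc => hS n c ?_⟩
  obtain ⟨i, r, hir⟩ : ∃ (i : CohB1.tensorPow A n ⟶ CohB1.tensorPow (A ⊞ B) n)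
      (r : CohB1.tensorPow (A ⊞ B) n ⟶ CohB1.tensorPow A n), i ≫ r = 𝟙 _ := by
    clear hc
    induction n with
    | zero => exact ⟨𝟙 _, 𝟙 _, Category.id_comp _⟩
    | succ n ih =>
      obtain ⟨i, r, hir⟩ := ih
      refine ⟨(CurveLib.tensR A).map i ≫ (tensL (CohB1.tensorPow (A ⊞ B) n)).map biprod.inl,
        (tensL (CohB1.tensorPow (A ⊞ B) n)).map biprod.fst ≫ (CurveLib.tensR A).map r, ?_⟩
      rw [Category.assoc, ← Category.assoc ((tensL _).map biprod.inl), ← CategoryTheory.Functor.map_comp,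
        biprod.inl_fst, CategoryTheory.Functor.map_id, Category.id_comp, ← CategoryTheory.Functor.map_comp, hir,
        CategoryTheory.Functor.map_id]
      rfl
  obtain ⟨l, hl, ⟨e⟩⟩ := dec_bdl k hdim (bdl_pow (bdl_biprod hA hB) n)
  obtain ⟨l', hl', ⟨e'⟩⟩ := dec_bdl k hdim (bdl_pow hA n)
  rw [dec_eq hl' e', mem_ms] at hc
  obtain ⟨J, hJ, rfl⟩ := hc
  obtain ⟨u, v, huv⟩ := exists_retract_sumL hJ
  rw [dec_eq hl e]
  refine mem_of_retract (hl' J hJ) hl (u ≫ e'.inv ≫ i ≫ e.hom) (e.inv ≫ r ≫ e'.hom ≫ v) ?_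
  simp only [Category.assoc, e.hom_inv_id_assoc, reassoc_of% hir, e'.inv_hom_id_assoc, huv]

end Groth.Agent.VBLib.WeilAlgebra
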