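import Groth.Agent.VBLib.Sub
import Groth.Agent.CurveLib.TensorExact
import Groth.Agent.DevLib.Power
/-!
Maximal destabilising submodules of pairs are stable under commuting endomorphisms.
-/

set_option autoImplicit false
set_option backward.isDefEq.respectTransparency false
set_option linter.style.haveILetI false

universe u

open CategoryTheory CategoryTheory.Limits AlgebraicGeometry TopologicalSpace
open Groth.Agent.PullbackMod Groth.Agent.DevLib Groth.Agent.QCohLib

noncomputable section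

namespace Groth.Agent.VBLib

variable (k : Type u) [Field k] {X : Scheme.{u}} [X.Over (Spec (CommRingCat.of k))]
  [IsProper (X ↘ Spec (CommRingCat.of k))] [IsIntegral X] [IsNoetherian X] [IsRegCurve X]

attribute [local irreducible] dg grk

variable {E L : X.Modules}

/-- Invariant submodules. -/
def Inv (φ : E ⟶ CohB1.tensorMod E L) {G : X.Modules} (j : G ⟶ E) : Prop :=
  ∃ χ : G ⟶ CohB1.tensorMod G L, χ ≫ (CurveLib.tensR L).map j = j ≫ φ

include k in
/-- Some invariant submodule of maximal slope, stable under a commuting endomorphism, dominates. -/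
theorem exists_inv_dominating (hdim : topologicalKrullDim X ≤ 1) (hL : PicF.IsInvertible L) {r : ℕ}
    (hE : FlatMod.IsFinLocFreeOfRank r E) (φ : E ⟶ CohB1.tensorMod E L) (ψ : E ⟶ E)
    (hcomm : ψ ≫ φ = φ ≫ (CurveLib.tensR L).map ψ)
    {G₀ : X.Modules} (j₀ : G₀ ⟶ E) [Mono j₀] (hG₀ : Coh.IsCoh G₀) (hn₀ : 0 < grk G₀) (hi₀ : Inv φ j₀) :
    ∃ (G : X.Modules) (j : G ⟶ E), Mono j ∧ Coh.IsCoh G ∧ 0 < grk G ∧ Inv φ j ∧
      (∃ ψ' : G ⟶ G, ψ' ≫ j = j ≫ ψ) ∧ dg k G₀ * grk G ≤ dg k G * grk G₀ := by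
  classical
  have hEc := isCoh_of_rank hE
  obtain ⟨N, hN⟩ := bddAbove_dg k hdim hEc
  have hle : ∀ (G : X.Modules) (j : G ⟶ E), Mono j → Coh.IsCoh G → grk G ≤ r := fun G j hj hG => by
    haveI := hj
    obtain ⟨-, h, -⟩ := coker_add k j hG hEc
    rw [grk_of_rank hE] at h
    omega
  let C : ℤ := (r.factorial : ℤ)
  let S : ℤ → Prop := fun v => ∃ (G : X.Modules) (j : G ⟶ E), Mono j ∧ Coh.IsCoh G ∧ 0 < grk G ∧ Inv φ j ∧
    v = dg k G * ((r.factorial / grk G : ℕ) : ℤ)
  obtain ⟨v, ⟨G₁, j₁, hj₁, hG₁, hn₁, hi₁, hv⟩, hmax⟩ : ∃ v, S v ∧ ∀ w, S w → w ≤ v := by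
    refine Int.exists_greatest_of_bdd ⟨|N| * r.factorial, ?_⟩ ⟨_, G₀, j₀, inferInstance, hG₀, hn₀, hi₀, rfl⟩
    rintro w ⟨G, j, hj, hG, hn, -, rfl⟩
    refine (mul_le_mul_of_nonneg_right ((hN G j hj hG).trans (le_abs_self N)) (Int.natCast_nonneg _)).trans ?_
    exact mul_le_mul_of_nonneg_left (by exact_mod_cast Nat.div_le_self _ _) (abs_nonneg _)
  let R : ℕ → Prop := fun n => ∃ (G : X.Modules) (j : G ⟶ E), Mono j ∧ Coh.IsCoh G ∧ grk G = n ∧ 0 < n ∧
    Inv φ j ∧ v = dg k G * ((r.factorial / n : ℕ) : ℤ)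
  have hR₁ : R (grk G₁) := ⟨G₁, j₁, hj₁, hG₁, rfl, hn₁, hi₁, hv⟩
  obtain ⟨G, j, hj, hG, hgn, hn, hinv, hvG⟩ := Nat.findGreatest_spec (hle G₁ j₁ hj₁ hG₁) hR₁
  set n := Nat.findGreatest R r
  haveI := hj
  -- slopes against `G`
  have hdiv : ∀ m, 0 < m → m ≤ r → ((m : ℤ) * ((r.factorial / m : ℕ) : ℤ)) = C := fun m hm hmr => by
    show _ = ((r.factorial : ℕ) : ℤ)
    rw [← Nat.cast_mul, Nat.mul_div_cancel' (Nat.dvd_factorial hm hmr)]
  have hnr : n ≤ r := hgn ▸ hle G j hj hG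
  have hC : 0 < C := show (0 : ℤ) < ((r.factorial : ℕ) : ℤ) by exact_mod_cast r.factorial_pos
  have hsl : ∀ (H : X.Modules) (i : H ⟶ E), Mono i → Coh.IsCoh H → Inv φ i →
      dg k H * n ≤ dg k G * grk H := fun H i hi hH hHi => by
    haveI := hi
    rcases Nat.eq_zero_or_pos (grk H) with h | h
    · rw [(dg_isZero k (isZero_of_mono i hH hE h)).2, h]
      simp
    have h1 := hmax _ ⟨H, i, hi, hH, h, hHi, rfl⟩
    rw [hvG] at h1
    have h2 := hdiv (grk H) h (hle H i hi hH)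
    have h3 := hdiv n hn hnr
    have h4 : (0 : ℤ) ≤ (grk H : ℤ) * n := by positivity
    have h5 := mul_le_mul_of_nonneg_left h1 h4
    refine le_of_mul_le_mul_right ?_ hC
    calc dg k H * n * C = (grk H : ℤ) * n * (dg k H * ((r.factorial / grk H : ℕ) : ℤ)) := by
          rw [← h2]; ring
      _ ≤ _ := h5
      _ = dg k G * grk H * C := by rw [← h3]; ring
  refine ⟨G, j, hj, hG, hgn ▸ hn, hinv, ?_, by rw [hgn]; exact hsl G₀ j₀ inferInstance hG₀ hi₀⟩
  obtain ⟨χ, hχ⟩ := hinv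
  let F := CurveLib.tensR L
  let D : G ⊞ G ⟶ E := biprod.desc j (j ≫ ψ)
  have hGG := DevLib.isCoh_biprod hG hG
  obtain ⟨I, p, i, hi, hp, hpi, hI, hK, h1, h2⟩ := exists_image k D hGG hEc
  haveI := hi
  haveI := hp
  let K := kernel D
  let ι : K ⟶ G ⊞ G := kernel.ι D
  haveI : Mono (ι ≫ biprod.snd) := by
    refine Preadditive.mono_of_cancel_zero _ fun {W} w hw => ?_
    have hd : w ≫ ι ≫ D = 0 := by simp [ι]
    have hf : w ≫ ι ≫ biprod.fst = 0 := by
      refine zero_of_comp_mono j ?_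
      have hDe : D = biprod.fst ≫ j + biprod.snd ≫ j ≫ ψ := biprod.desc_eq
      rw [hDe] at hd
      simpa [reassoc_of% hw] using hd
    refine zero_of_comp_mono ι (biprod.hom_ext _ _ ?_ ?_)
    · rw [Category.assoc, hf, zero_comp]
    · rw [Category.assoc, hw, zero_comp]
  let χ₂ : G ⊞ G ⟶ F.obj (G ⊞ G) := biprod.desc (χ ≫ F.map biprod.inl) (χ ≫ F.map biprod.inr)
  have hχ₂ : χ₂ ≫ F.map D = D ≫ φ := by
    apply biprod.hom_ext'
    · simp only [χ₂, D, biprod.inl_desc_assoc, Category.assoc, ← Functor.map_comp, biprod.inl_desc]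
      exact hχ
    · simp only [χ₂, D, biprod.inr_desc_assoc, Category.assoc, ← Functor.map_comp, biprod.inr_desc]
      rw [Functor.map_comp, reassoc_of% hχ, ← hcomm]
  have hT : (ShortComplex.mk ι p (zero_of_comp_mono i (by rw [Category.assoc, hpi]; exact kernel.condition D))).ShortExact := by
    refine ShortComplex.ShortExact.mk' (ShortComplex.exact_of_f_is_kernel _ ?_) inferInstance inferInstance
    exact isKernelOfComp i D (kernelIsKernel D) _ hpi
  have hTF := CurveLib.shortExact_tensR hT fun x => CurveLib.freeAt_one_of_isInvertible hL x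
  haveI : Mono (F.map i) := (CurveLib.shortExact_tensR (cokerSeq_shortExact i)
    fun x => CurveLib.freeAt_one_of_isInvertible hL x).mono_f
  have hz : ι ≫ χ₂ ≫ F.map p = 0 := by
    refine zero_of_comp_mono (F.map i) ?_
    rw [Category.assoc, Category.assoc, ← F.map_comp, hpi, hχ₂]
    exact (kernel.condition_assoc D φ).trans zero_comp
  haveI := hTF.mono_f
  haveI := hT.epi_g
  have hKinv : Inv φ (ι ≫ biprod.snd ≫ j) := by
    let χK : K ⟶ F.obj K := hTF.exact.lift (ι ≫ χ₂) ((Category.assoc _ _ _).trans hz)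
    have hK' : χK ≫ F.map ι = ι ≫ χ₂ := hTF.exact.lift_f _ _
    refine ⟨χK, ?_⟩
    show χK ≫ F.map (ι ≫ biprod.snd ≫ j) = _
    rw [F.map_comp, reassoc_of% hK']
    simp only [Category.assoc]
    refine congrArg (ι ≫ ·) ?_
    apply biprod.hom_ext'
    · simp [χ₂, ← Functor.map_comp]
    · simp only [χ₂, biprod.inr_desc_assoc, Category.assoc, ← Functor.map_comp, biprod.inr_snd_assoc]
      exact hχ
  have hIinv : Inv φ i := by
    let χI : I ⟶ F.obj I := hT.exact.desc (χ₂ ≫ F.map p) hz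
    have hI' : p ≫ χI = χ₂ ≫ F.map p := hT.exact.g_desc _ _
    refine ⟨χI, ?_⟩
    rw [← cancel_epi p, reassoc_of% hI', ← F.map_comp, hpi, hχ₂, reassoc_of% hpi]
  haveI : Mono (ι ≫ biprod.snd ≫ j) := by
    rw [← Category.assoc]
    exact mono_comp _ _
  have hdK := hsl K (ι ≫ biprod.snd ≫ j) inferInstance hK hKinv
  have hdI := hsl I i hi hI hIinv
  have hsp : (ShortComplex.mk (biprod.inl : G ⟶ G ⊞ G) biprod.snd (by simp)).ShortExact :=
    (ShortComplex.Splitting.ofHasBinaryBiproduct G G).shortExact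
  have hr2 : grk (G ⊞ G) = grk G + grk G := grk_add hsp hG hG
  have hd2 : dg k (G ⊞ G) = dg k G + dg k G := dg_add k hsp hG hGG hG
  let f : G ⟶ I := biprod.inl ≫ p
  have hf : f ≫ i = j := by simp [f, hpi, D]
  haveI : Mono f := by
    haveI : Mono (f ≫ i) := hf ▸ hj
    exact mono_of_mono f i
  obtain ⟨-, hfr, -⟩ := coker_add k f hG hI
  change grk (G ⊞ G) = grk K + grk I at h1
  change dg k (G ⊞ G) = dg k K + dg k I at h2
  have hrI : (grk I : ℤ) + grk K = n + n := by rw [← hgn]; exact_mod_cast (by omega : grk I + grk K = grk G + grk G)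
  have hdI' : dg k I + dg k K = dg k G + dg k G := by omega
  have heq : dg k I * n = dg k G * grk I := by
    have e1 := congrArg (· * (n : ℤ)) hdI'
    have e2 := congrArg (dg k G * ·) hrI
    simp only [add_mul, mul_add] at e1 e2
    linarith
  have hIn : grk I = n := by
    refine le_antisymm ?_ (by rw [← hgn]; omega)
    refine Nat.le_findGreatest (hle I i hi hI) ⟨I, i, hi, hI, rfl, by omega, hIinv, ?_⟩
    rw [hvG]
    have h2' := hdiv (grk I) (by omega) (hle I i hi hI)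
    have h3' := hdiv n hn hnr
    have hne : (grk I : ℤ) * n ≠ 0 := by
      have a : (0 : ℤ) < n := by exact_mod_cast hn
      have b : (0 : ℤ) < grk I := by exact_mod_cast (show 0 < grk I by omega)
      exact (mul_pos b a).ne'
    refine mul_left_cancel₀ hne ?_
    calc (grk I : ℤ) * n * (dg k G * ((r.factorial / n : ℕ) : ℤ)) = dg k G * grk I * C := by rw [← h3']; ring
      _ = dg k I * n * C := by rw [heq]
      _ = _ := by rw [← h2']; ring
  haveI : IsIso f := by
    refine (dg_le_of_mono k hdim f hG hI (by rw [hIn, hgn])).2 ?_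
    rw [hIn] at heq
    exact le_of_eq (mul_right_cancel₀ (by exact_mod_cast hn.ne') heq)
  refine ⟨biprod.inr ≫ p ≫ inv f, ?_⟩
  have : inv f ≫ j = i := by rw [← hf, IsIso.inv_hom_id_assoc]
  simp only [Category.assoc, this, hpi, D, biprod.inr_desc]

end Groth.Agent.VBLib
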