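import Groth.Agent.VBLib.GenusOneTwo
/-!
Stable pairs of rank two on curves of genus one.
-/

set_option autoImplicit false
set_option backward.isDefEq.respectTransparency false
set_option linter.style.haveILetI false

universe u

open CategoryTheory CategoryTheory.Limits AlgebraicGeometry TopologicalSpace
open Groth.Agent.PullbackMod Groth.Agent.DevLib Groth.Agent.QCohLib

noncomputable section

namespace Groth.Agent.VBLib

variable (k : Type u) [Field k] {X : Scheme.{u}} [X.Over (Spec (CommRingCat.of k))]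
  [IsProper (X ↘ Spec (CommRingCat.of k))] [IsIntegral X] [IsNoetherian X] [IsRegCurve X]

include k in
/-- A line subbundle of large degree in a stable pair forces an isomorphism with the twisted quotient. -/
theorem line_sub_iso (hdim : topologicalKrullDim X ≤ 1) {L : X.Modules} (hL : PicF.IsInvertible L)
    (hL0 : Curv2.deg k X L 1 = 0) (S : ShortComplex X.Modules) (hS : S.ShortExact) (h₁ : PicF.IsInvertible S.X₁)
    (h₃ : PicF.IsInvertible S.X₃) (h₂ : Coh.IsCoh S.X₂) (φ : S.X₂ ⟶ CohB1.tensorMod S.X₂ L)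
    (hbig : Curv2.deg k X S.X₂ 2 ≤ Curv2.deg k X S.X₁ 1 * 2)
    (hni : ∀ χ : S.X₁ ⟶ CohB1.tensorMod S.X₁ L, χ ≫ (CurveLib.tensR L).map S.f ≠ S.f ≫ φ) :
    Nonempty (S.X₁ ≅ CohB1.tensorMod S.X₃ L) ∧ Curv2.deg k X S.X₁ 1 = Curv2.deg k X S.X₃ 1 := by
  have hT := CurveLib.shortExact_tensR hS fun x => CurveLib.freeAt_one_of_isInvertible hL x
  haveI := hT.mono_f
  let δ : S.X₁ ⟶ CohB1.tensorMod S.X₃ L := S.f ≫ φ ≫ (CurveLib.tensR L).map S.g
  have hδ : δ ≠ 0 := fun h =>
    hni (hT.exact.lift (S.f ≫ φ) ((Category.assoc _ _ _).trans h)) (hT.exact.lift_f _ _)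
  obtain ⟨hle, hiso⟩ := deg_le_of_ne_zero' k hdim h₁ (AmpleLib.isInvertible_tensor h₃ hL) hδ
  have hd : Curv2.deg k X (CohB1.tensorMod S.X₃ L) 1 = Curv2.deg k X S.X₃ 1 := by
    rw [CurveLib.deg_tensor_add (k := k) hdim h₃ hL, hL0, add_zero]
  have hsum : Curv2.deg k X S.X₂ 2 = Curv2.deg k X S.X₁ 1 + Curv2.deg k X S.X₃ 1 :=
    CurveLib.deg_shortExact (k := k) hS (CurveLib.isCoh_of_isInvertible h₁) h₂ (CurveLib.isCoh_of_isInvertible h₃) rfl
  haveI := hiso (by omega)
  exact ⟨⟨asIso δ⟩, by omega⟩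
where
  deg_le_of_ne_zero' (k : Type u) [Field k] {X : Scheme.{u}} [X.Over (Spec (CommRingCat.of k))]
      [IsProper (X ↘ Spec (CommRingCat.of k))] [IsIntegral X] [IsNoetherian X]
      (hdim : topologicalKrullDim X ≤ 1) {M N : X.Modules} (hM : PicF.IsInvertible M) (hN : PicF.IsInvertible N)
      {f : M ⟶ N} (hf : f ≠ 0) :
      Curv2.deg k X M 1 ≤ Curv2.deg k X N 1 ∧ (Curv2.deg k X N 1 ≤ Curv2.deg k X M 1 → IsIso f) := by
    haveI := CurveLib.mono_of_ne_zero hM hN hf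
    have hMf := CurveLib.isFinLocFreeOfRank_one hM
    have hNf := CurveLib.isFinLocFreeOfRank_one hN
    have h := dg_le_of_mono k hdim f (isCoh_of_rank hMf) (isCoh_of_rank hNf)
      (by rw [grk_of_rank hMf, grk_of_rank hNf])
    rw [dg_eq k hMf, dg_eq k hNf] at h
    exact h

variable [IsAlgClosed k] [CharZero k] [Smooth (X ↘ Spec (CommRingCat.of k))]

omit [AlgebraicGeometry.IsNoetherian X] [IsRegCurve X] in
include k in
/-- The underlying bundle of a stable pair of rank two in genus one is stable. -/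
theorem no_destabilising_line (hdim : topologicalKrullDim X = 1) (hg : Curv2.genus k X = 1) {L E : X.Modules}
    (hL : PicF.IsInvertible L) (hL0 : Curv2.deg k X L 1 = 0)
    (hL2 : ¬ Nonempty (CohB1.tensorMod L L ≅ Coh.structureModule X))
    (hE : FlatMod.IsFinLocFreeOfRank 2 E) (φ : E ⟶ CohB1.tensorMod E L)
    (hst : ∀ (M : X.Modules) (j : M ⟶ E), Mono j → PicF.IsInvertible M →
      (∃ χ : M ⟶ CohB1.tensorMod M L, χ ≫ (CurveLib.tensR L).map j = j ≫ φ) →
      Curv2.deg k X M 1 * 2 < Curv2.deg k X E 2)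
    (G : X.Modules) (i : G ⟶ E) [Mono i] (hG : FlatMod.IsFinLocFreeOfRank 1 G) :
    Curv2.deg k X G 1 * 2 < Curv2.deg k X E 2 := by
  haveI := isRegCurve_of_smooth k (X := X) hdim.le
  haveI := EulerIneqLib.isNoetherian_proper (X := X) k
  by_contra hcon
  have hGc := isCoh_of_rank hG
  have hEc := isCoh_of_rank hE
  obtain ⟨hCc, hCr, hCd⟩ := coker_add k i hGc hEc
  obtain ⟨Q, q, hq, hQc, hQf, hQr, hQd⟩ := exists_freeQuot k hdim.le hCc
  haveI := hq
  rw [grk_of_rank hG, grk_of_rank hE] at hCr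
  rw [show grk Q = 1 by omega] at hQf
  have hQi := isInvertible_of_rank hQf
  let π : E ⟶ Q := cokernel.π i ≫ q
  haveI : Epi π := epi_comp _ _
  obtain ⟨hKc, hKr, hKd⟩ := kernel_add k π hEc hQc
  rw [grk_of_rank hE, grk_of_rank hQf] at hKr
  have hKf := rank_of_mono (kernel.ι π) hKc hE
  rw [show grk (kernel π) = 1 by omega] at hKf
  have hKi := isInvertible_of_rank hKf
  let S : ShortComplex X.Modules := ShortComplex.mk (kernel.ι π) π (kernel.condition π)
  have hS : S.ShortExact :=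
    ShortComplex.ShortExact.mk' (ShortComplex.exact_of_f_is_kernel _ (kernelIsKernel π)) inferInstance inferInstance
  rw [dg_eq k hE, dg_eq k hG] at hCd
  rw [dg_eq k hE, dg_eq k hKf, dg_eq k hQf] at hKd
  rw [dg_eq k hQf] at hQd
  have hbig : Curv2.deg k X S.X₂ 2 ≤ Curv2.deg k X S.X₁ 1 * 2 := by
    show Curv2.deg k X E 2 ≤ Curv2.deg k X (kernel π) 1 * 2
    omega
  obtain ⟨⟨e⟩, heq⟩ := line_sub_iso k hdim.le hL hL0 S hS hKi hQi hEc φ hbig fun χ hχ =>
    not_lt.2 hbig (hst (kernel π) (kernel.ι π) inferInstance hKi ⟨χ, hχ⟩)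
  obtain ⟨N, hN, ⟨η⟩⟩ := AmpleEmb.exists_isInverseOf hQi
  have η' : CohB1.tensorMod N Q ≅ Coh.structureModule X := AmpleLib.comm N Q ≪≫ η
  have e1 : CohB1.tensorMod N (kernel π) ≅ L :=
    AmpleLib.comm N (kernel π) ≪≫ AmpleLib.tIso (e ≪≫ AmpleLib.comm Q L) (Iso.refl N) ≪≫ (untwist η).app L
  have hh1 : Subsingleton (Coh.HH X L 1) := by
    have hd := deg_genus_one k hdim hg L 1
    rw [hL0] at hd
    haveI : Subsingleton (Coh.HH X L 0) := by
      by_contra hne
      rw [not_subsingleton_iff_nontrivial] at hne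
      obtain ⟨t, ht⟩ := CurveLib.exists_hom_ne_zero L
      obtain ⟨-, hiso⟩ := line_sub_iso.deg_le_of_ne_zero' k hdim.le ParaFLib.isInvertible_structureModule hL ht
      haveI := hiso (by rw [hL0, CurveLib.deg_structureModule])
      exact hL2 ⟨AmpleLib.tIso (asIso t).symm (asIso t).symm ≪≫ CurveLib.tmodUnit (Coh.structureModule X)⟩
    haveI := EulerIneqLib.finite_HH (k := k) (CurveLib.isCoh_of_isInvertible hL) 1
    rw [Module.finrank_zero_of_subsingleton (M := Coh.HH X L 0)] at hd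
    exact (Module.finrank_zero_iff (R := k)).1 (by omega)
  haveI : Subsingleton (Coh.HH X (CohB1.tensorMod N (kernel π)) 1) :=
    (LinearEquiv.ofBijective _ (CurveLib.hMap_bijective_iso (k := k) e1 1)).toEquiv.subsingleton
  haveI := S12632.result k X hdim S hS 1 hKf hQi N ⟨η'⟩ inferInstance
  let sp : S.Splitting := ShortComplex.Splitting.ofExactOfSection S hS.exact (section_ S.g)
    (IsSplitEpi.id S.g) hS.mono_f
  let T : ShortComplex X.Modules := ShortComplex.mk sp.s sp.r sp.s_r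
  have hT : T.ShortExact := (show T.Splitting from
    { r := S.g
      s := S.f
      f_r := sp.s_g
      s_g := sp.f_r
      id := by rw [add_comm]; exact sp.id }).shortExact
  haveI : Mono sp.s := hT.mono_f
  have hbig' : Curv2.deg k X T.X₂ 2 ≤ Curv2.deg k X T.X₁ 1 * 2 := by
    show Curv2.deg k X E 2 ≤ Curv2.deg k X Q 1 * 2
    have : Curv2.deg k X (kernel π) 1 = Curv2.deg k X Q 1 := heq
    omega
  obtain ⟨⟨e'⟩, -⟩ := line_sub_iso k hdim.le hL hL0 T hT hQi hKi hEc φ hbig' fun χ hχ =>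
    not_lt.2 hbig' (hst Q sp.s inferInstance hQi ⟨χ, hχ⟩)
  have e2 : CohB1.tensorMod (CohB1.tensorMod Q L) L ≅ Q := AmpleLib.tIso e.symm (Iso.refl L) ≪≫ e'.symm
  have e3 : CohB1.tensorMod Q (CohB1.tensorMod L L) ≅ Q :=
    ((ModTensor.tensorAssoc X.sheaf L L).app Q).symm ≪≫ e2
  haveI := isEquivalence_tensR η
  exact hL2 ⟨(CurveLib.tensR Q).preimageIso (AmpleLib.comm _ Q ≪≫ e3 ≪≫ (CurveLib.tmodUnit Q).symm)⟩

end Groth.Agent.VBLib
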