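import Groth.Agent.VBLib.HomH0
import Groth.Agent.VBLib.WeilLine
import Groth.Agent.CurveLib.CurveVanish

/-!
# Bundles which are finite in the sense of Weil
-/

set_option autoImplicit false
set_option backward.isDefEq.respectTransparency false
set_option linter.style.haveILetI false
set_option maxHeartbeats 1000000

universe w u

open CategoryTheory CategoryTheory.Limits AlgebraicGeometry TopologicalSpace
open Groth.Agent.PullbackMod Groth.Agent.DevLib Groth.Agent.QCohLib Groth.Agent.DCohLib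
open Groth.Agent.VBLib.DualDeg Groth.Agent.VBLib.HomPair Groth.Agent.VBLib.Dual
open scoped Polynomial

noncomputable section

namespace Groth.Agent.VBLib.WeilFinite

variable (k : Type u) [Field k] {X : Scheme.{u}} [X.Over (Spec (CommRingCat.of k))]

/-- The cohomology of a finite sum. -/
theorem finrank_deco {C : Type*} [Category C] [Preadditive C] (F : C ⥤ X.Modules) [F.Additive] {n : ℕ}
    {S : C} {A : Fin n → C} (ι : ∀ i, A i ⟶ S) (π : ∀ i, S ⟶ A i) (h1 : ∀ i, ι i ≫ π i = 𝟙 _)
    (h2 : ∀ i j, i ≠ j → ι i ≫ π j = 0) (hsum : ∑ i, π i ≫ ι i = 𝟙 S) (p : ℕ)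
    (hfin : ∀ i, Module.Finite k (Coh.HH X (F.obj (A i)) p)) :
    Module.Finite k (Coh.HH X (F.obj S) p) ∧
      Module.finrank k (Coh.HH X (F.obj S) p) = ∑ i, Module.finrank k (Coh.HH X (F.obj (A i)) p) := by
  haveI := hfin
  have hsum' : ∀ z, ∑ i, CurveLib.hMap (k := k) (F.map (ι i)) p (CurveLib.hMap (k := k) (F.map (π i)) p z) = z := by
    intro z
    have hs : ∀ (s : Finset (Fin n)), ∑ i ∈ s, CurveLib.hMap (k := k) (F.map (ι i)) p
        (CurveLib.hMap (k := k) (F.map (π i)) p z) = CurveLib.hMap (k := k) (F.map (∑ i ∈ s, π i ≫ ι i)) p z := by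
      intro s
      induction s using Finset.induction with
      | empty => simp [hMap_zero]
      | insert a s ha ih =>
        rw [Finset.sum_insert ha, Finset.sum_insert ha, Functor.map_add, hMap_add, ih, Functor.map_comp, hMap_comp]
    rw [hs, hsum, F.map_id, Dual.hMap_id k]
  let φ : Coh.HH X (F.obj S) p →ₗ[k] ((i : Fin n) → Coh.HH X (F.obj (A i)) p) :=
    LinearMap.pi fun i => CurveLib.hMap (k := k) (F.map (π i)) p
  have hφ : Function.Bijective φ := by
    refine ⟨fun z z' h => ?_, fun v => ⟨∑ i, CurveLib.hMap (k := k) (F.map (ι i)) p (v i), funext fun j => ?_⟩⟩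
    · rw [← hsum' z, ← hsum' z']
      refine Finset.sum_congr rfl fun i _ => congrArg (CurveLib.hMap (k := k) (F.map (ι i)) p) ?_
      exact congrFun h i
    · show CurveLib.hMap (k := k) (F.map (π j)) p (∑ i, CurveLib.hMap (k := k) (F.map (ι i)) p (v i)) = v j
      rw [map_sum, Finset.sum_eq_single j]
      · rw [← hMap_comp, ← F.map_comp, h1, F.map_id, Dual.hMap_id k]
      · intro i _ hi
        rw [← hMap_comp, ← F.map_comp, h2 i j hi, F.map_zero, hMap_zero]
      · simp
  exact ⟨Module.Finite.equiv (LinearEquiv.ofBijective φ hφ).symm,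
    by rw [(LinearEquiv.ofBijective φ hφ).finrank_eq, Module.finrank_pi_fintype]⟩

/-- The cohomology of a finite coproduct. -/
theorem finrank_sigma {C : Type*} [Category C] [Preadditive C] (F : C ⥤ X.Modules) [F.Additive] {n : ℕ}
    (A : Fin n → C) [HasCoproduct A] (p : ℕ) (hfin : ∀ i, Module.Finite k (Coh.HH X (F.obj (A i)) p)) :
    Module.Finite k (Coh.HH X (F.obj (∐ A)) p) ∧
      Module.finrank k (Coh.HH X (F.obj (∐ A)) p) = ∑ i, Module.finrank k (Coh.HH X (F.obj (A i)) p) := by
  refine finrank_deco k F (fun i => Sigma.ι A i)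
    (fun i => Sigma.desc fun l => if h : l = i then eqToHom (congrArg A h) else 0) (fun i => ?_) (fun i j hij => ?_) ?_ p hfin
  · rw [Sigma.ι_desc, dif_pos rfl, eqToHom_refl]
  · rw [Sigma.ι_desc, dif_neg hij]
  · refine Sigma.hom_ext _ _ fun l => ?_
    rw [Category.comp_id, Preadditive.comp_sum, Finset.sum_eq_single l]
    · rw [Sigma.ι_desc_assoc, dif_pos rfl, eqToHom_refl, Category.id_comp]
    · intro b _ hb
      rw [Sigma.ι_desc_assoc, dif_neg (Ne.symm hb), zero_comp]
    · simp

/-- The cohomology of a twisted finite coproduct. -/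
theorem finrank_sigma_tens (W : X.Modules) {n : ℕ} (A : Fin n → X.Modules) (p : ℕ)
    (hfin : ∀ i, Module.Finite k (Coh.HH X ((CurveLib.tensR W).obj (A i)) p)) :
    Module.Finite k (Coh.HH X ((CurveLib.tensR W).obj (∐ A)) p) ∧
      Module.finrank k (Coh.HH X ((CurveLib.tensR W).obj (∐ A)) p) =
        ∑ i, Module.finrank k (Coh.HH X ((CurveLib.tensR W).obj (A i)) p) := by
  haveI : (CurveLib.tensR W).Additive := CurveLib.additive_tensR W
  exact finrank_sigma k (CurveLib.tensR W) A p hfin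

/-- A linear recurrence with zero initial values vanishes. -/
theorem eq_zero_of_recurrence {P Q : ℕ[X]} (b : ℕ → ℕ) {N : ℕ} (hN : P.coeff N ≠ Q.coeff N)
    (htop : ∀ i, N < i → P.coeff i = Q.coeff i) (h0 : ∀ i, i < N → b i = 0)
    (hrec : ∀ m, ∑ i ∈ Finset.range (P.natDegree + 1), P.coeff i * b (i + m) =
      ∑ i ∈ Finset.range (Q.natDegree + 1), Q.coeff i * b (i + m)) : ∀ n, b n = 0 := by
  intro n
  induction n using Nat.strong_induction_on with
  | h n ih =>
    rcases Nat.lt_or_ge n N with h | h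
    · exact h0 n h
    · obtain ⟨m, rfl⟩ := Nat.exists_eq_add_of_le h
      let M := max (max (P.natDegree + 1) (Q.natDegree + 1)) (N + 1)
      have e : ∀ (R : ℕ[X]), R.natDegree + 1 ≤ M →
          ∑ i ∈ Finset.range (R.natDegree + 1), R.coeff i * b (i + m) = ∑ i ∈ Finset.range M, R.coeff i * b (i + m) :=
        fun R hR => Finset.sum_subset (Finset.range_mono hR) fun i _ hi => by
          rw [R.coeff_eq_zero_of_natDegree_lt (by rw [Finset.mem_range] at hi; omega), Nat.zero_mul]
      have h1 := hrec m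
      rw [e P ((le_max_left _ _).trans (le_max_left _ _)), e Q ((le_max_right _ _).trans (le_max_left _ _))] at h1
      have hmem : N ∈ Finset.range M :=
        Finset.mem_range.2 (Nat.lt_of_lt_of_le (Nat.lt_succ_self N) (le_max_right _ _))
      rw [← Finset.add_sum_erase _ _ hmem, ← Finset.add_sum_erase _ _ hmem,
        Finset.sum_congr rfl (fun i hi => by
          obtain ⟨hiN, -⟩ := Finset.mem_erase.1 hi
          rcases Nat.lt_or_gt_of_ne hiN with hlt | hgt
          · rw [ih (i + m) (by omega), Nat.mul_zero, Nat.mul_zero]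
          · rw [htop i hgt] : ∀ i ∈ (Finset.range M).erase N, P.coeff i * b (i + m) = Q.coeff i * b (i + m))] at h1
      by_contra hb
      exact hN (Nat.eq_of_mul_eq_mul_right (Nat.pos_of_ne_zero hb) (Nat.add_right_cancel h1))

omit [X.Over (Spec (CommRingCat.of k))] in
theorem rank_tensorPow [IsLocallyNoetherian X] {r : ℕ} {E : X.Modules} (hE : FlatMod.IsFinLocFreeOfRank r E) :
    ∀ n, FlatMod.IsFinLocFreeOfRank (r ^ n) (CohB1.tensorPow E n)
  | 0 => CurveLib.isFinLocFreeOfRank_one ParaFLib.isInvertible_structureModule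
  | n + 1 => by
    rw [pow_succ]
    exact rank_tensor (rank_tensorPow hE n) hE

section Finite

variable [IsProper (X ↘ Spec (CommRingCat.of k))] [IsIntegral X] [IsNoetherian X]

include k in
/-- Vanishing of the cohomology of finitely many tensor powers propagates to all. -/
theorem finrank_eq_zero {r : ℕ} {E : X.Modules} (hE : FlatMod.IsFinLocFreeOfRank r E) {P Q : ℕ[X]} {N : ℕ}
    (hN : P.coeff N ≠ Q.coeff N) (htop : ∀ i, N < i → P.coeff i = Q.coeff i)
    (e : (∐ fun i : Fin (P.natDegree + 1) => ∐ fun _ : Fin (P.coeff ↑i) => CohB1.tensorPow E ↑i) ≅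
      (∐ fun i : Fin (Q.natDegree + 1) => ∐ fun _ : Fin (Q.coeff ↑i) => CohB1.tensorPow E ↑i))
    {T : X.Modules} (hT : PicF.IsInvertible T) (p : ℕ)
    (h0 : ∀ i, i < N → Module.finrank k (Coh.HH X (tmod (CohB1.tensorPow E i) T) p) = 0) :
    ∀ n, Module.finrank k (Coh.HH X (tmod (CohB1.tensorPow E n) T) p) = 0 := by
  haveI := EulerIneqLib.isNoetherian_proper (X := X) k
  let W : ℕ → X.Modules := fun m => Nat.rec T (fun _ Wm => tmod E Wm) m
  have hW : ∀ m, ∃ n, FlatMod.IsFinLocFreeOfRank n (W m) := by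
    intro m
    induction m with
    | zero => exact ⟨1, CurveLib.isFinLocFreeOfRank_one hT⟩
    | succ m ih =>
      obtain ⟨n, hn⟩ := ih
      exact ⟨_, rank_tensor hE hn⟩
  let b : ℕ → ℕ := fun n => Module.finrank k (Coh.HH X (tmod (CohB1.tensorPow E n) T) p)
  have hshift : ∀ m i, Module.finrank k (Coh.HH X (tmod (CohB1.tensorPow E i) (W m)) p) = b (i + m) := by
    intro m
    induction m with
    | zero => exact fun i => rfl
    | succ m ih =>
      intro i
      rw [show i + (m + 1) = i + 1 + m by omega, ← ih (i + 1)]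
      exact ((LinearEquiv.ofBijective _ (CurveLib.hMap_bijective_iso (k := k)
        (show tmod (CohB1.tensorPow E (i + 1)) (W m) ≅ tmod (CohB1.tensorPow E i) (W (m + 1)) from
          AmpleLib.assoc (CohB1.tensorPow E i) E (W m)) p)).finrank_eq).symm
  have hfin : ∀ m i, Module.Finite k (Coh.HH X ((CurveLib.tensR (W m)).obj (CohB1.tensorPow E i)) p) := fun m i => by
    obtain ⟨n, hn⟩ := hW m
    exact EulerIneqLib.finite_HH (k := k) (CurveLib.isCoh_tmod (isCoh_of_rank (rank_tensorPow hE i)) (isCoh_of_rank hn)) p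
  have hsum : ∀ (R : ℕ[X]) (m : ℕ), Module.finrank k (Coh.HH X ((CurveLib.tensR (W m)).obj
      (∐ fun i : Fin (R.natDegree + 1) => ∐ fun _ : Fin (R.coeff ↑i) => CohB1.tensorPow E ↑i)) p) =
      ∑ i ∈ Finset.range (R.natDegree + 1), R.coeff i * b (i + m) := by
    intro R m
    have h1 : ∀ (i c : ℕ), Module.finrank k
        (Coh.HH X ((CurveLib.tensR (W m)).obj (∐ fun _ : Fin c => CohB1.tensorPow E i)) p) = c * b (i + m) := by
      intro i c
      rw [(finrank_sigma_tens k (W m) (fun _ : Fin c => CohB1.tensorPow E i) p (fun _ => hfin m i)).2]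
      rw [Finset.sum_const, Finset.card_univ, Fintype.card_fin, smul_eq_mul]
      exact congrArg (c * ·) (hshift m i)
    have h3 : ∀ i : Fin (R.natDegree + 1), Module.Finite k (Coh.HH X ((CurveLib.tensR (W m)).obj
        (∐ fun _ : Fin (R.coeff ↑i) => CohB1.tensorPow E ↑i)) p) := fun i =>
      (finrank_sigma_tens k (W m) (fun _ : Fin (R.coeff ↑i) => CohB1.tensorPow E ↑i) p
        (fun _ => hfin m ↑i)).1
    rw [(finrank_sigma_tens k (W m)
      (fun i : Fin (R.natDegree + 1) => ∐ fun _ : Fin (R.coeff ↑i) => CohB1.tensorPow E ↑i) p h3).2,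
      ← Fin.sum_univ_eq_sum_range]
    exact Finset.sum_congr rfl fun i _ => h1 i _
  refine fun n => eq_zero_of_recurrence b hN htop h0 (fun m => ?_) n
  rw [← hsum P m, ← hsum Q m]
  exact (LinearEquiv.ofBijective _
    (CurveLib.hMap_bijective_iso (k := k) ((CurveLib.tensR (W m)).mapIso e) p)).finrank_eq

end Finite

section Curve

variable [IsProper (X ↘ Spec (CommRingCat.of k))] [IsIntegral X] [IsNoetherian X] [IsRegCurve X] [IsAlgClosed k]
  (hdim : topologicalKrullDim X = 1)

attribute [local irreducible] dg grk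

include k hdim in
/-- The degree of a tensor power. -/
theorem deg_tensorPow {r : ℕ} {E : X.Modules} (hE : FlatMod.IsFinLocFreeOfRank r E) :
    ∀ n, (r : ℤ) * Curv2.deg k X (CohB1.tensorPow E n) (r ^ n) = n * (r : ℤ) ^ n * Curv2.deg k X E r
  | 0 => by
    show (r : ℤ) * Curv2.deg k X (Coh.structureModule X) 1 = _
    rw [CurveLib.deg_structureModule]
    simp
  | n + 1 => by
    have h : Curv2.deg k X (CohB1.tensorPow E (n + 1)) (r ^ n * r) = _ :=
      deg_tensor k hdim (rank_tensorPow hE n) hE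
    rw [pow_succ r n, h, mul_add, ← mul_assoc (r : ℤ) (r : ℤ), mul_assoc (r : ℤ) (r : ℤ),
      mul_left_comm (r : ℤ) (r : ℤ), deg_tensorPow hE n]
    push_cast
    ring

include k hdim in
/-- The Euler characteristic of a twisted tensor power. -/
theorem euler_tensorPow_twist {r : ℕ} {E T : X.Modules} (hE : FlatMod.IsFinLocFreeOfRank r E)
    (hT : PicF.IsInvertible T) (n : ℕ) :
    (r : ℤ) * Curv2.euler k X (tmod (CohB1.tensorPow E n) T) = (r : ℤ) ^ n *
      (n * Curv2.deg k X E r + r * (Curv2.deg k X T 1 + Curv2.euler k X (Coh.structureModule X))) := by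
  have h := deg_tensor k hdim (rank_tensorPow hE n) (CurveLib.isFinLocFreeOfRank_one hT)
  rw [Nat.mul_one, show Curv2.deg k X (tmod (CohB1.tensorPow E n) T) (r ^ n) =
    Curv2.euler k X (tmod (CohB1.tensorPow E n) T) - (r ^ n : ℕ) * Curv2.euler k X (Coh.structureModule X) from rfl] at h
  have h2 := deg_tensorPow k hdim hE n
  push_cast at h
  linear_combination (r : ℤ) * h + h2

include k hdim in
/-- Twists by a very negative line have no sections. -/
theorem exists_subsingleton_H0_twist {r : ℕ} {G L : X.Modules} (hG : FlatMod.IsFinLocFreeOfRank r G)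
    (hL : PicF.IsInvertible L) (hd : Curv2.deg k X L 1 = 1) :
    ∃ n₀ : ℕ, ∀ n, n₀ ≤ n → Subsingleton (Coh.HH X (tmod G (dd (CohB1.tensorPow L n))) 0) := by
  obtain ⟨M, hM⟩ := bddAbove_dg k hdim.le (isCoh_of_rank hG)
  refine ⟨M.toNat + 1, fun n hn => ?_⟩
  have hQ : PicF.IsInvertible (CohB1.tensorPow L n) := AmpleLib.isInvertible_tensorPow hL n
  have hQr := CurveLib.isFinLocFreeOfRank_one hQ
  refine subsingleton_of_forall_eq 0 fun c => (HomH0.thH_bijective (X := X) hQr G).1 ?_
  rw [HomH0.thH_zero]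
  by_contra hne
  obtain ⟨I, p, i, hi, -, hpi, hI, hK, h1, -⟩ :=
    exists_image k (HomH0.thH (CohB1.tensorPow L n) G c) (isCoh_of_rank hQr) (isCoh_of_rank hG)
  haveI := hi
  have hI0 : grk I ≠ 0 := fun hz => hne (by
    rw [← hpi, (isZero_of_mono i hI hG hz).eq_of_tgt p 0, zero_comp])
  rw [grk_of_rank hQr] at h1
  haveI : Mono (HomH0.thH (CohB1.tensorPow L n) G c) :=
    Preadditive.mono_of_isZero_kernel _ (isZero_of_mono (kernel.ι _) hK hQr (by omega))
  have := hM _ (HomH0.thH (CohB1.tensorPow L n) G c) inferInstance (isCoh_of_rank hQr)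
  rw [dg_eq k hQr, CurveLib.deg_tensorPow (k := k) hdim.le hL, hd, mul_one] at this
  omega

/-- Tensor powers of a monomorphism. -/
theorem exists_mono_tensorPow {r s : ℕ} {E F : X.Modules} (hE : FlatMod.IsFinLocFreeOfRank r E)
    (hF : FlatMod.IsFinLocFreeOfRank s F) (f : F ⟶ E) [Mono f] :
    ∀ n, ∃ g : CohB1.tensorPow F n ⟶ CohB1.tensorPow E n, Mono g
  | 0 => ⟨𝟙 _, inferInstance⟩
  | n + 1 => by
    obtain ⟨g, hg⟩ := exists_mono_tensorPow hE hF f n
    haveI := hg
    haveI h1 : Mono (CurveLib.tmap g F) := CurveLib.mono_tmap g (CurveLib.freeAt_of_isFinLocFreeOfRank hF)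
    haveI h2 : Mono ((tensL (CohB1.tensorPow E n)).map f) :=
      (shortExact_tensL (cokerSeq_shortExact f) (rank_tensorPow hE n)).mono_f
    exact ⟨CurveLib.tmap g F ≫ (tensL (CohB1.tensorPow E n)).map f, mono_comp _ _⟩

include k hdim in
/-- A Weil finite bundle is semistable of degree zero. -/
theorem deg_eq_zero_and_le {r : ℕ} (hr : 0 < r) {E : X.Modules} (hE : FlatMod.IsFinLocFreeOfRank r E) {P Q : ℕ[X]}
    (hPQ : P ≠ Q) (e : (∐ fun i : Fin (P.natDegree + 1) => ∐ fun _ : Fin (P.coeff ↑i) => CohB1.tensorPow E ↑i) ≅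
      (∐ fun i : Fin (Q.natDegree + 1) => ∐ fun _ : Fin (Q.coeff ↑i) => CohB1.tensorPow E ↑i)) :
    Curv2.deg k X E r = 0 ∧ ∀ (F : X.Modules) (s : ℕ) (f : F ⟶ E), Mono f → 0 < s →
      FlatMod.IsFinLocFreeOfRank s F → Curv2.deg k X F s ≤ 0 := by
  obtain ⟨N, hN, htop⟩ : ∃ N, P.coeff N ≠ Q.coeff N ∧ ∀ i, N < i → P.coeff i = Q.coeff i := by
    let S := (Finset.range (max P.natDegree Q.natDegree + 1)).filter fun i => P.coeff i ≠ Q.coeff i
    obtain ⟨j, hj⟩ : ∃ j, P.coeff j ≠ Q.coeff j := by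
      by_contra h
      push Not at h
      exact hPQ (Polynomial.ext h)
    have hmem : ∀ i, P.coeff i ≠ Q.coeff i → i ∈ S := fun i hi => by
      refine Finset.mem_filter.2 ⟨Finset.mem_range.2 ?_, hi⟩
      by_contra h
      exact hi (by rw [P.coeff_eq_zero_of_natDegree_lt (by omega), Q.coeff_eq_zero_of_natDegree_lt (by omega)])
    have hS : S.Nonempty := ⟨j, hmem j hj⟩
    refine ⟨S.max' hS, (Finset.mem_filter.1 (S.max'_mem hS)).2, fun i hi => ?_⟩
    by_contra h
    exact absurd (S.le_max' i (hmem i h)) (not_le.2 hi)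
  obtain ⟨L, hL, hdL⟩ := RankTwo.exists_deg k (X := X) hdim 1
  have hLn := AmpleLib.isInvertible_tensorPow hL
  have hdn : ∀ n : ℕ, Curv2.deg k X (CohB1.tensorPow L n) 1 = n := fun n => by
    rw [CurveLib.deg_tensorPow (k := k) hdim.le hL, hdL, mul_one]
  choose m₀ hm₀ using fun i => exists_subsingleton_H0_twist k hdim (rank_tensorPow hE i) hL hdL
  choose m₁ hm₁ using fun i => CurveLib.exists_vanishing (k := k) hdim.le hL (by rw [hdL]; norm_num)
    (M := CohB1.tensorPow E i) (isCoh_of_rank (rank_tensorPow hE i))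
  let m := (Finset.range N).sup m₀ + (Finset.range N).sup m₁
  have hle : ∀ i, i < N → m₀ i ≤ m ∧ m₁ i ≤ m := fun i hi =>
    ⟨(Finset.le_sup (Finset.mem_range.2 hi)).trans (Nat.le_add_right _ _),
      (Finset.le_sup (Finset.mem_range.2 hi)).trans (Nat.le_add_left _ _)⟩
  have hD : PicF.IsInvertible (dd (CohB1.tensorPow L m)) :=
    isInvertible_of_rank (rank_dd (CurveLib.isFinLocFreeOfRank_one (hLn m)))
  have hneg := finrank_eq_zero k hE hN htop e hD 0 fun i hi => by
    haveI := hm₀ i m (hle i hi).1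
    exact Module.finrank_zero_of_subsingleton
  have hpos := finrank_eq_zero k hE hN htop e (hLn m) 1 fun i hi => by
    haveI : Subsingleton (Coh.HH X (tmod (CohB1.tensorPow E i) (CohB1.tensorPow L m)) 1) := hm₁ i m (hle i hi).2
    exact Module.finrank_zero_of_subsingleton
  have hlow : 0 ≤ Curv2.deg k X E r := by
    by_contra hlt
    push Not at hlt
    let B : ℤ := r * (Curv2.deg k X (CohB1.tensorPow L m) 1 + Curv2.euler k X (Coh.structureModule X))
    let n : ℕ := B.toNat + 1
    have h1 := euler_tensorPow_twist k hdim hE (hLn m) n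
    rw [CurveLib.euler_eq_sub (k := k) hdim.le, hpos n] at h1
    have h2 : (n : ℤ) * Curv2.deg k X E r + B < 0 := by
      have := mul_le_mul_of_nonneg_left (show Curv2.deg k X E r ≤ -1 by omega) (Int.natCast_nonneg n)
      have hBn : B < n := by
        have := Int.self_le_toNat B
        simp only [n]
        push_cast
        omega
      linarith
    have h3 : (0 : ℤ) < (r : ℤ) ^ n := pow_pos (by exact_mod_cast hr) n
    have h4 := mul_neg_of_pos_of_neg h3 h2
    have h5 : (0 : ℤ) ≤ (r : ℤ) * ((Module.finrank k (Coh.HH X (tmod (CohB1.tensorPow E n) (CohB1.tensorPow L m)) 0) : ℤ) - ((0 : ℕ) : ℤ)) := by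
      rw [Nat.cast_zero, sub_zero]
      exact mul_nonneg (Int.natCast_nonneg _) (Int.natCast_nonneg _)
    linarith
  have hhigh : ∀ (F : X.Modules) (s : ℕ) (f : F ⟶ E), Mono f → 0 < s →
      FlatMod.IsFinLocFreeOfRank s F → Curv2.deg k X F s ≤ 0 := by
    intro F s f hf hs hF
    haveI := hf
    by_contra hgt
    push Not at hgt
    let B : ℤ := s * (Curv2.deg k X (dd (CohB1.tensorPow L m)) 1 + Curv2.euler k X (Coh.structureModule X))
    let n : ℕ := (-B).toNat + 1
    have h1 := euler_tensorPow_twist k hdim hF hD n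
    obtain ⟨g, hg⟩ := exists_mono_tensorPow hE hF f n
    haveI := hg
    haveI : Mono (CurveLib.tmap g (dd (CohB1.tensorPow L m))) :=
      CurveLib.mono_tmap g (CurveLib.freeAt_one_of_isInvertible hD)
    have hle := finrank_H0_le_of_mono k (CurveLib.tmap g (dd (CohB1.tensorPow L m)))
      (CurveLib.isCoh_tmod (isCoh_of_rank (rank_tensorPow hE n)) (CurveLib.isCoh_of_isInvertible hD))
    rw [hneg n] at hle
    rw [CurveLib.euler_eq_sub (k := k) hdim.le, Nat.le_zero.1 hle] at h1
    have h2 : 0 < (n : ℤ) * Curv2.deg k X F s + B := by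
      have := mul_le_mul_of_nonneg_left (show (1 : ℤ) ≤ Curv2.deg k X F s by omega) (Int.natCast_nonneg n)
      have hBn : -B < n := by
        have := Int.self_le_toNat (-B)
        simp only [n]
        push_cast
        omega
      linarith
    have h3 : (0 : ℤ) < (s : ℤ) ^ n := pow_pos (by exact_mod_cast hs) n
    have h4 := mul_pos h3 h2
    have h5 : (s : ℤ) * (((0 : ℕ) : ℤ) - (Module.finrank k (Coh.HH X (tmod (CohB1.tensorPow F n) (dd (CohB1.tensorPow L m))) 1) : ℤ)) ≤ 0 := by
      push_cast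
      rw [zero_sub, mul_neg, neg_nonpos]
      positivity
    linarith
  exact ⟨le_antisymm (hhigh E r (𝟙 E) inferInstance hr hE) hlow, hhigh⟩

end Curve

end Groth.Agent.VBLib.WeilFinite
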