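import Groth.Agent.VBLib.HomH0
import Groth.Agent.VBLib.GenusAny
import Groth.Agent.VBLib.RatPointSub
import Groth.Agent.VBLib.TwoSections
import Groth.Agent.VBLib.WeilLine

/-!
# Maps of a semistable bundle to a line bundle of large degree
-/

set_option autoImplicit false
set_option backward.isDefEq.respectTransparency false
set_option linter.style.haveILetI false
set_option maxHeartbeats 1000000

universe u

open CategoryTheory CategoryTheory.Limits AlgebraicGeometry TopologicalSpace
open Groth.Agent.PullbackMod Groth.Agent.DevLib Groth.Agent.QCohLib Groth.Agent.DCohLib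
open Groth.Agent.VBLib.DualDeg Groth.Agent.VBLib.HomPair Groth.Agent.VBLib.HomH0

noncomputable section

namespace Groth.Agent.VBLib.SpanHom

variable (k : Type u) [Field k] {X : Scheme.{u}} [X.Over (Spec (CommRingCat.of k))]
  [IsProper (X ↘ Spec (CommRingCat.of k))] [IsIntegral X] [IsNoetherian X] [IsRegCurve X]

attribute [local irreducible] dg grk

include k in
/-- Classes in `L ⊗ Qᵛ` against classes in `(L ⊗ P) ⊗ Qᵛ` for a point `P`. -/
theorem finrank_twist (hdim : topologicalKrullDim X ≤ 1) {P L : X.Modules} (ι : P ⟶ Coh.structureModule X) [Mono ι]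
    (hP : PicF.IsInvertible P) (hdP : Curv2.deg k X P 1 = -1) (hL : PicF.IsInvertible L)
    {q : ℕ} {Q : X.Modules} (hQ : FlatMod.IsFinLocFreeOfRank q Q) :
    Module.finrank k (Coh.HH X (tmod L (dd Q)) 0) ≤
        Module.finrank k (Coh.HH X (tmod (CohB1.tensorMod L P) (dd Q)) 0) + q ∧
      (Subsingleton (Coh.HH X (tmod (CohB1.tensorMod L P) (dd Q)) 1) →
        Module.finrank k (Coh.HH X (tmod L (dd Q)) 0) =
          Module.finrank k (Coh.HH X (tmod (CohB1.tensorMod L P) (dd Q)) 0) + q) := by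
  have hLP : PicF.IsInvertible (CohB1.tensorMod L P) := AmpleLib.isInvertible_tensor hL hP
  have hD := rank_dd hQ
  have hdl : ∀ {N : X.Modules}, PicF.IsInvertible N →
      dg k (tmod N (dd Q)) = dg k (dd Q) + q * Curv2.deg k X N 1 := fun {N} hN => by
    rw [dg_iso k (CurveLib.tmodComm N (dd Q))]
    change dg k (CohB1.tensorMod (dd Q) N) = _
    rw [dg_eq k (isFinLocFreeOfRank_twist hD hN), dg_eq k hD]
    exact CurveLib.deg_tensor_invertible (k := k) hdim hD hN
  let S : ShortComplex X.Modules := (cokerSeq ι).map (tensL L)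
  have hS : S.ShortExact := shortExact_tensL (cokerSeq_shortExact ι) (CurveLib.isFinLocFreeOfRank_one hL)
  let T : ShortComplex X.Modules := S.map (CurveLib.tensR (dd Q))
  have hT : T.ShortExact := CurveLib.shortExact_tensR hS (CurveLib.freeAt_of_isFinLocFreeOfRank hD)
  haveI := hT.mono_f
  haveI := hT.epi_g
  let eU : T.X₂ ≅ tmod L (dd Q) := (CurveLib.tensR (dd Q)).mapIso ((unitR (X := X)).app L)
  have hT1 : Coh.IsCoh T.X₁ := isCoh_of_rank (rank_tensor (CurveLib.isFinLocFreeOfRank_one hLP) hD)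
  have hT2r : FlatMod.IsFinLocFreeOfRank (1 * q) (tmod L (dd Q)) := rank_tensor (CurveLib.isFinLocFreeOfRank_one hL) hD
  have hT2 : Coh.IsCoh T.X₂ := ShStabLib.isCoh_of_iso eU.symm (isCoh_of_rank hT2r)
  have hT3 : Coh.IsCoh T.X₃ :=
    ShStabLib.isCoh_of_iso (IsColimit.coconePointUniqueUpToIso (cokernelIsCokernel T.f) hT.gIsCokernel)
      (isCoh_kernel_cokernel T.f hT1 hT2).2
  have hga := grk_add hT hT1 hT3
  have hda := dg_add k hT hT1 hT2 hT3
  have e1r : grk T.X₁ = 1 * q := grk_of_rank (rank_tensor (CurveLib.isFinLocFreeOfRank_one hLP) hD)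
  have e2r : grk T.X₂ = 1 * q := (grk_iso eU).trans (grk_of_rank hT2r)
  have e1d : dg k T.X₁ = dg k (dd Q) + q * (Curv2.deg k X L 1 - 1) := by
    refine (hdl hLP).trans ?_
    rw [CurveLib.deg_tensor_add (k := k) hdim hL hP, hdP]
    ring
  have e2d : dg k T.X₂ = dg k (dd Q) + q * Curv2.deg k X L 1 := (dg_iso k eU).trans (hdl hL)
  obtain ⟨h3, -⟩ := dg_eq_finrank k hdim hT3 (by omega)
  have h3' : Module.finrank k (Coh.HH X T.X₃ 0) = q := by
    rw [e1d, e2d, h3] at hda
    have : (q : ℤ) = Module.finrank k (Coh.HH X T.X₃ 0) := by linarith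
    exact_mod_cast this.symm
  have e := (LinearEquiv.ofBijective _ (CurveLib.hMap_bijective_iso (k := k) eU 0)).finrank_eq
  refine ⟨?_, fun h1 => ?_⟩
  · have h := finrank_H0_mid_le k hT hT1 hT2 hT3
    rw [e, h3'] at h
    exact h
  · haveI := EulerIneqLib.finite_HH (k := k) hT1 0
    haveI := EulerIneqLib.finite_HH (k := k) hT2 0
    haveI := EulerIneqLib.finite_HH (k := k) hT3 0
    haveI : Subsingleton (Coh.HH X T.X₁ 1) := h1
    have hsurj : LinearMap.range (CurveLib.hMap (k := k) T.g 0) = ⊤ :=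
      eq_top_iff.2 fun c _ => (CurveLib.range_hMap_g (k := k) hT 0).ge (LinearMap.mem_ker.2 (Subsingleton.elim _ _))
    have h := LinearMap.finrank_range_add_finrank_ker (CurveLib.hMap (k := k) T.g 0)
    rw [show LinearMap.ker (CurveLib.hMap (k := k) T.g 0) = LinearMap.range (CurveLib.hMap (k := k) T.f 0) from
        (CurveLib.range_hMap_f (k := k) hT 0).symm,
      LinearMap.finrank_range_of_inj (CurveLib.hMap_f_zero_injective (k := k) hT :), hsurj, finrank_top, h3', e] at h
    exact h.symm.trans (Nat.add_comm _ _)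

variable [Smooth (X ↘ Spec (CommRingCat.of k))]

/-- A semistable bundle of slope less than `deg L - 1` is a submodule of copies of `L`. -/
theorem exists_mono_copies (hdim : topologicalKrullDim X = 1) (hg : Curv2.genus k X = 1)
    (pt : Spec (CommRingCat.of k) ⟶ X) (hpt : pt ≫ (X ↘ Spec (CommRingCat.of k)) = 𝟙 _)
    {r : ℕ} (hr : 0 < r) {F : X.Modules} (hF : FlatMod.IsFinLocFreeOfRank r F)
    (hss : SlopeLE k F (dg k F) r) {L : X.Modules} (hL : PicF.IsInvertible L)
    (hdeg : dg k F < (Curv2.deg k X L 1 - 1) * r) :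
    ∃ (M : ℕ), 0 < M ∧ ∃ j : F ⟶ ∐ fun _ : Fin M => L, Mono j := by
  classical
  obtain ⟨P, ι, hι, hP, hdP⟩ := exists_rat_point_sub k hdim pt hpt
  haveI := hι
  have hLP : PicF.IsInvertible (CohB1.tensorMod L P) := AmpleLib.isInvertible_tensor hL hP
  have hLPr := CurveLib.isFinLocFreeOfRank_one hLP
  have hdLP : dg k (CohB1.tensorMod L P) = Curv2.deg k X L 1 - 1 := by
    rw [dg_eq k hLPr, CurveLib.deg_tensor_add (k := k) hdim.le hL hP, hdP]
    ring
  have hLPss : SlopeLE k (CohB1.tensorMod L P) (dg k (CohB1.tensorMod L P)) 1 := by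
    intro G i hi hG hpos
    haveI := hi
    obtain ⟨-, h, -⟩ := coker_add k i hG (isCoh_of_rank hLPr)
    rw [grk_of_rank hLPr] at h
    have hG1 : grk G = 1 := by omega
    have := (dg_le_of_mono k hdim.le i hG (isCoh_of_rank hLPr) (by rw [hG1, grk_of_rank hLPr])).1
    rw [hG1]
    simpa using this
  have h1 : Subsingleton (Coh.HH X (tmod (CohB1.tensorMod L P) (dd F)) 1) := by
    by_contra hne
    obtain ⟨ψ, hψ⟩ := GenusAny.exists_map_ne_zero k hdim hg hLPr hF hne
    exact hψ (GenusAny.eq_zero_of_slope_lt k hLPr hF (by exact_mod_cast hLPss) hss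
      (by rw [hdLP]; push_cast; linarith) ψ)
  have hW := (finrank_twist k hdim.le ι hP hdP hL hF).2 h1
  let n := Module.finrank k (Coh.HH X (tmod L (dd F)) 0)
  have hWc := isCoh_of_rank (rank_tensor (CurveLib.isFinLocFreeOfRank_one hL) (rank_dd hF))
  haveI := EulerIneqLib.finite_HH (k := k) hWc 0
  haveI := EulerIneqLib.finite_HH (k := k) (isCoh_of_rank (rank_tensor hLPr (rank_dd hF))) 0
  let bas := Module.finBasis k (Coh.HH X (tmod L (dd F)) 0)
  let B : Fin n → X.Modules := fun _ => L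
  let Φ : F ⟶ ∐ B := biproduct.lift (f := B) (fun i => thH F L (bas i)) ≫ (biproduct.isoCoproduct B).hom
  refine ⟨n, by omega, Φ, ?_⟩
  have hB : FlatMod.IsFinLocFreeOfRank n (∐ B) := isFinLocFreeOfRank_sigma_copies hL n
  have hFc := isCoh_of_rank hF
  obtain ⟨I, p, i, hi, hp, hpi, hI, hK, hr', -⟩ := exists_image k Φ hFc (isCoh_of_rank hB)
  haveI := hi
  haveI := hp
  suffices grk (kernel Φ) = 0 from
    Preadditive.mono_of_isZero_kernel Φ (isZero_of_mono (kernel.ι Φ) hK hF this)
  by_contra hK0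
  have hIr := rank_of_mono i hI hB
  rw [grk_of_rank hF] at hr'
  obtain ⟨Λ, hΛ⟩ := exists_precomp k hF p L
  have hsurj : Function.Surjective Λ := by
    rw [← LinearMap.range_eq_top, eq_top_iff, ← bas.span_eq, Submodule.span_le]
    rintro _ ⟨j, rfl⟩
    obtain ⟨c, hc⟩ := (thH_bijective hIr L).2 (i ≫ (biproduct.isoCoproduct B).inv ≫ biproduct.π B j)
    refine ⟨c, (thH_bijective hF L).1 ?_⟩
    rw [hΛ, hc, ← Category.assoc, hpi]
    simp only [Φ, Category.assoc, Iso.hom_inv_id_assoc, biproduct.lift_π]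
  obtain ⟨Λ', hΛ'⟩ := exists_precomp k hF p (CohB1.tensorMod L P)
  have hinj : Function.Injective Λ' := fun c d hcd => (thH_bijective hIr _).1 (by
    rw [← cancel_epi p, ← hΛ', ← hΛ', hcd])
  haveI := EulerIneqLib.finite_HH (k := k)
    (isCoh_of_rank (rank_tensor (CurveLib.isFinLocFreeOfRank_one hL) (rank_dd hIr))) 0
  haveI := EulerIneqLib.finite_HH (k := k) (isCoh_of_rank (rank_tensor hLPr (rank_dd hIr))) 0
  have q1 := LinearMap.finrank_le_finrank_of_surjective hsurj
  have q2 := LinearMap.finrank_le_finrank_of_injective hinj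
  have q3 := (finrank_twist k hdim.le ι hP hdP hL hIr).1
  omega

end Groth.Agent.VBLib.SpanHom
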