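import Groth.Agent.VBLib.SpanHom
import Groth.Agent.DCohMore.TensorCoh
import Groth.Agent.VBLib.Atiyah

/-!
# Slopes in copies of a bundle
-/

set_option autoImplicit false
set_option backward.isDefEq.respectTransparency false
set_option linter.style.haveILetI false
set_option maxHeartbeats 1000000

universe u

open CategoryTheory CategoryTheory.Limits AlgebraicGeometry TopologicalSpace
open Groth.Agent.PullbackMod Groth.Agent.DevLib Groth.Agent.QCohLib Groth.Agent.DCohLib
open Groth.Agent.VBLib.DualDeg Groth.Agent.VBLib.HomPair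

noncomputable section

namespace Groth.Agent.VBLib.SlopeTensor

variable (k : Type u) [Field k] {X : Scheme.{u}} [X.Over (Spec (CommRingCat.of k))]
  [IsProper (X ↘ Spec (CommRingCat.of k))] [IsIntegral X] [IsNoetherian X] [IsRegCurve X]

attribute [local irreducible] dg grk

include k in
theorem slopeLE_of_iso {A B : X.Modules} (e : A ≅ B) {d r : ℤ} (h : SlopeLE k A d r) : SlopeLE k B d r :=
  fun G i hi hG hpos => by
    haveI := hi
    exact h G (i ≫ e.inv) (mono_comp _ _) hG hpos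

/-- Splitting off one summand. -/
def sigmaSuccIso (M : X.Modules) (n : ℕ) : (∐ fun _ : Fin (n + 1) => M) ≅ M ⊞ (∐ fun _ : Fin n => M) :=
  { hom := Limits.Sigma.desc (Fin.cases (biprod.inl : M ⟶ M ⊞ ∐ fun _ : Fin n => M)
      fun i => Sigma.ι (fun _ : Fin n => M) i ≫ biprod.inr)
    inv := biprod.desc (Sigma.ι (fun _ : Fin (n + 1) => M) 0)
      (Limits.Sigma.desc fun i => Sigma.ι (fun _ : Fin (n + 1) => M) i.succ)
    hom_inv_id := Sigma.hom_ext _ _ fun j => by
      refine Fin.cases ?_ (fun i => ?_) j <;> simp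
    inv_hom_id := biprod.hom_ext' _ _ (by simp) (by
      rw [biprod.inr_desc_assoc, Category.comp_id]
      exact Sigma.hom_ext _ _ fun i => by simp) }

include k in
/-- Copies of a semistable bundle are semistable, with their rank. -/
theorem slopeLE_sigma {n : ℕ} {M : X.Modules} (hM : FlatMod.IsFinLocFreeOfRank n M) {d r : ℤ}
    (h : SlopeLE k M d r) : ∀ m : ℕ, FlatMod.IsFinLocFreeOfRank (m * n) (∐ fun _ : Fin m => M) ∧
      SlopeLE k (∐ fun _ : Fin m => M) d r := by
  intro m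
  induction m with
  | zero =>
    have hc := DCohMore.isCoh_sigma_fin M (isCoh_of_rank hM) 0
    have hz : IsZero (∐ fun _ : Fin 0 => M) :=
      (IsZero.iff_id_eq_zero _).2 (Limits.Sigma.hom_ext _ _ fun j => j.elim0)
    refine ⟨?_, fun G i hi hG hpos => ?_⟩
    · haveI := (isCoh_of_rank hM).1
      haveI : Mono (hz.to_ M) := ⟨fun a b _ => hz.eq_of_tgt a b⟩
      have h0 := rank_of_isTF hc (isTF_of_mono (hz.to_ M) (isTF_of_rank hM))
      rw [(dg_isZero k hz).1] at h0
      rwa [Nat.zero_mul]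
    · haveI := hi
      have := (dg_isZero k (IsZero.of_mono i hz)).1
      omega
  | succ m ih =>
    obtain ⟨hr, hs⟩ := ih
    have hT : (ShortComplex.mk (biprod.inl : M ⟶ M ⊞ ∐ fun _ : Fin m => M) biprod.snd (by simp)).ShortExact :=
      (ShortComplex.Splitting.ofHasBinaryBiproduct M _).shortExact
    have hc : Coh.IsCoh (M ⊞ ∐ fun _ : Fin m => M) := DevLib.isCoh_biprod (isCoh_of_rank hM) (isCoh_of_rank hr)
    have hr2 : FlatMod.IsFinLocFreeOfRank (n + m * n) (M ⊞ ∐ fun _ : Fin m => M) := rank_mid hT hM hr hc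
    refine ⟨?_, slopeLE_of_iso k (sigmaSuccIso M m).symm (Atiyah.slopeLE_biprod k hM hr h hs)⟩
    rw [Nat.succ_mul, Nat.add_comm]
    exact fun x => let ⟨U, hx, ⟨t⟩⟩ := hr2 x
      ⟨U, hx, ⟨(Scheme.Modules.restrictFunctor U.ι).mapIso (sigmaSuccIso M m) ≪≫ t⟩⟩

include k in
theorem slopeLE_line (hdim : topologicalKrullDim X ≤ 1) {L : X.Modules} (hL : PicF.IsInvertible L) :
    SlopeLE k L (Curv2.deg k X L 1) 1 := by
  intro G i hi hG hpos
  haveI := hi
  have hLr := CurveLib.isFinLocFreeOfRank_one hL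
  obtain ⟨-, h, -⟩ := coker_add k i hG (isCoh_of_rank hLr)
  rw [grk_of_rank hLr] at h
  have hG1 : grk G = 1 := by omega
  have := (dg_le_of_mono k hdim i hG (isCoh_of_rank hLr) (by rw [hG1, grk_of_rank hLr])).1
  rw [dg_eq k hLr] at this
  rw [hG1]
  simpa using this

variable [Smooth (X ↘ Spec (CommRingCat.of k))]

include k in
theorem exists_deg_rat (hdim : topologicalKrullDim X = 1) (pt : Spec (CommRingCat.of k) ⟶ X)
    (hpt : pt ≫ (X ↘ Spec (CommRingCat.of k)) = 𝟙 _) (n : ℤ) :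
    ∃ N : X.Modules, PicF.IsInvertible N ∧ Curv2.deg k X N 1 = n := by
  obtain ⟨P, i, -, hP, hdP⟩ := exists_rat_point_sub k hdim pt hpt
  obtain ⟨Q, hQ, ⟨η⟩⟩ := AmpleEmb.exists_isInverseOf hP
  have hdQ := CurveLib.deg_tensor_add (k := k) hdim.le hP hQ
  rw [CurveLib.deg_iso (k := k) η 1, CurveLib.deg_structureModule, hdP] at hdQ
  obtain ⟨m, rfl | rfl⟩ := n.eq_nat_or_neg
  · exact ⟨_, AmpleLib.isInvertible_tensorPow hQ m, by
      rw [CurveLib.deg_tensorPow (k := k) hdim.le hQ m, show Curv2.deg k X Q 1 = 1 by omega, mul_one]⟩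
  · exact ⟨_, AmpleLib.isInvertible_tensorPow hP m, by
      rw [CurveLib.deg_tensorPow (k := k) hdim.le hP m, hdP]; ring⟩

include k in
/-- Submodules of a tensor product of semistable bundles exceed the slope by at most four. -/
theorem slope_tensor_le_four (hdim : topologicalKrullDim X = 1) (hg : Curv2.genus k X = 1)
    (pt : Spec (CommRingCat.of k) ⟶ X) (hpt : pt ≫ (X ↘ Spec (CommRingCat.of k)) = 𝟙 _)
    {r s : ℕ} (hr : 0 < r) (hs : 0 < s) {F F' : X.Modules}
    (hF : FlatMod.IsFinLocFreeOfRank r F) (hF' : FlatMod.IsFinLocFreeOfRank s F')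
    (hFss : SlopeLE k F (dg k F) r) (hF'ss : SlopeLE k F' (dg k F') s)
    {G : X.Modules} (i : G ⟶ CohB1.tensorMod F F') [Mono i] (hG : Coh.IsCoh G) (hpos : 0 < grk G) :
    dg k G * r * s ≤ grk G * (4 * r * s + dg k F * s + dg k F' * r) := by
  have hr' : (0 : ℤ) < r := by exact_mod_cast hr
  have hs' : (0 : ℤ) < s := by exact_mod_cast hs
  obtain ⟨L, hL, hdL⟩ := exists_deg_rat k hdim pt hpt (dg k F / r + 2)
  obtain ⟨L', hL', hdL'⟩ := exists_deg_rat k hdim pt hpt (dg k F' / s + 2)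
  have a1 := Int.lt_ediv_add_one_mul_self (dg k F) hr'
  have a2 := Int.lt_ediv_add_one_mul_self (dg k F') hs'
  have b1 := Int.ediv_mul_le (dg k F) hr'.ne'
  have b2 := Int.ediv_mul_le (dg k F') hs'.ne'
  obtain ⟨M, -, j, hj⟩ := SpanHom.exists_mono_copies k hdim hg pt hpt hr hF hFss hL (by rw [hdL]; linarith)
  obtain ⟨M', -, j', hj'⟩ := SpanHom.exists_mono_copies k hdim hg pt hpt hs hF' hF'ss hL' (by rw [hdL']; linarith)
  haveI := hj
  haveI := hj'
  let A : X.Modules := ∐ fun _ : Fin M => L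
  let B : X.Modules := ∐ fun _ : Fin M' => L'
  have hA : FlatMod.IsFinLocFreeOfRank M A := isFinLocFreeOfRank_sigma_copies hL M
  have h1 := CurveLib.shortExact_tensR (cokerSeq_shortExact j) (CurveLib.freeAt_of_isFinLocFreeOfRank hF')
  have h2 := shortExact_tensL (cokerSeq_shortExact j') hA
  haveI := h1.mono_f
  haveI := h2.mono_f
  let u : CohB1.tensorMod F F' ⟶ CohB1.tensorMod A F' := ((cokerSeq j).map (CurveLib.tensR F')).f
  let v : CohB1.tensorMod A F' ⟶ CohB1.tensorMod A B := ((cokerSeq j').map (tensL A)).f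
  haveI : Mono u := h1.mono_f
  haveI : Mono v := h2.mono_f
  let N := CohB1.tensorMod L' L
  have hN : PicF.IsInvertible N := AmpleLib.isInvertible_tensor hL' hL
  let C : X.Modules := ∐ fun _ : Fin M' => N
  let e1 : (CurveLib.tensR B).obj A ≅ ∐ fun _ : Fin M => (CurveLib.tensR B).obj L :=
    PreservesCoproduct.iso (CurveLib.tensR B) fun _ : Fin M => L
  let e2 : (CurveLib.tensR B).obj L ≅ C := CurveLib.tmodComm L B ≪≫
    PreservesCoproduct.iso (CurveLib.tensR L) fun _ : Fin M' => L'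
  let e : CohB1.tensorMod A B ≅ ∐ fun _ : Fin M => C := e1 ≪≫ Sigma.mapIso fun _ => e2
  obtain ⟨hCr, hCs⟩ := slopeLE_sigma k (CurveLib.isFinLocFreeOfRank_one hN) (slopeLE_line k hdim.le hN) M'
  obtain ⟨-, hss⟩ := slopeLE_sigma k hCr hCs M
  have h := hss G (i ≫ u ≫ v ≫ e.hom) (mono_comp _ _) hG hpos
  rw [CurveLib.deg_tensor_add (k := k) hdim.le hL' hL, hdL, hdL', mul_one] at h
  have hg' : (0 : ℤ) ≤ grk G := Int.natCast_nonneg _
  have q1 := mul_le_mul_of_nonneg_left b1 (mul_nonneg hg' hs'.le)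
  have q2 := mul_le_mul_of_nonneg_left b2 (mul_nonneg hg' hr'.le)
  have q3 := mul_le_mul_of_nonneg_right h (mul_nonneg hr'.le hs'.le)
  linarith

end Groth.Agent.VBLib.SlopeTensor
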