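import Groth.Agent.VBLib.Point
import Groth.Agent.VBLib.Sub
/-!
Sections of semistable bundles of degree zero.
-/

set_option autoImplicit false
set_option backward.isDefEq.respectTransparency false
set_option linter.style.haveILetI false

universe u

open CategoryTheory CategoryTheory.Limits AlgebraicGeometry TopologicalSpace
open Groth.Agent.PullbackMod Groth.Agent.DevLib Groth.Agent.QCohLib

noncomputable section

namespace Groth.Agent.VBLib

variable (k : Type u) [Field k] {X : Scheme.{u}} [X.Over (Spec (CommRingCat.of k))]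
  [IsProper (X ↘ Spec (CommRingCat.of k))] [IsIntegral X] [IsNoetherian X] [IsRegCurve X]

attribute [local irreducible] dg grk

include k in
/-- `h⁰ ≤ r` for semistable bundles of degree zero. -/
theorem finrank_H0_le_of_deg_zero (hdim : topologicalKrullDim X ≤ 1)
    (h0 : Module.finrank k (Coh.HH X (Coh.structureModule X) 0) = 1) :
    ∀ (r : ℕ) (G : X.Modules), FlatMod.IsFinLocFreeOfRank r G → dg k G = 0 →
      (∀ (H : X.Modules) (i : H ⟶ G), Mono i → Coh.IsCoh H → dg k H ≤ 0) →
      Module.finrank k (Coh.HH X G 0) ≤ r := by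
  intro r
  induction r with
  | zero =>
    intro G hG _ _
    have hz : IsZero G := isZero_of_mono (𝟙 G) (isCoh_of_rank hG) hG (grk_of_rank hG)
    haveI : Subsingleton (Coh.HH X G 0) := by
      by_contra hne
      rw [not_subsingleton_iff_nontrivial] at hne
      obtain ⟨s, hs⟩ := CurveLib.exists_hom_ne_zero G
      exact hs (hz.eq_of_tgt _ _)
    simp [Module.finrank_zero_of_subsingleton]
  | succ r ih =>
    intro G hG hd hss
    rcases subsingleton_or_nontrivial (Coh.HH X G 0) with hs | hs
    · simp [Module.finrank_zero_of_subsingleton]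
    obtain ⟨s, hs⟩ := CurveLib.exists_hom_ne_zero G
    have hOf : FlatMod.IsFinLocFreeOfRank 1 (Coh.structureModule X) :=
      CurveLib.isFinLocFreeOfRank_one ParaFLib.isInvertible_structureModule
    have hOc := isCoh_of_rank hOf
    have hGc := isCoh_of_rank hG
    obtain ⟨hO1, hO2⟩ := dg_structureModule k (X := X)
    obtain ⟨I, p, i, hi, hp, hpi, hI, hK1, h1, -⟩ := exists_image k s hOc hGc
    haveI : Mono s := by
      refine Preadditive.mono_of_isZero_kernel s (isZero_of_mono (kernel.ι s) hK1 hOf ?_)
      have hI0 : 0 < grk I := Nat.pos_of_ne_zero fun h => hs (by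
        rw [← hpi, (isZero_of_mono i hI hG h).eq_of_tgt p 0, zero_comp])
      rw [hO1] at h1
      omega
    obtain ⟨hCc, hCr, hCd⟩ := coker_add k s hOc hGc
    obtain ⟨Q, q, hq, hQc, hQf, hQr, hQd⟩ := exists_freeQuot k hdim hCc
    haveI := hq
    let π : G ⟶ Q := cokernel.π s ≫ q
    haveI : Epi π := epi_comp _ _
    obtain ⟨hKc, hKr, hKd⟩ := kernel_add k π hGc hQc
    have hKle := hss (kernel π) (kernel.ι π) inferInstance hKc
    rw [grk_of_rank hG, hO1] at hCr
    rw [grk_of_rank hG] at hKr
    rw [show grk Q = r by omega] at hQf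
    have hQ0 : dg k Q = 0 := by omega
    have hK0 : dg k (kernel π) = 0 := by omega
    let l : Coh.structureModule X ⟶ kernel π := kernel.lift π s (by simp [π])
    haveI : Mono l := by
      haveI : Mono (l ≫ kernel.ι π) := by
        rw [kernel.lift_ι]
        infer_instance
      exact mono_of_mono l (kernel.ι π)
    haveI : IsIso l := (dg_le_of_mono k hdim l hOc hKc (by omega)).2 (by omega)
    let T : ShortComplex X.Modules := ShortComplex.mk (kernel.ι π) π (kernel.condition π)
    have hT : T.ShortExact :=
      ShortComplex.ShortExact.mk' (ShortComplex.exact_of_f_is_kernel _ (kernelIsKernel π)) inferInstance inferInstance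
    have hmid := finrank_H0_mid_le k hT hKc hGc hQc
    have hK1' : Module.finrank k (Coh.HH X (kernel π) 0) = 1 :=
      (LinearEquiv.ofBijective _ (CurveLib.hMap_bijective_iso (k := k) (asIso l) 0)).finrank_eq.symm.trans h0
    have hQss : ∀ (H : X.Modules) (j : H ⟶ Q), Mono j → Coh.IsCoh H → dg k H ≤ 0 := by
      intro H j hj hH
      haveI := hj
      obtain ⟨hDc, -, hDd⟩ := coker_add k j hH hQc
      haveI : Epi (π ≫ cokernel.π j) := epi_comp _ _
      obtain ⟨hPc, -, hPd⟩ := kernel_add k (π ≫ cokernel.π j) hGc hDc
      have := hss (kernel (π ≫ cokernel.π j)) (kernel.ι _) inferInstance hPc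
      omega
    have := ih Q hQf hQ0 hQss
    change Module.finrank k (Coh.HH X G 0) ≤
      Module.finrank k (Coh.HH X (kernel π) 0) + Module.finrank k (Coh.HH X Q 0) at hmid
    omega

end Groth.Agent.VBLib
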