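import Groth.Agent.VBLib.HomH0
import Groth.Agent.VBLib.GenusAny
import Groth.Agent.VBLib.Twist
import Mathlib.LinearAlgebra.Matrix.GeneralLinearGroup.Card
import Mathlib.CategoryTheory.Conj

/-!
# Counting automorphisms of sums of line bundles of degree zero
-/

set_option autoImplicit false
set_option backward.isDefEq.respectTransparency false
set_option linter.style.haveILetI false
set_option maxHeartbeats 1000000

universe u

open CategoryTheory CategoryTheory.Limits AlgebraicGeometry TopologicalSpace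
open Groth.Agent.PullbackMod Groth.Agent.DevLib Groth.Agent.QCohLib Groth.Agent.DCohLib
open Groth.Agent.VBLib.DualDeg Groth.Agent.VBLib.HomPair

noncomputable section

namespace Groth.Agent.VBLib.AutCount

section General

universe w

variable {C : Type w} [Category.{u} C] [Preadditive C] [HasBinaryBiproducts C]

/-- The automorphisms of a sum with no maps between the summands. -/
theorem card_aut_biprod {A B : C} (hAB : ∀ f : A ⟶ B, f = 0) (hBA : ∀ g : B ⟶ A, g = 0) :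
    Nat.card (Aut (A ⊞ B)) = Nat.card (Aut A) * Nat.card (Aut B) := by
  have key : ∀ φ : A ⊞ B ⟶ A ⊞ B, φ = biprod.map (biprod.inl ≫ φ ≫ biprod.fst) (biprod.inr ≫ φ ≫ biprod.snd) := by
    intro φ
    refine biprod.hom_ext' _ _ (biprod.hom_ext _ _ ?_ ?_) (biprod.hom_ext _ _ ?_ ?_)
    · simp
    · simp [hAB (biprod.inl ≫ φ ≫ biprod.snd)]
    · simp [hBA (biprod.inr ≫ φ ≫ biprod.fst)]
    · simp
  rw [← Nat.card_prod]
  refine (Nat.card_eq_of_bijective (fun p : Aut A × Aut B => (biprod.mapIso p.1 p.2 : Aut (A ⊞ B))) ⟨?_, ?_⟩).symm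
  · rintro ⟨a, b⟩ ⟨a', b'⟩ h
    have h' : biprod.map a.hom b.hom = biprod.map a'.hom b'.hom := congrArg Iso.hom h
    refine Prod.ext (Iso.ext ?_) (Iso.ext ?_)
    · simpa using congrArg (fun φ => biprod.inl ≫ φ ≫ biprod.fst) h'
    · simpa using congrArg (fun φ => biprod.inr ≫ φ ≫ biprod.snd) h'
  · intro φ
    have h1 := φ.hom_inv_id
    have h2 := φ.inv_hom_id
    rw [key φ.hom, key φ.inv] at h1 h2
    refine ⟨⟨⟨biprod.inl ≫ φ.hom ≫ biprod.fst, biprod.inl ≫ φ.inv ≫ biprod.fst, ?_, ?_⟩,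
      ⟨biprod.inr ≫ φ.hom ≫ biprod.snd, biprod.inr ≫ φ.inv ≫ biprod.snd, ?_, ?_⟩⟩, Iso.ext (key φ.hom).symm⟩
    · simpa using congrArg (fun ψ => biprod.inl ≫ ψ ≫ biprod.fst) h1
    · simpa using congrArg (fun ψ => biprod.inl ≫ ψ ≫ biprod.fst) h2
    · simpa using congrArg (fun ψ => biprod.inr ≫ ψ ≫ biprod.snd) h1
    · simpa using congrArg (fun ψ => biprod.inr ≫ ψ ≫ biprod.snd) h2

/-- Isomorphic objects have as many automorphisms. -/
theorem card_aut_iso {A B : C} (e : A ≅ B) : Nat.card (Aut A) = Nat.card (Aut B) :=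
  Nat.card_congr e.conjAut.toEquiv

variable {K : Type u} [Field K]

/-- The automorphisms of an object with scalar endomorphisms. -/
theorem card_aut_scalar {A : C} (e : K ≃+* End A) [Finite K] : Nat.card (Aut A) = Nat.card K - 1 :=
  (Nat.card_congr ((Units.mapEquiv e.toMulEquiv).trans (Aut.unitsEndEquivAut A)).toEquiv).symm.trans
    (Nat.card_units K)

/-- The automorphisms of a power of an object with scalar endomorphisms. -/
theorem card_aut_power [Finite K] {A E : C} (e : K ≃+* End A) {n : ℕ} (π : Fin n → (E ⟶ A)) (ι : Fin n → (A ⟶ E))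
    (hδ : ∀ i j, ι i ≫ π j = if i = j then 𝟙 A else 0) (hsum : ∑ i, π i ≫ ι i = 𝟙 E) :
    Nat.card (Aut E) = ∏ i : Fin n, (Nat.card K ^ n - Nat.card K ^ (i : ℕ)) := by
  haveI := Fintype.ofFinite K
  let m : End E →* Matrix (Fin n) (Fin n) (End A) :=
    { toFun := fun φ => Matrix.of fun j i => (ι i ≫ (φ : E ⟶ E) ≫ π j : A ⟶ A)
      map_one' := by
        refine Matrix.ext fun j i => ?_
        rw [Matrix.of_apply, Matrix.one_apply, End.one_def, Category.id_comp, hδ]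
        by_cases h : i = j
        · rw [if_pos h, if_pos h.symm, End.one_def]
        · rw [if_neg h, if_neg (Ne.symm h)]
      map_mul' := fun φ ψ => by
        refine Matrix.ext fun j i => ?_
        simp only [Matrix.of_apply, Matrix.mul_apply, End.mul_def]
        calc ι i ≫ ((ψ : E ⟶ E) ≫ φ) ≫ π j = ι i ≫ (ψ : E ⟶ E) ≫ (∑ l, π l ≫ ι l) ≫ (φ : E ⟶ E) ≫ π j := by
              rw [hsum, Category.id_comp, Category.assoc]
          _ = ∑ l, (ι i ≫ (ψ : E ⟶ E) ≫ π l) ≫ ι l ≫ (φ : E ⟶ E) ≫ π j := by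
              simp only [Preadditive.sum_comp, Preadditive.comp_sum, Category.assoc] }
  have hm : Function.Bijective m := by
    refine Function.bijective_iff_has_inverse.2
      ⟨fun M => ∑ i, ∑ j, π i ≫ (M j i : A ⟶ A) ≫ ι j, fun φ => ?_, fun M => Matrix.ext fun b a => ?_⟩
    · show ∑ i, ∑ j, π i ≫ (ι i ≫ (φ : E ⟶ E) ≫ π j) ≫ ι j = φ
      calc ∑ i, ∑ j, π i ≫ (ι i ≫ (φ : E ⟶ E) ≫ π j) ≫ ι j
          = (∑ i, π i ≫ ι i) ≫ (φ : E ⟶ E) ≫ (∑ j, π j ≫ ι j) := by
            simp only [Preadditive.sum_comp, Preadditive.comp_sum, Category.assoc]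
            exact Finset.sum_comm
        _ = φ := by rw [hsum, Category.id_comp, Category.comp_id]
    · show ι a ≫ (∑ i, ∑ j, π i ≫ (M j i : A ⟶ A) ≫ ι j) ≫ π b = M b a
      simp only [Preadditive.sum_comp, Preadditive.comp_sum, Category.assoc]
      rw [Finset.sum_eq_single a, Finset.sum_eq_single b]
      · rw [hδ b b, if_pos rfl, Category.comp_id, ← Category.assoc, hδ a a, if_pos rfl, Category.id_comp]
      · intro j _ hj
        rw [hδ j b, if_neg hj, comp_zero, comp_zero, comp_zero]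
      · simp
      · intro i _ hi
        refine Finset.sum_eq_zero fun j _ => ?_
        rw [← Category.assoc, hδ a i, if_neg (Ne.symm hi), zero_comp]
      · simp
  let Φ : Matrix (Fin n) (Fin n) K ≃* End E :=
    (e.mapMatrix (m := Fin n)).toMulEquiv.trans (MulEquiv.ofBijective m hm).symm
  refine (Nat.card_congr ((Units.mapEquiv Φ).trans (Aut.unitsEndEquivAut E)).toEquiv).symm.trans ?_
  simpa [Nat.card_eq_fintype_card] using Matrix.card_GL_field (𝔽 := K) n

/-- The automorphisms of the square of an object with scalar endomorphisms. -/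
theorem card_aut_two [Finite K] {A : C} (e : K ≃+* End A) :
    Nat.card (Aut (A ⊞ A)) = (Nat.card K ^ 2 - 1) * (Nat.card K ^ 2 - Nat.card K) := by
  rw [card_aut_power e (E := A ⊞ A) ![biprod.fst, biprod.snd] ![biprod.inl, biprod.inr]
    (fun i j => by fin_cases i <;> fin_cases j <;> simp) (by simp [Fin.sum_univ_two, biprod.total])]
  simp [Fin.prod_univ_two]

/-- The automorphisms of the cube of an object with scalar endomorphisms. -/
theorem card_aut_three [Finite K] {A : C} (e : K ≃+* End A) :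
    Nat.card (Aut (A ⊞ A ⊞ A)) =
      (Nat.card K ^ 3 - 1) * (Nat.card K ^ 3 - Nat.card K) * (Nat.card K ^ 3 - Nat.card K ^ 2) := by
  rw [card_aut_power e (E := A ⊞ A ⊞ A) ![biprod.fst, biprod.snd ≫ biprod.fst, biprod.snd ≫ biprod.snd]
    ![biprod.inl, biprod.inl ≫ biprod.inr, biprod.inr ≫ biprod.inr]
    (fun i j => by fin_cases i <;> fin_cases j <;> simp) ?_]
  · simp [Fin.prod_univ_three]
  · rw [Fin.sum_univ_three]
    refine biprod.hom_ext _ _ ?_ (biprod.hom_ext _ _ ?_ ?_) <;> simp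

end General

variable (k : Type u) [Field k] {X : Scheme.{u}} [X.Over (Spec (CommRingCat.of k))]

local notation "𝒪" => Coh.structureModule X

/-- Constants as endomorphisms. -/
def cstHom (E : X.Modules) : k →+* End E where
  toFun c := cst k E c
  map_one' := cst_one k E
  map_mul' := cst_mul k E
  map_zero' := cst_zero k E
  map_add' := cst_add k E

section Lines

variable [IsProper (X ↘ Spec (CommRingCat.of k))] [Smooth (X ↘ Spec (CommRingCat.of k))]
  [IsIntegral X] [IsNoetherian X] [IsRegCurve X] (hdim : topologicalKrullDim X = 1)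
  (hg : Curv2.genus k X = 1)

attribute [local irreducible] dg grk

omit [Smooth (X ↘ Spec (CommRingCat.of k))] in
include hdim in
/-- Non-isomorphic invertible modules of one degree have no nonzero maps. -/
theorem hom_eq_zero {L M : X.Modules} (hL : PicF.IsInvertible L) (hM : PicF.IsInvertible M)
    (hd : Curv2.deg k X M 1 ≤ Curv2.deg k X L 1) (hne : ¬ Nonempty (L ≅ M)) (f : L ⟶ M) : f = 0 := by
  by_contra hf
  haveI := CurveLib.mono_of_ne_zero hL hM hf
  have hLr := CurveLib.isFinLocFreeOfRank_one hL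
  have hMr := CurveLib.isFinLocFreeOfRank_one hM
  haveI : IsIso f := (dg_le_of_mono k hdim.le f (isCoh_of_rank hLr) (isCoh_of_rank hMr)
    (by rw [grk_of_rank hLr, grk_of_rank hMr])).2 (by rw [dg_eq k hLr, dg_eq k hMr]; exact hd)
  exact hne ⟨asIso f⟩

include hdim hg in
/-- The endomorphisms of an invertible module are the constants. -/
theorem bijective_cstHom {L : X.Modules} (hL : PicF.IsInvertible L) : Function.Bijective (cstHom k L) := by
  have hLr := CurveLib.isFinLocFreeOfRank_one hL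
  haveI : Nontrivial (End L) := ⟨⟨𝟙 L, 0, fun h => nonzero_of_rank k one_pos hLr ((IsZero.iff_id_eq_zero L).2 h)⟩⟩
  refine ⟨(cstHom k L).injective, fun f => ?_⟩
  have hth := HomH0.thH_bijective (X := X) hLr L
  obtain ⟨c₀, hc₀⟩ := hth.2 (𝟙 L)
  have hne : c₀ ≠ 0 := fun h => by
    rw [h, HomH0.thH_zero] at hc₀
    exact nonzero_of_rank k one_pos hLr ((IsZero.iff_id_eq_zero L).2 hc₀.symm)
  have hD := isInvertible_of_rank (rank_dd hLr)
  have hT : PicF.IsInvertible (tmod L (dd L)) := AmpleLib.isInvertible_tensor hL hD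
  have hTd : Curv2.deg k X (tmod L (dd L)) 1 = 0 := by
    refine (CurveLib.deg_tensor_add (k := k) hdim.le hL hD).trans ?_
    rw [deg_dd_line k hdim.le hL]
    ring
  haveI : Nontrivial (Coh.HH X (tmod L (dd L)) 0) := ⟨⟨c₀, 0, hne⟩⟩
  obtain ⟨s, hs⟩ := CurveLib.exists_hom_ne_zero (tmod L (dd L))
  obtain ⟨η⟩ := CurveLib.nonempty_iso_structureModule (k := k) hdim.le hT s hs hTd.le
  have hfr : Module.finrank k (Coh.HH X (tmod L (dd L)) 0) = 1 :=
    (LinearEquiv.ofBijective _ (CurveLib.hMap_bijective_iso (k := k) η 0)).finrank_eq.trans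
      (SingRRLib.h0_eq_one_of_genus_one (k := k) hdim.le hg)
  obtain ⟨c, hc⟩ := hth.2 f
  obtain ⟨r, hr⟩ := (finrank_eq_one_iff_of_nonzero' c₀ hne).1 hfr c
  refine ⟨r, ?_⟩
  rw [← hc, ← hr, HomH0.thH_smul, hc₀, Category.id_comp]
  rfl

include hdim hg in
/-- The endomorphism ring of an invertible module. -/
def endLine {L : X.Modules} (hL : PicF.IsInvertible L) : k ≃+* End L :=
  RingEquiv.ofBijective (cstHom k L) (bijective_cstHom k hdim hg hL)

end Lines

/-- A constant as a map. -/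
def sc (E : X.Modules) (c : k) : E ⟶ E := cst k E c

theorem sc_one (E : X.Modules) : sc k E 1 = 𝟙 E := cst_one k E

theorem sc_zero (E : X.Modules) : sc k E 0 = 0 := cst_zero k E

theorem sc_add (E : X.Modules) (a b : k) : sc k E (a + b) = sc k E a + sc k E b := cst_add k E a b

theorem sc_sub (E : X.Modules) (a b : k) : sc k E (a - b) = sc k E a - sc k E b := map_sub (cstHom k E) a b

theorem sc_mul (E : X.Modules) (a b : k) : sc k E (a * b) = sc k E b ≫ sc k E a := cst_mul k E a b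

theorem sc_natural {E F : X.Modules} (f : E ⟶ F) (c : k) : sc k E c ≫ f = f ≫ sc k F c := cst_natural k f c

section SelfExt

variable {F : X.Modules} {i : (Coh.structureModule X) ⟶ F} {p : F ⟶ (Coh.structureModule X)} {w : i ≫ p = 0}
  (hS : (ShortComplex.mk i p w).ShortExact) (hns : ¬ IsSplitEpi p)
  (hEnd : Function.Bijective (cstHom k (Coh.structureModule X)))

include hS hns hEnd in
/-- Maps to a nonsplit self-extension. -/
theorem exists_hom_into (f : 𝒪 ⟶ F) : ∃ b : k, f = (sc k 𝒪 b) ≫ i := by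
  obtain ⟨c, hc⟩ := hEnd.2 (f ≫ p)
  change sc k 𝒪 c = f ≫ p at hc
  by_cases h0 : c = 0
  · rw [h0, sc_zero] at hc
    haveI : Mono (ShortComplex.mk i p w).f := hS.mono_f
    obtain ⟨b, hb⟩ := hEnd.2 (hS.exact.lift f hc.symm)
    refine ⟨b, ?_⟩
    change sc k 𝒪 b = hS.exact.lift f hc.symm at hb
    rw [hb]
    exact (hS.exact.lift_f f hc.symm).symm
  · exact absurd ⟨⟨⟨(sc k 𝒪 c⁻¹) ≫ f, by
      rw [Category.assoc, ← hc, ← sc_mul, mul_inv_cancel₀ h0, sc_one]⟩⟩⟩ hns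

include hS hns hEnd in
/-- Maps out of a nonsplit self-extension. -/
theorem exists_hom_from (f : F ⟶ 𝒪) : ∃ b : k, f = (sc k F b) ≫ p := by
  obtain ⟨c, hc⟩ := hEnd.2 (i ≫ f)
  change sc k 𝒪 c = i ≫ f at hc
  haveI : Epi (ShortComplex.mk i p w).g := hS.epi_g
  by_cases h0 : c = 0
  · rw [h0, sc_zero] at hc
    obtain ⟨b, hb⟩ := hEnd.2 (hS.exact.desc f hc.symm)
    refine ⟨b, ?_⟩
    change sc k 𝒪 b = hS.exact.desc f hc.symm at hb
    rw [sc_natural k p b, hb]
    exact (hS.exact.g_desc f hc.symm).symm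
  · refine absurd ?_ hns
    let sp : (ShortComplex.mk i p w).Splitting :=
      ShortComplex.Splitting.ofExactOfRetraction (ShortComplex.mk i p w) hS.exact
        (f ≫ (sc k 𝒪 c⁻¹))
        (show i ≫ f ≫ (sc k 𝒪 c⁻¹) = 𝟙 _ by
          rw [← Category.assoc, ← hc, ← sc_mul, inv_mul_cancel₀ h0, sc_one]) inferInstance
    exact ⟨⟨⟨sp.s, sp.s_g⟩⟩⟩

include hS hns hEnd in
/-- The endomorphisms of a nonsplit self-extension. -/
theorem exists_end (φ : F ⟶ F) : ∃ a b : k, φ = sc k F a + (sc k F b) ≫ p ≫ i := by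
  obtain ⟨a, ha⟩ := exists_hom_into k hS hns hEnd (i ≫ φ)
  have h0 : i ≫ (φ - (sc k F a)) = 0 := by
    rw [Preadditive.comp_sub, ha, sc_natural k i a, sub_self]
  haveI : Epi (ShortComplex.mk i p w).g := hS.epi_g
  obtain ⟨b, hb⟩ := exists_hom_into k hS hns hEnd (hS.exact.desc (φ - (sc k F a)) h0)
  refine ⟨a, b, sub_eq_iff_eq_add'.1 ?_⟩
  have h1 : p ≫ hS.exact.desc (φ - (sc k F a)) h0 = φ - (sc k F a) := hS.exact.g_desc _ h0
  rw [← h1, hb, ← Category.assoc, ← Category.assoc, sc_natural k p b]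

include hS in
theorem eq_zero_of_end (hEnd : Function.Bijective (cstHom k 𝒪)) {a b : k}
    (h : (sc k F a) + (sc k F b) ≫ p ≫ i = 0) : a = 0 ∧ b = 0 := by
  haveI : Mono i := hS.mono_f
  haveI : Epi p := hS.epi_g
  have ha : a = 0 := by
    refine hEnd.1 ((cancel_mono i).1 ?_)
    have h1 := congrArg (i ≫ ·) h
    simp only [Preadditive.comp_add, comp_zero] at h1
    rw [← Category.assoc, ← sc_natural, ← sc_natural, Category.assoc, reassoc_of% w, zero_comp, comp_zero,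
      add_zero] at h1
    show (sc k 𝒪 a) ≫ i = (cstHom k 𝒪 0 : 𝒪 ⟶ 𝒪) ≫ i
    rw [h1, map_zero, zero_comp]
  refine ⟨ha, hEnd.1 ((cancel_mono i).1 ((cancel_epi p).1 ?_))⟩
  rw [ha, sc_zero, zero_add, ← Category.assoc, sc_natural, Category.assoc] at h
  show p ≫ (sc k 𝒪 b) ≫ i = p ≫ (cstHom k 𝒪 0 : 𝒪 ⟶ 𝒪) ≫ i
  rw [h, map_zero, zero_comp, comp_zero]

include hS hns hEnd in
/-- The automorphisms of a nonsplit self-extension. -/
theorem card_aut_selfExt [Finite k] : Nat.card (Aut F) = (Nat.card k - 1) * Nat.card k := by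
  let Ψ : k × k → End F := fun x => (sc k F x.1) + (sc k F x.2) ≫ p ≫ i
  have hn : p ≫ i ≫ p ≫ i = 0 := by rw [reassoc_of% w, zero_comp, comp_zero]
  have hc : ∀ c, (p ≫ i) ≫ (sc k F c) = (sc k F c) ≫ p ≫ i := fun c =>
    (sc_natural k (p ≫ i) c).symm
  have hmul : ∀ x y : k × k, (Ψ x : F ⟶ F) ≫ Ψ y = Ψ (x.1 * y.1, x.1 * y.2 + x.2 * y.1) := fun x y => by
    show ((sc k F x.1) + (sc k F x.2) ≫ p ≫ i) ≫
      ((sc k F y.1) + (sc k F y.2) ≫ p ≫ i) = _
    simp only [Preadditive.add_comp, Preadditive.comp_add, Category.assoc, Ψ, sc_add, sc_mul]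
    rw [show p ≫ i ≫ (sc k F y.1) = (sc k F y.1) ≫ p ≫ i by rw [← hc, Category.assoc],
      show p ≫ i ≫ (sc k F y.2) ≫ p ≫ i = (sc k F y.2) ≫ p ≫ i ≫ p ≫ i by
        rw [show p ≫ i ≫ sc k F y.2 ≫ p ≫ i = ((p ≫ i) ≫ sc k F y.2) ≫ p ≫ i by simp only [Category.assoc], hc]
        simp only [Category.assoc]]
    rw [hn, comp_zero, comp_zero]
    simp only [← Category.assoc (sc k F _) (sc k F _), ← sc_mul]
    rw [mul_comm y.1, mul_comm y.2, mul_comm y.1]
    abel
  have hΨ1 : Ψ (1, 0) = 1 := by simp [Ψ, sc_one, sc_zero, End.one_def]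
  have hinj : Function.Injective Ψ := fun x y h => by
    have h0 : (sc k F (x.1 - y.1)) + (sc k F (x.2 - y.2)) ≫ p ≫ i = 0 := by
      have hs : ∀ s t : k, (sc k F (s - t)) = (sc k F s) - (sc k F t) := fun s t =>
        map_sub (cstHom k F) s t
      rw [hs, hs, Preadditive.sub_comp, ← sub_eq_zero.2 (show (Ψ x : F ⟶ F) = Ψ y from h)]
      simp only [Ψ]
      abel
    obtain ⟨h1, h2⟩ := eq_zero_of_end k hS hEnd h0
    exact Prod.ext (sub_eq_zero.1 h1) (sub_eq_zero.1 h2)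
  let f : kˣ × k → Aut F := fun x =>
    { hom := Ψ (x.1, x.2)
      inv := Ψ (↑x.1⁻¹, -x.2 * ↑x.1⁻¹ * ↑x.1⁻¹)
      hom_inv_id := by
        rw [hmul]
        refine Eq.trans (congrArg Ψ (Prod.ext ?_ ?_)) hΨ1
        · simp
        · have := x.1.ne_zero
          simp only [Units.val_inv_eq_inv_val]
          field_simp
          ring
      inv_hom_id := by
        rw [hmul]
        refine Eq.trans (congrArg Ψ (Prod.ext ?_ ?_)) hΨ1
        · simp
        · have := x.1.ne_zero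
          simp only [Units.val_inv_eq_inv_val]
          field_simp
          ring }
  refine (Nat.card_eq_of_bijective f ⟨fun x y h => ?_, fun φ => ?_⟩).symm.trans ?_
  · have := hinj (congrArg Iso.hom h)
    simp only [Prod.mk.injEq] at this
    exact Prod.ext (Units.ext this.1) this.2
  · obtain ⟨a, b, hab⟩ := exists_end k hS hns hEnd φ.hom
    obtain ⟨a', b', hab'⟩ := exists_end k hS hns hEnd φ.inv
    have h1 : (Ψ (a, b) : F ⟶ F) ≫ Ψ (a', b') = Ψ (1, 0) := by
      rw [hΨ1]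
      show ((sc k F a) + _) ≫ ((sc k F a') + _) = 𝟙 F
      rw [← hab, ← hab', φ.hom_inv_id]
    rw [hmul] at h1
    exact ⟨(Units.mkOfMulEqOne a a' (congrArg Prod.fst (hinj h1)), b), Iso.ext hab.symm⟩
  · rw [Nat.card_prod, Nat.card_units]

include hS hns hEnd in
/-- The automorphisms of `O ⊞ F` for a nonsplit self-extension `F`. -/
theorem card_aut_structure_selfExt [Finite k] :
    Nat.card (Aut (𝒪 ⊞ F)) = (Nat.card k - 1) ^ 2 * Nat.card k ^ 3 := by
  haveI : Mono i := hS.mono_f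
  haveI : Epi p := hS.epi_g
  let Ψ : k × k × k × k × k → End (𝒪 ⊞ F) := fun x =>
    biprod.desc (biprod.lift (sc k 𝒪 x.1) ((sc k 𝒪 x.2.1) ≫ i))
      (biprod.lift ((sc k F x.2.2.1) ≫ p)
        ((sc k F x.2.2.2.1) + (sc k F x.2.2.2.2) ≫ p ≫ i))
  have hi : ∀ c, i ≫ (sc k F c) = (sc k 𝒪 c) ≫ i := fun c => (sc_natural k i c).symm
  have hp : ∀ c, p ≫ (sc k 𝒪 c) = (sc k F c) ≫ p := fun c => (sc_natural k p c).symm
  have hi' : ∀ (c) {Z : X.Modules} (g : F ⟶ Z), i ≫ (sc k F c) ≫ g = (sc k 𝒪 c) ≫ i ≫ g :=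
    fun c Z g => by rw [← Category.assoc, hi, Category.assoc]
  have hp' : ∀ (c) {Z : X.Modules} (g : 𝒪 ⟶ Z), p ≫ (sc k 𝒪 c) ≫ g = (sc k F c) ≫ p ≫ g :=
    fun c Z g => by rw [← Category.assoc, hp, Category.assoc]
  have hm : ∀ (E : X.Modules) (s t : k), (sc k E s) ≫ (sc k E t) = sc k E (s * t) :=
    fun E s t => by rw [mul_comm, sc_mul]
  have hm' : ∀ (E : X.Modules) (s t : k) {Z : X.Modules} (g : E ⟶ Z),
      (sc k E s) ≫ (sc k E t) ≫ g = (sc k E (s * t)) ≫ g :=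
    fun E s t Z g => by rw [← Category.assoc, hm]
  have hw : ∀ {Z : X.Modules} (g : 𝒪 ⟶ Z), i ≫ p ≫ g = 0 := fun g => by rw [reassoc_of% w, zero_comp]
  have hmul : ∀ x y : k × k × k × k × k, (Ψ x : 𝒪 ⊞ F ⟶ 𝒪 ⊞ F) ≫ Ψ y =
      Ψ (x.1 * y.1, x.1 * y.2.1 + x.2.1 * y.2.2.2.1, x.2.2.1 * y.1 + x.2.2.2.1 * y.2.2.1,
        x.2.2.2.1 * y.2.2.2.1,
        x.2.2.2.1 * y.2.2.2.2 + x.2.2.2.2 * y.2.2.2.1 + x.2.2.1 * y.2.1) := by
    rintro ⟨a, b, c, d, e⟩ ⟨a', b', c', d', e'⟩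
    refine biprod.hom_ext' _ _ (biprod.hom_ext _ _ ?_ ?_) (biprod.hom_ext _ _ ?_ ?_) <;>
      simp only [Ψ, biprod.inl_desc_assoc, biprod.inr_desc_assoc, biprod.inl_desc, biprod.inr_desc,
        Category.assoc, biprod.lift_fst, biprod.lift_snd, biprod.lift_desc, Preadditive.add_comp,
        Preadditive.comp_add, hi, hp, hi', hp', hm, hm', hw, w, comp_zero, add_zero, zero_add, sc_add] <;>
      abel
  have hΨ1 : Ψ (1, 0, 0, 1, 0) = 1 := by
    refine biprod.hom_ext' _ _ (biprod.hom_ext _ _ ?_ ?_) (biprod.hom_ext _ _ ?_ ?_) <;>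
      simp [Ψ, sc_one, sc_zero, End.one_def]
  have hinj : Function.Injective Ψ := by
    rintro ⟨a, b, c, d, e⟩ ⟨a', b', c', d', e'⟩ h
    have ha := congrArg (fun φ => biprod.inl ≫ φ ≫ biprod.fst) h
    have hb := congrArg (fun φ => biprod.inl ≫ φ ≫ biprod.snd) h
    have hc := congrArg (fun φ => biprod.inr ≫ φ ≫ biprod.fst) h
    have hd := congrArg (fun φ => biprod.inr ≫ φ ≫ biprod.snd) h
    simp only [Ψ, biprod.inl_desc_assoc, biprod.inr_desc_assoc, biprod.lift_fst, biprod.lift_snd] at ha hb hc hd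
    rw [sc_natural, sc_natural k p c'] at hc
    have hs : ∀ s t : k, (sc k F (s - t)) = (sc k F s) - (sc k F t) := fun s t =>
      map_sub (cstHom k F) s t
    obtain ⟨hd1, hd2⟩ := eq_zero_of_end k hS hEnd (a := d - d') (b := e - e') (by
      rw [hs, hs, Preadditive.sub_comp, ← sub_eq_zero.2 hd]
      abel)
    rw [sub_eq_zero.1 hd1, sub_eq_zero.1 hd2, show a = a' from hEnd.1 ha,
      show b = b' from hEnd.1 ((cancel_mono i).1 hb), show c = c' from hEnd.1 ((cancel_epi p).1 hc)]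
  let f : kˣ × k × k × kˣ × k → Aut (𝒪 ⊞ F) := fun x =>
    { hom := Ψ (x.1, x.2.1, x.2.2.1, x.2.2.2.1, x.2.2.2.2)
      inv := Ψ ((x.1 : k)⁻¹, -x.2.1 * (x.1 : k)⁻¹ * (x.2.2.2.1 : k)⁻¹, -x.2.2.1 * (x.1 : k)⁻¹ * (x.2.2.2.1 : k)⁻¹,
        (x.2.2.2.1 : k)⁻¹, (-x.2.2.2.2 + x.2.1 * x.2.2.1 * (x.1 : k)⁻¹) * (x.2.2.2.1 : k)⁻¹ * (x.2.2.2.1 : k)⁻¹)
      hom_inv_id := by
        rw [hmul]
        refine Eq.trans (congrArg Ψ ?_) hΨ1
        have := x.1.ne_zero
        have := x.2.2.2.1.ne_zero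
        simp only [Prod.mk.injEq]
        refine ⟨?_, ?_, ?_, ?_, ?_⟩ <;> field_simp <;> ring
      inv_hom_id := by
        rw [hmul]
        refine Eq.trans (congrArg Ψ ?_) hΨ1
        have := x.1.ne_zero
        have := x.2.2.2.1.ne_zero
        simp only [Prod.mk.injEq]
        refine ⟨?_, ?_, ?_, ?_, ?_⟩ <;> field_simp <;> ring }
  refine (Nat.card_eq_of_bijective f ⟨fun x y h => ?_, fun φ => ?_⟩).symm.trans ?_
  · have h' := hinj (congrArg Iso.hom h)
    simp only [Prod.mk.injEq, Units.val_inj] at h'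
    obtain ⟨h1, h2, h3, h4, h5⟩ := h'
    exact Prod.ext h1 (Prod.ext h2 (Prod.ext h3 (Prod.ext h4 h5)))
  · have hsurj : ∀ ψ : 𝒪 ⊞ F ⟶ 𝒪 ⊞ F, ∃ x, Ψ x = ψ := fun ψ => by
      obtain ⟨a, ha⟩ := hEnd.2 (biprod.inl ≫ ψ ≫ biprod.fst)
      obtain ⟨b, hb⟩ := exists_hom_into k hS hns hEnd (biprod.inl ≫ ψ ≫ biprod.snd)
      obtain ⟨c, hc⟩ := exists_hom_from k hS hns hEnd (biprod.inr ≫ ψ ≫ biprod.fst)
      obtain ⟨d, e, hd⟩ := exists_end k hS hns hEnd (biprod.inr ≫ ψ ≫ biprod.snd)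
      refine ⟨(a, b, c, d, e), biprod.hom_ext' _ _ (biprod.hom_ext _ _ ?_ ?_) (biprod.hom_ext _ _ ?_ ?_)⟩ <;>
        simp only [Ψ, biprod.inl_desc_assoc, biprod.inr_desc_assoc, biprod.lift_fst, biprod.lift_snd,
          Category.assoc]
      exacts [ha, hb.symm, hc.symm, hd.symm]
    obtain ⟨⟨a, b, c, d, e⟩, hx⟩ := hsurj φ.hom
    obtain ⟨⟨a', b', c', d', e'⟩, hy⟩ := hsurj φ.inv
    have h1 : (Ψ (a, b, c, d, e) : 𝒪 ⊞ F ⟶ 𝒪 ⊞ F) ≫ Ψ (a', b', c', d', e') = Ψ (1, 0, 0, 1, 0) := by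
      rw [hx, hy, hΨ1]
      exact φ.hom_inv_id
    rw [hmul] at h1
    have h2 := hinj h1
    simp only [Prod.mk.injEq] at h2
    exact ⟨(Units.mkOfMulEqOne a a' h2.1, b, c, Units.mkOfMulEqOne d d' h2.2.2.2.1, e), Iso.ext hx⟩
  · simp only [Nat.card_prod, Nat.card_units]
    ring

end SelfExt

end Groth.Agent.VBLib.AutCount
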