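import Groth.Agent.VBLib.WeilAlgebra
import Groth.Prelude.Def_ModFun2

/-!
# Essentially finite bundles
-/

set_option autoImplicit false
set_option backward.isDefEq.respectTransparency false
set_option linter.style.haveILetI false
set_option maxHeartbeats 1000000

universe u

open CategoryTheory CategoryTheory.Limits AlgebraicGeometry TopologicalSpace
open Groth.Agent.PullbackMod Groth.Agent.DevLib Groth.Agent.QCohLib Groth.Agent.DCohLib
open Groth.Agent.VBLib.DualDeg Groth.Agent.VBLib.HomPair Groth.Agent.VBLib.WeilAlgebra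
open scoped Polynomial

noncomputable section

namespace Groth.Agent.VBLib.EssFinite

variable (k : Type u) [Field k] {X : Scheme.{u}} [X.Over (Spec (CommRingCat.of k))]
  [IsProper (X ↘ Spec (CommRingCat.of k))] [IsIntegral X] [IsNoetherian X] [IsRegCurve X] [IsAlgClosed k]
  (hdim : topologicalKrullDim X = 1)

attribute [local irreducible] dg grk

include hdim in
/-- Submodules of Weil finite bundles have degree at most zero. -/
theorem dg_le_zero {s : ℕ} {G H : X.Modules} (hG : FlatMod.IsFinLocFreeOfRank s G) (hW : Weil G)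
    (j : H ⟶ G) [Mono j] (hH : Coh.IsCoh H) : dg k H ≤ 0 := by
  have hr := rank_of_mono j hH hG
  rcases Nat.eq_zero_or_pos (grk H) with h0 | hpos
  · exact ((dg_isZero k (isZero_of_mono j hH hG h0)).2).le
  obtain ⟨P, Q, hPQ, ⟨e⟩⟩ := hW
  have hs : 0 < s := by
    have := (coker_add k j hH (isCoh_of_rank hG)).2.1
    rw [grk_of_rank hG] at this
    omega
  rw [dg_eq k hr]
  exact (WeilFinite.deg_eq_zero_and_le k hdim hs hG hPQ e).2 H _ j inferInstance hpos hr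

include hdim in
/-- Submodules of degree zero of a Weil finite bundle are subbundles. -/
theorem flf_cokernel {s : ℕ} {G H : X.Modules} (hG : FlatMod.IsFinLocFreeOfRank s G) (hW : Weil G)
    (hGd : dg k G = 0) (j : H ⟶ G) [Mono j] (hH : Coh.IsCoh H) (hd : dg k H = 0) :
    FlatMod.IsFinLocFree (cokernel j) := by
  have hGc := isCoh_of_rank hG
  obtain ⟨hCc, hCr, hCd⟩ := coker_add k j hH hGc
  obtain ⟨Q, p, hp, hQc, hQf, hQr, hQd⟩ := exists_freeQuot k hdim.le hCc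
  haveI := hp
  haveI : Epi (cokernel.π j ≫ p) := epi_comp _ _
  obtain ⟨hKc, hKr, hKd⟩ := kernel_add k (cokernel.π j ≫ p) hGc hQc
  let l : H ⟶ kernel (cokernel.π j ≫ p) := kernel.lift _ j (by simp)
  haveI : Mono l := mono_of_mono_fac (kernel.lift_ι _ j _)
  have hle := dg_le_zero k hdim hG hW (kernel.ι (cokernel.π j ≫ p)) hKc
  haveI : IsIso l := (dg_le_of_mono k hdim.le l hH hKc (by omega)).2 (by omega)
  haveI : Mono p := by
    refine Preadditive.mono_of_cancel_zero _ fun {Z} z hz => ?_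
    -- lift `z` through `G` after pulling back along the projection
    haveI : Epi (pullback.snd (cokernel.π j) z) := Abelian.epi_pullback_of_epi_f _ _
    rw [← cancel_epi (pullback.snd (cokernel.π j) z), comp_zero, ← pullback.condition]
    have h1 : pullback.fst (cokernel.π j) z ≫ cokernel.π j ≫ p = 0 := by
      rw [← Category.assoc, pullback.condition, Category.assoc, hz, comp_zero]
    have h2 : pullback.fst (cokernel.π j) z = (kernel.lift _ _ h1 ≫ inv l) ≫ j := by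
      have h3 : inv l ≫ j = kernel.ι (cokernel.π j ≫ p) := by
        rw [IsIso.inv_comp_eq]
        exact (kernel.lift_ι _ j _).symm
      rw [Category.assoc, h3, kernel.lift_ι]
    rw [h2, Category.assoc, cokernel.condition, comp_zero]
  haveI := isIso_of_mono_of_epi p
  obtain ⟨r, hr⟩ := bdl_iso ⟨_, hQf⟩ (asIso p).symm
  exact flf_of_rank hr

include hdim in
/-- A subquotient of degree zero of a Weil finite bundle is semistable. -/
theorem semistable_quot {s : ℕ} {G F E : X.Modules} (hG : FlatMod.IsFinLocFreeOfRank s G) (hW : Weil G)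
    (i : F ⟶ G) [Mono i] (hF : Coh.IsCoh F) (hFd : dg k F = 0) (q : F ⟶ E) [Epi q] {r : ℕ}
    (hE : FlatMod.IsFinLocFreeOfRank r E) (hEd : Curv2.deg k X E r = 0) :
    ModFun.IsSlopeSemistable k X E r := by
  intro H r' j hj hr' hH
  haveI := hj
  have hEc := isCoh_of_rank hE
  have hHc := isCoh_of_rank hH
  obtain ⟨hCc, -, hCd⟩ := coker_add k j hHc hEc
  haveI : Epi (q ≫ cokernel.π j) := epi_comp _ _
  obtain ⟨hPc, -, hPd⟩ := kernel_add k (q ≫ cokernel.π j) hF hCc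
  haveI : Mono (kernel.ι (q ≫ cokernel.π j) ≫ i) := mono_comp _ _
  have hle := dg_le_zero k hdim hG hW (kernel.ι (q ≫ cokernel.π j) ≫ i) hPc
  rw [dg_eq k hE, hEd, dg_eq k hH] at hCd
  rw [hEd, zero_mul]
  exact mul_nonpos_of_nonpos_of_nonneg (by omega) (Int.natCast_nonneg r)

include hdim in
/-- The tensor product of subquotients of Weil finite bundles. -/
theorem tensor {r₁ r₂ a b c d : ℕ} {E₁ E₂ G₁ G₂ A₁ A₂ B₁ B₂ : X.Modules}
    (hE₁ : FlatMod.IsFinLocFreeOfRank r₁ E₁) (hd₁ : Curv2.deg k X E₁ r₁ = 0)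
    (hE₂ : FlatMod.IsFinLocFreeOfRank r₂ E₂) (hd₂ : Curv2.deg k X E₂ r₂ = 0)
    (hG₁ : FlatMod.IsFinLocFreeOfRank a G₁) (hW₁ : Weil G₁)
    (hG₂ : FlatMod.IsFinLocFreeOfRank b G₂) (hW₂ : Weil G₂)
    (hA₁ : FlatMod.IsFinLocFreeOfRank c A₁) (hA₁d : Curv2.deg k X A₁ c = 0)
    (hA₂ : FlatMod.IsFinLocFreeOfRank d A₂) (hA₂d : Curv2.deg k X A₂ d = 0)
    (i₁ : A₁ ⟶ G₁) [Mono i₁] (i₂ : A₂ ⟶ G₂) [Mono i₂] (j₁ : B₁ ⟶ A₁) (j₂ : B₂ ⟶ A₂)
    (e₁ : E₁ ≅ cokernel j₁) (e₂ : E₂ ≅ cokernel j₂) :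
    FlatMod.IsFinLocFreeOfRank (r₁ * r₂) (CohB1.tensorMod E₁ E₂) ∧
    (Curv2.deg k X (CohB1.tensorMod E₁ E₂) (r₁ * r₂) = 0 ∧ ModFun.IsSlopeSemistable k X (CohB1.tensorMod E₁ E₂) (r₁ * r₂) ∧
      ∃ (s : ℕ) (G : X.Modules) (s₁ : ℕ) (F₁ : X.Modules) (s₂ : ℕ) (F₂ : X.Modules) (k₁ : F₁ ⟶ G) (k₂ : F₂ ⟶ F₁),
        FlatMod.IsFinLocFreeOfRank s G ∧ Weil G ∧
        FlatMod.IsFinLocFreeOfRank s₁ F₁ ∧ FlatMod.IsFinLocFreeOfRank s₂ F₂ ∧ Mono k₁ ∧ Mono k₂ ∧
        FlatMod.IsFinLocFree (cokernel k₁) ∧ FlatMod.IsFinLocFree (cokernel k₂) ∧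
        Curv2.deg k X F₁ s₁ = 0 ∧ ModFun.IsSlopeSemistable k X F₁ s₁ ∧
        Curv2.deg k X F₂ s₂ = 0 ∧ ModFun.IsSlopeSemistable k X F₂ s₂ ∧
        Nonempty ((CohB1.tensorMod E₁ E₂) ≅ cokernel k₂)) := by
  have hG := rank_tensor hG₁ hG₂
  have hA := rank_tensor hA₁ hA₂
  have hE := rank_tensor hE₁ hE₂
  obtain ⟨hs₁, hs₂⟩ : Bdl G₁ ∧ Bdl G₂ := ⟨⟨a, hG₁⟩, ⟨b, hG₂⟩⟩
  have hW : Weil (tmod G₁ G₂) := weil_of_sf k hdim.le (bdl_tensor hs₁ hs₂)
    (sf_biprod_tensor k hdim.le hs₁ hs₂ (sf_of_weil k hdim.le hs₁ hW₁) (sf_of_weil k hdim.le hs₂ hW₂)).2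
  have hEd : Curv2.deg k X (CohB1.tensorMod E₁ E₂) (r₁ * r₂) = 0 := by
    refine (deg_tensor k hdim hE₁ hE₂).trans ?_
    rw [hd₁, hd₂, mul_zero, mul_zero, add_zero]
  have hAd : Curv2.deg k X (tmod A₁ A₂) (c * d) = 0 := by
    refine (deg_tensor k hdim hA₁ hA₂).trans ?_
    rw [hA₁d, hA₂d, mul_zero, mul_zero, add_zero]
  -- the inclusion
  haveI : Mono (CurveLib.tmap i₁ A₂) := CurveLib.mono_tmap i₁ (CurveLib.freeAt_of_isFinLocFreeOfRank hA₂)
  haveI : Mono ((tensL G₁).map i₂) := (shortExact_tensL (cokerSeq_shortExact i₂) hG₁).mono_f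
  let k₁ : tmod A₁ A₂ ⟶ tmod G₁ G₂ := CurveLib.tmap i₁ A₂ ≫ (tensL G₁).map i₂
  haveI : Mono k₁ := mono_comp _ _
  have hAc := isCoh_of_rank hA
  have hdA : dg k (tmod A₁ A₂) = 0 := (dg_eq k hA).trans hAd
  -- the degree of the ambient bundle
  have hdeg : ∀ {n : ℕ} {G : X.Modules}, FlatMod.IsFinLocFreeOfRank n G → Weil G → Curv2.deg k X G n = 0 := by
    intro n G hn hw
    rcases Nat.eq_zero_or_pos n with rfl | hpos
    · exact deg_rank_zero k hn
    · obtain ⟨P, Q, hPQ, ⟨e⟩⟩ := hw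
      exact (WeilFinite.deg_eq_zero_and_le k hdim hpos hn hPQ e).1
  have hGd : dg k (tmod G₁ G₂) = 0 := (dg_eq k hG).trans (hdeg hG hW)
  -- the quotient map
  let π₁ : A₁ ⟶ E₁ := cokernel.π j₁ ≫ e₁.inv
  let π₂ : A₂ ⟶ E₂ := cokernel.π j₂ ≫ e₂.inv
  haveI : Epi π₁ := epi_comp _ _
  haveI : Epi π₂ := epi_comp _ _
  haveI : Epi ((CurveLib.tensR A₂).map π₁) := inferInstance
  haveI : Epi ((tensL E₁).map π₂) := by
    haveI : Epi ((CurveLib.tensR E₁).map π₂) := inferInstance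
    have h := (symmL E₁).hom.naturality π₂
    haveI : Epi ((symmL E₁).hom.app A₂ ≫ (tensL E₁).map π₂) := h ▸ epi_comp _ _
    exact epi_of_epi ((symmL E₁).hom.app A₂) _
  let q : tmod A₁ A₂ ⟶ CohB1.tensorMod E₁ E₂ := (CurveLib.tensR A₂).map π₁ ≫ (tensL E₁).map π₂
  haveI : Epi q := epi_comp _ _
  obtain ⟨hKc, -, hKd⟩ := kernel_add k q hAc (isCoh_of_rank hE)
  have hK := rank_of_mono (kernel.ι q) hKc hA
  rw [hdA, show dg k (CohB1.tensorMod E₁ E₂) = 0 from (dg_eq k hE).trans hEd] at hKd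
  have hKd' : Curv2.deg k X (kernel q) (grk (kernel q)) = 0 := by
    rw [← dg_eq k hK]
    omega
  have eC : cokernel (kernel.ι q) ≅ CohB1.tensorMod E₁ E₂ :=
    IsColimit.coconePointUniqueUpToIso (cokernelIsCokernel _)
      (Abelian.epiIsCokernelOfKernel _ (kernelIsKernel q))
  refine ⟨hE, hEd, semistable_quot k hdim hG hW k₁ hAc hdA q hE hEd, a * b, tmod G₁ G₂, c * d, tmod A₁ A₂,
    grk (kernel q), kernel q, k₁, kernel.ι q, hG, hW, hA, hK, inferInstance, inferInstance,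
    flf_cokernel k hdim hG hW hGd k₁ hAc hdA, ?_, hAd, semistable_quot k hdim hG hW k₁ hAc hdA (𝟙 _) hA hAd, hKd',
    ?_, ⟨eC.symm⟩⟩
  · obtain ⟨n, hn⟩ := bdl_iso ⟨_, hE⟩ eC.symm
    exact flf_of_rank hn
  · haveI : Mono (kernel.ι q ≫ k₁) := mono_comp _ _
    exact semistable_quot k hdim hG hW (kernel.ι q ≫ k₁) hKc ((dg_eq k hK).trans hKd') (𝟙 _) hK hKd'

end Groth.Agent.VBLib.EssFinite
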