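import Mathlib.LinearAlgebra.FiniteDimensional.Lemmas
import Mathlib.Data.Fintype.EquivFin
import Mathlib.Data.Set.Finite.Lattice

/-!
# A combinatorial lemma on subspaces vanishing at points

`V p` plays the role of the sections vanishing at `p`, and `𝓛` the spaces of sections of line subbundles.
-/

set_option autoImplicit false

open Module

namespace Groth.Agent.VBLib.H0Comb

variable {k W P : Type*} [Field k] [AddCommGroup W] [Module k W] [FiniteDimensional k W] [Infinite P]
  {V : P → Submodule k W} {𝓛 : Set (Submodule k W)}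

theorem inf_le_eq {A B : Submodule k W} {d : ℕ} (h : A ≤ B) (hA : d ≤ finrank k A) (hB : finrank k B ≤ d) : A = B :=
  Submodule.eq_of_le_of_finrank_le h (hB.trans hA)

theorem finite_mem (hpair : ∀ L₁ ∈ 𝓛, ∀ L₂ ∈ 𝓛, L₁ ≠ L₂ → L₁ ⊓ L₂ = ⊥)
    (hhalf : ∀ L ∈ 𝓛, 2 * finrank k L ≤ finrank k W) (hW : 0 < finrank k W)
    (hgen : ∀ H : Submodule k W, (∀ L ∈ 𝓛, ¬ H ≤ L) →
      {p | finrank k H < finrank k (H ⊓ V p : Submodule k W) + 2}.Finite)
    {w : W} (hw : w ≠ 0) : {p | w ∈ V p}.Finite := by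
  have hpos : ∀ {H : Submodule k W} {p : P}, w ∈ H → w ∈ V p → 0 < finrank k (H ⊓ V p : Submodule k W) := by
    intro H p hH hV
    refine Nat.pos_of_ne_zero fun h0 => hw ?_
    have := (Submodule.finrank_eq_zero (S := H ⊓ V p)).1 h0
    exact (Submodule.mem_bot k).1 (this ▸ ⟨hH, hV⟩)
  by_cases hL : ∃ L ∈ 𝓛, w ∈ L
  · obtain ⟨L, hL, hwL⟩ := hL
    have hne : L ≠ ⊤ := fun h => by
      have := hhalf L hL
      rw [h, finrank_top] at this
      omega
    obtain ⟨w', -, hw'⟩ := SetLike.exists_of_lt hne.lt_top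
    refine (hgen (Submodule.span k {w} ⊔ Submodule.span k {w'}) fun L' hL' hle => hw' ?_).subset fun p hp => ?_
    · have hwL' : w ∈ L' := hle (Submodule.mem_sup_left (Submodule.mem_span_singleton_self w))
      have he : L = L' := by
        by_contra hne'
        exact hw ((Submodule.mem_bot k).1 (hpair L hL L' hL' hne' ▸ ⟨hwL, hwL'⟩))
      exact he ▸ hle (Submodule.mem_sup_right (Submodule.mem_span_singleton_self w'))
    · show finrank k _ < _
      have h1 := Submodule.finrank_sup_add_finrank_inf_eq (Submodule.span k {w}) (Submodule.span k {w'})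
      have h2 := finrank_span_singleton (K := k) hw
      have h3 : finrank k (Submodule.span k {w'}) ≤ 1 := (finrank_span_le_card {w'}).trans (by simp)
      have h4 := hpos (H := Submodule.span k {w} ⊔ Submodule.span k {w'})
        (Submodule.mem_sup_left (Submodule.mem_span_singleton_self w)) hp
      omega
  · refine (hgen (Submodule.span k {w}) fun L hL' hle => hL ⟨L, hL', hle (Submodule.mem_span_singleton_self w)⟩).subset
      fun p hp => ?_
    show finrank k _ < _
    have h2 := finrank_span_singleton (K := k) hw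
    have h4 := hpos (H := Submodule.span k {w}) (Submodule.mem_span_singleton_self w) hp
    omega

/-- Some point keeps every line below half. -/
theorem exists_good (hn : 4 ≤ finrank k W)
    (hpair : ∀ L₁ ∈ 𝓛, ∀ L₂ ∈ 𝓛, L₁ ≠ L₂ → L₁ ⊓ L₂ = ⊥)
    (hhalf : ∀ L ∈ 𝓛, 2 * finrank k L ≤ finrank k W)
    (hline : ∀ L ∈ 𝓛, ∀ p, finrank k L ≤ finrank k (L ⊓ V p : Submodule k W) + 1)
    (hgen : ∀ H : Submodule k W, (∀ L ∈ 𝓛, ¬ H ≤ L) →
      {p | finrank k H < finrank k (H ⊓ V p : Submodule k W) + 2}.Finite)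
    (hco : {p | finrank k (V p) + 2 ≠ finrank k W}.Finite) :
    ∃ p, ∀ L ∈ 𝓛, 2 * finrank k (L ⊓ V p : Submodule k W) ≤ finrank k (V p) := by
  classical
  by_contra hbad
  push Not at hbad
  choose L hL hLbad using hbad
  set n := finrank k W with hnW
  let S : Set P := {p | finrank k (V p) + 2 = n}
  have hS : S.Infinite := by
    intro hS
    exact Set.infinite_univ ((hS.union hco).subset fun p _ => em (finrank k (V p) + 2 = n))
  have hdim : ∀ p ∈ S, finrank k (L p) = n / 2 ∧ L p ≤ V p := by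
    intro p hp
    have h1 := hLbad p
    have h2 := hhalf _ (hL p)
    have h3 : finrank k (L p ⊓ V p : Submodule k W) ≤ finrank k (L p) := Submodule.finrank_mono inf_le_left
    have hp' : finrank k (V p) + 2 = n := hp
    refine ⟨by omega, ?_⟩
    have he := inf_le_eq (A := L p ⊓ V p) (B := L p) (d := n / 2) inf_le_left (by omega) (by omega)
    exact inf_eq_left.1 he
  have hfin : ∀ {w : W}, w ≠ 0 → {p | w ∈ V p}.Finite := fun hw => finite_mem hpair hhalf (by omega) hgen hw
  have hfinV : ∀ C : Submodule k W, 0 < finrank k C → {p | C ≤ V p}.Finite := fun C hC => by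
    obtain ⟨w, hw, hw0⟩ := C.exists_mem_ne_zero_of_ne_bot (fun h => by rw [h, finrank_bot] at hC; omega)
    exact (hfin hw0).subset fun p hp => hp hw
  let N : P → Set P := fun p => {q ∈ S | L q = L p ∨ V q = V p}
  have hN : ∀ p ∈ S, (N p).Finite := fun p hp => by
    refine ((hfinV (L p) (by have := (hdim p hp).1; omega)).union
      (hfinV (V p) (by have : finrank k (V p) + 2 = n := hp; omega))).subset ?_
    rintro q ⟨hq, h | h⟩
    · exact Or.inl (h ▸ (hdim q hq).2)
    · exact Or.inr h.ge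
  -- two bad points with different lines
  have key : ∀ p ∈ S, ∀ q ∈ S, L p ≠ L q → n = 2 * (n / 2) + 1 ∧ V q ≤ L p ⊔ L q ∧
      finrank k (L p ⊔ L q : Submodule k W) = 2 * (n / 2) := by
    intro p hp q hq hne
    obtain ⟨hpd, -⟩ := hdim p hp
    obtain ⟨hqd, hqV⟩ := hdim q hq
    have h0 := hpair _ (hL p) _ (hL q) hne
    have h1 := Submodule.finrank_sup_add_finrank_inf_eq (L p) (L q)
    rw [h0, finrank_bot] at h1
    have h2 := hline _ (hL p) q
    have h3 : L p ⊓ V q ⊔ L q ≤ V q := sup_le inf_le_right hqV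
    have h4 := Submodule.finrank_sup_add_finrank_inf_eq (L p ⊓ V q) (L q)
    have h5 : (L p ⊓ V q) ⊓ L q = ⊥ := le_bot_iff.1 ((inf_le_inf_right _ inf_le_left).trans h0.le)
    rw [h5, finrank_bot] at h4
    have h6 := Submodule.finrank_mono h3
    have hq' : finrank k (V q) + 2 = n := hq
    refine ⟨by omega, ?_, by omega⟩
    rw [← inf_le_eq (d := finrank k (V q)) h3 (by omega) le_rfl]
    exact sup_le_sup_right inf_le_left _
  obtain ⟨p, hp⟩ := hS.nonempty
  obtain ⟨q, ⟨hq, hqN⟩⟩ := (hS.sdiff (hN p hp)).nonempty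
  have hLpq : L p ≠ L q := fun h => hqN ⟨hq, Or.inl h.symm⟩
  have hVpq : V p ≠ V q := fun h => hqN ⟨hq, Or.inr h.symm⟩
  obtain ⟨hodd, hqH, hH⟩ := key p hp q hq hLpq
  have hpH : V p ≤ L p ⊔ L q := sup_comm (L q) (L p) ▸ (key q hq p hp hLpq.symm).2.1
  set H := L p ⊔ L q
  have hcodim : ∀ a ∈ S, ∀ b ∈ S, L a ≠ L b → 2 * (n / 2) ≤ finrank k (V a ⊓ V b : Submodule k W) + 2 := by
    intro a ha b hb hne
    obtain ⟨hodd', hb', hd⟩ := key a ha b hb hne
    have ha' : V a ≤ L a ⊔ L b := sup_comm (L b) (L a) ▸ (key b hb a ha hne.symm).2.1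
    have h1 := Submodule.finrank_sup_add_finrank_inf_eq (V a) (V b)
    have h2 := Submodule.finrank_mono (sup_le ha' hb')
    have hA : finrank k (V a) + 2 = n := ha
    have hB : finrank k (V b) + 2 = n := hb
    omega
  -- the exceptional points
  have hR : (S \ (N p ∪ N q)).Infinite := hS.sdiff ((hN p hp).union (hN q hq))
  obtain ⟨r, ⟨hr, hrN⟩, hrH⟩ : ∃ r ∈ S \ (N p ∪ N q), ¬ V r ≤ H := by
    by_contra hall
    push Not at hall
    refine hR ((hgen H fun L' hL' hle => ?_).subset fun s hs => ?_)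
    · have := Submodule.finrank_mono hle
      have := hhalf L' hL'
      omega
    · show finrank k H < _
      rw [inf_eq_right.2 (hall s hs)]
      have hs' : finrank k (V s) + 2 = n := hs.1
      omega
  have hr' : finrank k (V r) + 2 = n := hr
  have hrlt : finrank k (H ⊓ V r : Submodule k W) + 1 ≤ finrank k (V r) := by
    have hlt : H ⊓ V r < V r := lt_of_le_of_ne inf_le_right fun h => hrH (inf_eq_right.1 h)
    exact Submodule.finrank_lt_finrank_of_lt hlt
  have hC : ∀ a ∈ S, V a ≤ H → L a ≠ L r → V a ⊓ V r = H ⊓ V r := fun a ha haH hne =>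
    inf_le_eq (d := 2 * (n / 2) - 2) (inf_le_inf_right _ haH) (by have := hcodim a ha r hr hne; omega) (by omega)
  have hLpr : L p ≠ L r := fun h => hrN (Or.inl ⟨hr, Or.inl h.symm⟩)
  have hLqr : L q ≠ L r := fun h => hrN (Or.inr ⟨hr, Or.inl h.symm⟩)
  have hcp := hC p hp hpH hLpr
  have hcq := hC q hq hqH hLqr
  let C := H ⊓ V r
  have hCpos : 0 < finrank k C := by
    have := hcodim p hp r hr hLpr
    rw [hcp] at this
    change 2 * (n / 2) ≤ finrank k C + 2 at this
    omega
  refine (hS.sdiff (((hN p hp).union (hN q hq)).union (hN r hr))) ((hfinV C hCpos).subset ?_)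
  rintro s ⟨hs, hsN⟩
  have hsr : L s ≠ L r := fun h => hsN (Or.inr ⟨hs, Or.inl h⟩)
  by_cases hsH : V s ≤ H
  · exact (hC s hs hsH hsr).ge.trans inf_le_left
  · have hs' : finrank k (V s) + 2 = n := hs
    have hlt : finrank k (H ⊓ V s : Submodule k W) + 1 ≤ finrank k (V s) :=
      Submodule.finrank_lt_finrank_of_lt (lt_of_le_of_ne inf_le_right fun h => hsH (inf_eq_right.1 h))
    have hsp : L p ≠ L s := fun h => hsN (Or.inl (Or.inl ⟨hs, Or.inl h.symm⟩))
    have hsq : L q ≠ L s := fun h => hsN (Or.inl (Or.inr ⟨hs, Or.inl h.symm⟩))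
    have e1 : V p ⊓ V s = H ⊓ V s := inf_le_eq (d := 2 * (n / 2) - 2) (inf_le_inf_right _ hpH)
      (by have := hcodim p hp s hs hsp; omega) (by omega)
    have e2 : V q ⊓ V s = H ⊓ V s := inf_le_eq (d := 2 * (n / 2) - 2) (inf_le_inf_right _ hqH)
      (by have := hcodim q hq s hs hsq; omega) (by omega)
    -- `H ⊓ V s` lies in `V p ⊓ V q`, which is `C`
    have h1 : H ⊓ V s ≤ V p ⊓ V q := le_inf (e1.ge.trans inf_le_left) (e2.ge.trans inf_le_left)
    have h2 : V p ⊓ V q = C := by
      refine (inf_le_eq (d := 2 * (n / 2) - 2) (A := C) (B := V p ⊓ V q)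
        (le_inf (hcp.ge.trans inf_le_left) (hcq.ge.trans inf_le_left))
        (by have h := hcodim p hp r hr hLpr; rw [hcp] at h; change 2 * (n / 2) ≤ finrank k C + 2 at h; omega) ?_).symm
      have hlt' : V p ⊓ V q < V p := lt_of_le_of_ne inf_le_left fun h => hVpq
        (inf_le_eq (d := finrank k (V p)) (inf_eq_left.1 h) le_rfl
          (by have : finrank k (V p) + 2 = n := hp; have : finrank k (V q) + 2 = n := hq; omega))
      have := Submodule.finrank_lt_finrank_of_lt hlt'
      have : finrank k (V p) + 2 = n := hp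
      omega
    have h3 : H ⊓ V s = V p ⊓ V q := inf_le_eq (d := 2 * (n / 2) - 2) h1
      (by rw [← e1]; have := hcodim p hp s hs hsp; omega)
      (by rw [h2]; change finrank k (H ⊓ V r : Submodule k W) ≤ _; omega)
    show C ≤ V s
    rw [← h2, ← h3]
    exact inf_le_right

end Groth.Agent.VBLib.H0Comb
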