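import Groth.Agent.VBLib.HomPair
import Groth.Agent.VBLib.Secant
import Groth.Agent.VBLib.CurveDual

/-!
# Maps of bundles as classes in degree zero
-/

set_option autoImplicit false
set_option backward.isDefEq.respectTransparency false
set_option linter.style.haveILetI false

universe u

open CategoryTheory CategoryTheory.Limits AlgebraicGeometry TopologicalSpace
open Groth.Agent.PullbackMod Groth.Agent.DevLib Groth.Agent.QCohLib Groth.Agent.DCohLib
open Groth.Agent.VBLib.DualDeg Groth.Agent.VBLib.HomPair

noncomputable section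

namespace Groth.Agent.VBLib.HomH0

variable {X : Scheme.{u}}

theorem toHom_add {Q F : X.Modules} (s t : Coh.structureModule X ⟶ tmod F (dd Q)) :
    toHom Q (s + t) = toHom Q s + toHom Q t := by
  haveI : ((DCoh.tensorBi (X := X)).flip.obj Q).Additive := ModTensor.additive_tensorBi_flip X.sheaf Q
  simp only [toHom, Adjunction.homEquiv_counit, Preadditive.add_comp, Preadditive.comp_add, Functor.map_add]

variable (k : Type u) [Field k] [X.Over (Spec (CommRingCat.of k))]
  [IsProper (X ↘ Spec (CommRingCat.of k))] [IsIntegral X] [IsNoetherian X] [IsRegCurve X]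

open H0SS in
/-- The map of a class. -/
def thH (Q L : X.Modules) (c : Coh.HH X (tmod L (dd Q)) 0) : Q ⟶ L := toHom Q (sH c)

open H0SS in
theorem thH_bijective {n : ℕ} {Q : X.Modules} (hQ : FlatMod.IsFinLocFreeOfRank n Q) (L : X.Modules) :
    Function.Bijective (thH Q L) := by
  refine ⟨fun c d h => sH_injective ((toHom_bijective hQ L).1 h), fun f => ?_⟩
  obtain ⟨s, hs⟩ := (toHom_bijective hQ L).2 f
  refine ⟨(CurveLib.secOf (tmod L (dd Q))).symm (AmpleLib.sec s), ?_⟩
  rw [thH, sH, AddEquiv.apply_symm_apply, AmpleLib.secHom_sec, hs]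

open H0SS in
theorem thH_add (Q L : X.Modules) (c d : Coh.HH X (tmod L (dd Q)) 0) : thH Q L (c + d) = thH Q L c + thH Q L d := by
  rw [thH, sH_add, toHom_add]
  rfl

open H0SS in
theorem thH_zero (Q L : X.Modules) : thH Q L (0 : Coh.HH X (tmod L (dd Q)) 0) = 0 := by
  rw [thH, sH_zero, toHom_zero]

open H0SS in
theorem thH_smul (Q L : X.Modules) (r : k) (c : Coh.HH X (tmod L (dd Q)) 0) :
    thH Q L (r • c) = thH Q L c ≫ (cst k L r : L ⟶ L) := by
  have h1 : sH (r • c) = sH c ≫ (cst k (tmod L (dd Q)) r : tmod L (dd Q) ⟶ _) := Secant.secHom_smul k _ r c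
  rw [thH, h1, show (cst k (tmod L (dd Q)) r : tmod L (dd Q) ⟶ _) =
    (CurveLib.tensR (dd Q)).map (cst k L r : L ⟶ L) from (Dual.tensR_map_cst k L (dd Q) r).symm, toHom_natural]
  rfl

/-- Composition with a map, on classes. -/
theorem exists_precomp {n : ℕ} {F I : X.Modules} (hF : FlatMod.IsFinLocFreeOfRank n F) (p : F ⟶ I) (L : X.Modules) :
    ∃ Λ : Coh.HH X (tmod L (dd I)) 0 →ₗ[k] Coh.HH X (tmod L (dd F)) 0, ∀ c, thH F L (Λ c) = p ≫ thH I L c := by
  let e := Equiv.ofBijective _ (thH_bijective hF L)
  have he : ∀ c, thH F L (e.symm (p ≫ thH I L c)) = p ≫ thH I L c := fun c => e.apply_symm_apply _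
  refine ⟨{ toFun := fun c => e.symm (p ≫ thH I L c)
            map_add' := fun c d => (thH_bijective hF L).1 (by
              rw [he, thH_add, thH_add, he, he, Preadditive.comp_add])
            map_smul' := fun r c => (thH_bijective hF L).1 (by
              simp only [RingHom.id_apply]
              rw [he, thH_smul, thH_smul, he, Category.assoc]) }, he⟩

end Groth.Agent.VBLib.HomH0
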